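import Groth.Agent.L23.SourceDescent
import Mathlib.AlgebraicGeometry.Morphisms.Etale
import Mathlib.RingTheory.Etale.Locus
import Mathlib.RingTheory.Extension.Cotangent.BaseChange
import Mathlib.RingTheory.Kaehler.TensorProduct

/-!
The etale locus of a morphism descends along flat base change.
-/

set_option autoImplicit false
set_option backward.isDefEq.respectTransparency false
set_option backward.isDefEq.respectTransparency.types false

universe u

open CategoryTheory CategoryTheory.Limits AlgebraicGeometry TensorProduct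

noncomputable section

namespace Groth.L24.Boot

section Ring

attribute [local instance] Algebra.TensorProduct.rightAlgebra

variable {P P' C : Type u} [CommRing P] [CommRing P'] [CommRing C] [Algebra P P'] [Algebra P C]
  [Module.Flat P P']

theorem exists_annihilator_notMem {M N : Type u} [AddCommGroup M] [Module P M] [Module C M]
    [IsScalarTower P C M] [AddCommGroup N] [Module (P' ⊗[P] C) N]
    (g : P' ⊗[P] M →+ N) (hg : Function.Injective g)
    (hgs : ∀ (t : P') (c : C) (m : M), g (t ⊗ₜ (c • m)) = (t ⊗ₜ[P] c) • g (1 ⊗ₜ m))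
    (z : Ideal (P' ⊗[P] C)) (hz : ∀ n : N, ∃ r ∉ z, r • n = 0) (m : M) :
    ∃ a ∉ z.comap (Algebra.TensorProduct.includeRight : C →ₐ[P] P' ⊗[P] C), a • m = 0 := by
  obtain ⟨c, hcz, hc⟩ := hz (g (1 ⊗ₜ m))
  let μ : C →ₗ[P] M := (LinearMap.toSpanSingleton C M m).restrictScalars P
  let k : P' ⊗[P] C →ₗ[P] P' ⊗[P] M := μ.lTensor P'
  have hk : ∀ y, g (k y) = y • g (1 ⊗ₜ m) := fun y => by
    induction y with
    | zero => simp
    | tmul t c => simpa [k, μ] using hgs t c m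
    | add a b ha hb => rw [map_add, map_add, ha, hb, add_smul]
  have hck : k c = 0 := hg (by rw [hk, hc, map_zero])
  obtain ⟨y, hy⟩ := (Module.Flat.lTensor_exact P' (LinearMap.exact_subtype_ker_map μ) c).1 hck
  by_contra h
  push Not at h
  apply hcz
  rw [← hy]
  clear hy hck
  induction y with
  | zero => simp
  | tmul t a =>
    have ha : (a : C) • m = 0 := a.2
    have h1 : (1 : P') ⊗ₜ[P] (a : C) ∈ z := by
      by_contra hn
      exact h _ hn ha
    have e : (LinearMap.lTensor P' (LinearMap.ker μ).subtype) (t ⊗ₜ a) =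
        (t ⊗ₜ[P] (1 : C)) * ((1 : P') ⊗ₜ[P] (a : C)) := by simp
    rw [e]
    exact z.mul_mem_left _ h1
  | add a b ha hb => rw [map_add]; exact z.add_mem ha hb

/-- A flat base change of an algebra etale at a prime was etale at the image prime. -/
theorem isEtaleAt_of_baseChange (z : PrimeSpectrum (P' ⊗[P] C))
    (h : z ∈ Algebra.etaleLocus P' (P' ⊗[P] C)) :
    PrimeSpectrum.comap (Algebra.TensorProduct.includeRight : C →ₐ[P] P' ⊗[P] C).toRingHom z ∈
      Algebra.etaleLocus P C := by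
  rw [Algebra.etaleLocus_eq_compl_support] at h ⊢
  constructor
  · refine Module.notMem_support_iff'.2 fun m => ?_
    let e := KaehlerDifferential.tensorKaehlerEquivBase P P' C (P' ⊗[P] C)
    refine exists_annihilator_notMem e.toLinearMap.toAddMonoidHom e.injective ?_ z.asIdeal
      (Module.notMem_support_iff'.1 h.1) m
    intro t c m
    show e (t ⊗ₜ (c • m)) = (t ⊗ₜ[P] c) • e (1 ⊗ₜ m)
    simp only [e, KaehlerDifferential.tensorKaehlerEquivBase, LinearEquiv.coe_mk]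
    simp only [LinearMap.liftBaseChange_tmul, LinearMap.coe_restrictScalars, one_smul, map_smul]
    rw [← algebraMap_smul (P' ⊗[P] C) t, ← algebraMap_smul (P' ⊗[P] C) c, smul_smul]
    congr 1
    simp [Algebra.TensorProduct.algebraMap_apply, Algebra.TensorProduct.right_algebraMap_apply]
  · refine Module.notMem_support_iff'.2 fun m => ?_
    let e := Algebra.tensorH1CotangentOfFlat P C P'
    refine exists_annihilator_notMem e.toLinearMap.toAddMonoidHom e.injective ?_ z.asIdeal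
      (Module.notMem_support_iff'.1 h.2) m
    intro t c m
    show e (t ⊗ₜ (c • m)) = (t ⊗ₜ[P] c) • e (1 ⊗ₜ m)
    rw [Algebra.tensorH1CotangentOfFlat_tmul, Algebra.tensorH1CotangentOfFlat_tmul, one_smul, map_smul,
      ← algebraMap_smul (P' ⊗[P] C) t, ← algebraMap_smul (P' ⊗[P] C) c, smul_smul]
    congr 1
    simp [Algebra.TensorProduct.algebraMap_apply, Algebra.TensorProduct.right_algebraMap_apply]

end Ring

section Scheme

variable {X Y X' Y' : Scheme.{u}}

/-- The etale locus of a morphism. -/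
def etaleSet (φ : X ⟶ Y) : X.Opens :=
  ⨆ V : {V : X.Opens // Etale (V.ι ≫ φ)}, V.1

theorem le_etaleSet {φ : X ⟶ Y} {V : X.Opens} (h : Etale (V.ι ≫ φ)) : V ≤ etaleSet φ :=
  le_iSup (fun V : {V : X.Opens // Etale (V.ι ≫ φ)} => V.1) ⟨V, h⟩

theorem etale_etaleSet (φ : X ⟶ Y) : Etale ((etaleSet φ).ι ≫ φ) := by
  let 𝒰 : (etaleSet φ).toScheme.OpenCover := Scheme.Cover.mkOfCovers {V : X.Opens // Etale (V.ι ≫ φ)}
    (fun V => V.1.toScheme) (fun V => X.homOfLE (le_etaleSet V.2)) (fun x => by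
      obtain ⟨V, hV⟩ := TopologicalSpace.Opens.mem_iSup.1 x.2
      refine ⟨V, ⟨x.1, hV⟩, (etaleSet φ).ι.isOpenEmbedding.injective ?_⟩
      rw [← Scheme.Hom.comp_apply, Scheme.homOfLE_ι]
      rfl) (fun V => inferInstance)
  refine IsZariskiLocalAtSource.of_openCover (P := @Etale) 𝒰 fun V => ?_
  show Etale (X.homOfLE (le_etaleSet V.2) ≫ (etaleSet φ).ι ≫ φ)
  rw [Scheme.homOfLE_ι_assoc]
  exact V.2

theorem mem_etaleSet_of_isOpenImmersion {W : Scheme.{u}} {φ : X ⟶ Y} (j : W ⟶ X) [IsOpenImmersion j]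
    [Etale (j ≫ φ)] (w : W) : j w ∈ etaleSet φ := by
  refine le_etaleSet (V := j.opensRange) ?_ ⟨w, rfl⟩
  have e : j.isoOpensRange.inv ≫ j ≫ φ = j.opensRange.ι ≫ φ := by
    rw [← Category.assoc]
    congr 1
    rw [Iso.inv_comp_eq]
    exact (Scheme.Hom.isoOpensRange_hom_ι j).symm
  rw [← e]
  infer_instance

theorem etale_of_mem_etaleSet {W : Scheme.{u}} (j : W ⟶ X) (φ : X ⟶ Y) [Etale j]
    (h : ∀ w, j w ∈ etaleSet φ) : Etale (j ≫ φ) := by
  let j' := IsOpenImmersion.lift (etaleSet φ).ι j (by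
    rw [Scheme.Opens.range_ι]; rintro _ ⟨w, rfl⟩; exact h w)
  have hj : j' ≫ (etaleSet φ).ι = j := IsOpenImmersion.lift_fac _ _ _
  have : Etale j' := MorphismProperty.of_postcomp (W := @Etale) j' (etaleSet φ).ι
    (inferInstance : Etale (etaleSet φ).ι) (by rw [hj]; infer_instance)
  have := etale_etaleSet φ
  rw [← hj, Category.assoc]
  infer_instance

theorem etale_of_etaleSet_eq_top {φ : X ⟶ Y} (h : ∀ x, x ∈ etaleSet φ) : Etale φ := by
  have := etale_of_mem_etaleSet (𝟙 X) φ h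
  rwa [Category.id_comp] at this

theorem mem_etaleSet_comp_iff (q : X' ⟶ X) [Etale q] (φ : X ⟶ Y) (z : X') :
    q z ∈ etaleSet φ ↔ z ∈ etaleSet (q ≫ φ) := by
  constructor
  · intro h
    refine le_etaleSet (V := q ⁻¹ᵁ etaleSet φ) ?_ h
    rw [← Category.assoc]
    exact etale_of_mem_etaleSet ((q ⁻¹ᵁ etaleSet φ).ι ≫ q) φ fun w => w.2
  · intro h
    have := etale_etaleSet (q ≫ φ)
    let k := (etaleSet (q ≫ φ)).ι ≫ q
    let O : X.Opens := ⟨Set.range k, k.isOpenMap.isOpen_range⟩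
    let k' := IsOpenImmersion.lift O.ι k (by rw [Scheme.Opens.range_ι]; rfl)
    have hk : k' ≫ O.ι = k := IsOpenImmersion.lift_fac _ _ _
    have : Etale k' := MorphismProperty.of_postcomp (W := @Etale) k' O.ι
      (inferInstance : Etale O.ι) (by rw [hk]; exact (inferInstance : Etale k))
    have : Surjective k' := ⟨fun x => by
      obtain ⟨w, hw⟩ := x.2
      refine ⟨w, O.ι.isOpenEmbedding.injective ?_⟩
      rw [← Scheme.Hom.comp_apply, hk]; exact hw⟩
    have : Etale (O.ι ≫ φ) := Groth.L23.etale_of_etale_comp' k' _ (by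
      rw [reassoc_of% hk]; simpa [k] using etale_etaleSet (q ≫ φ))
    exact le_etaleSet this ⟨⟨z, h⟩, rfl⟩

/-- Etaleness at a point descends along flat base change. -/
theorem mem_etaleSet_of_isPullback {q : X' ⟶ X} {φ' : X' ⟶ Y'} {φ : X ⟶ Y} {g : Y' ⟶ Y}
    (sq : IsPullback q φ' φ g) [Flat g] [LocallyOfFinitePresentation φ] {z : X'}
    (h : z ∈ etaleSet φ') : q z ∈ etaleSet φ := by
  obtain ⟨_, ⟨U, hU, rfl⟩, hzU, -⟩ := Y.isBasis_affineOpens.exists_subset_of_mem_open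
    (Set.mem_univ (φ (q z))) isOpen_univ
  have hzU' : φ' z ∈ g ⁻¹ᵁ U := by
    show g (φ' z) ∈ U
    rw [← Scheme.Hom.comp_apply, ← sq.w, Scheme.Hom.comp_apply]
    exact hzU
  obtain ⟨_, ⟨U', hU', rfl⟩, hzU'', hUU : U' ≤ g ⁻¹ᵁ U⟩ :=
    Y'.isBasis_affineOpens.exists_subset_of_mem_open hzU' (g ⁻¹ᵁ U).2
  obtain ⟨_, ⟨V, hV, rfl⟩, hzV, hVU : V ≤ φ ⁻¹ᵁ U⟩ :=
    X.isBasis_affineOpens.exists_subset_of_mem_open (show q z ∈ φ ⁻¹ᵁ U from hzU) (φ ⁻¹ᵁ U).2
  have hflat : (g.appLE U U' hUU).hom.Flat := HasRingHomProperty.appLE @Flat g inferInstance ⟨U, hU⟩ ⟨U', hU'⟩ hUU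
  have hfp : (φ.appLE U V hVU).hom.FinitePresentation :=
    HasRingHomProperty.appLE @LocallyOfFinitePresentation φ inferInstance ⟨U, hU⟩ ⟨V, hV⟩ hVU
  algebraize [(φ.appLE U V hVU).hom, (g.appLE U U' hUU).hom]
  let j : Spec (.of (Γ(Y', U') ⊗[Γ(Y, U)] Γ(X, V))) ⟶ X' :=
    (pullbackSpecIso Γ(Y, U) Γ(Y', U') Γ(X, V)).inv ≫ (pullbackSymmetry _ _).hom ≫
      pullback.map (Spec.map (φ.appLE U V hVU)) (Spec.map (g.appLE U U' hUU)) φ g hV.fromSpec
        hU'.fromSpec hU.fromSpec (IsAffineOpen.SpecMap_appLE_fromSpec ..) (IsAffineOpen.SpecMap_appLE_fromSpec ..) ≫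
      sq.isoPullback.inv
  have hjq : j ≫ q = Spec.map (CommRingCat.ofHom
      (Algebra.TensorProduct.includeRight : Γ(X, V) →ₐ[Γ(Y, U)] Γ(Y', U') ⊗[Γ(Y, U)] Γ(X, V)).toRingHom) ≫
      hV.fromSpec := by
    simp only [j, Category.assoc, IsPullback.isoPullback_inv_fst, pullback.lift_fst]
    erw [pullbackSymmetry_hom_comp_fst_assoc, pullbackSpecIso_inv_snd_assoc]
    rfl
  have hjφ : j ≫ φ' = Spec.map (CommRingCat.ofHom (algebraMap Γ(Y', U') (Γ(Y', U') ⊗[Γ(Y, U)] Γ(X, V)))) ≫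
      hU'.fromSpec := by
    simp only [j, Category.assoc, IsPullback.isoPullback_inv_snd, pullback.lift_snd]
    erw [pullbackSymmetry_hom_comp_snd_assoc, pullbackSpecIso_inv_fst_assoc]
    rfl
  obtain ⟨w, rfl⟩ : z ∈ Set.range j := by
    have hr : sq.isoPullback.hom z ∈ Set.range (pullback.map (Spec.map (φ.appLE U V hVU))
        (Spec.map (g.appLE U U' hUU)) φ g hV.fromSpec hU'.fromSpec hU.fromSpec
        (IsAffineOpen.SpecMap_appLE_fromSpec ..) (IsAffineOpen.SpecMap_appLE_fromSpec ..)) := by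
      rw [Scheme.Pullback.range_map, Set.mem_inter_iff, Set.mem_preimage, Set.mem_preimage,
        ← Scheme.Hom.comp_apply, ← Scheme.Hom.comp_apply, sq.isoPullback_hom_fst, sq.isoPullback_hom_snd,
        hV.range_fromSpec, hU'.range_fromSpec]
      exact ⟨hzV, hzU''⟩
    obtain ⟨p, hp⟩ := hr
    obtain ⟨p₀, rfl⟩ := ((pullbackSpecIso Γ(Y, U) Γ(Y', U') Γ(X, V)).inv ≫
      (pullbackSymmetry _ _).hom).surjective p
    refine ⟨p₀, sq.isoPullback.hom.isOpenEmbedding.injective ?_⟩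
    rw [← Scheme.Hom.comp_apply, ← hp]
    simp only [j, Category.assoc, Iso.inv_hom_id, Category.comp_id]
    rfl
  obtain ⟨_, ⟨_, ⟨f, rfl⟩, rfl⟩, hwf, hf⟩ :=
    PrimeSpectrum.isBasis_basic_opens.exists_subset_of_mem_open
      (show w ∈ j ⁻¹' (etaleSet φ' : Set X') from h) ((etaleSet φ').2.preimage j.continuous)
  let ι := Spec.map (CommRingCat.ofHom (algebraMap (Γ(Y', U') ⊗[Γ(Y, U)] Γ(X, V)) (Localization.Away f)))
  have hι : Etale ((ι ≫ j) ≫ φ') := etale_of_mem_etaleSet (ι ≫ j) φ' fun p => hf (by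
    rw [← PrimeSpectrum.localization_away_comap_range (Localization.Away f) f]
    exact ⟨p, rfl⟩)
  have hFE : Algebra.Etale Γ(Y', U') (Localization.Away f) := by
    rw [Category.assoc, hjφ, ← Category.assoc, ← Spec.map_comp, ← CommRingCat.ofHom_comp,
      ← IsScalarTower.algebraMap_eq] at hι
    have := MorphismProperty.of_postcomp (W := @Etale) _ hU'.fromSpec
      (inferInstance : Etale hU'.fromSpec) hι
    exact RingHom.etale_algebraMap.1 (HasRingHomProperty.Spec_iff.1 this)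
  have hp := isEtaleAt_of_baseChange w (Algebra.basicOpen_subset_etaleLocus_iff.2 inferInstance hwf)
  let x₀ := PrimeSpectrum.comap (Algebra.TensorProduct.includeRight :
      Γ(X, V) →ₐ[Γ(Y, U)] Γ(Y', U') ⊗[Γ(Y, U)] Γ(X, V)).toRingHom w
  have : Algebra.IsEtaleAt Γ(Y, U) x₀.asIdeal := hp
  obtain ⟨f₁, hf₁, hf₁e⟩ := Algebra.exists_etale_of_isEtaleAt (R := Γ(Y, U)) x₀.asIdeal
  let ι₁ := Spec.map (CommRingCat.ofHom (algebraMap Γ(X, V) (Localization.Away f₁))) ≫ hV.fromSpec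
  have : Etale (ι₁ ≫ φ) := by
    have e : ι₁ ≫ φ = Spec.map (CommRingCat.ofHom (algebraMap Γ(Y, U) (Localization.Away f₁))) ≫ hU.fromSpec := by
      rw [Category.assoc, ← IsAffineOpen.SpecMap_appLE_fromSpec φ hU hV hVU, ← Category.assoc, ← Spec.map_comp]
      rfl
    rw [e]
    have : Etale (Spec.map (CommRingCat.ofHom (algebraMap Γ(Y, U) (Localization.Away f₁)))) :=
      HasRingHomProperty.Spec_iff.2 (RingHom.etale_algebraMap.2 hf₁e)
    infer_instance
  obtain ⟨w₁, hw₁⟩ : PrimeSpectrum.comap (Algebra.TensorProduct.includeRight :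
      Γ(X, V) →ₐ[Γ(Y, U)] Γ(Y', U') ⊗[Γ(Y, U)] Γ(X, V)).toRingHom w ∈
      Set.range (PrimeSpectrum.comap (algebraMap Γ(X, V) (Localization.Away f₁))) := by
    rw [PrimeSpectrum.localization_away_comap_range (Localization.Away f₁) f₁]; exact hf₁
  have e : q (j w) = ι₁ w₁ := by
    rw [← Scheme.Hom.comp_apply, hjq, Scheme.Hom.comp_apply, Scheme.Hom.comp_apply]
    exact congrArg hV.fromSpec hw₁.symm
  rw [e]
  exact mem_etaleSet_of_isOpenImmersion ι₁ w₁

end Scheme

end Groth.L24.Boot
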