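import Groth.Agent.L24.Boot.RootsUnity
import Mathlib.AlgebraicGeometry.Morphisms.Smooth
import Mathlib.AlgebraicGeometry.Morphisms.Etale
import Mathlib.AlgebraicGeometry.AffineScheme
import Mathlib.AlgebraicGeometry.PullbackCarrier
import Mathlib.FieldTheory.IsAlgClosed.AlgebraicClosure
import Mathlib.RingTheory.RingHom.StandardSmooth
import Mathlib.RingTheory.LocalRing.ResidueField.Ideal
import Mathlib.RingTheory.MvPolynomial.Basic
import Mathlib.RingTheory.Smooth.Flat
import Mathlib.AlgebraicGeometry.Morphisms.UniversallyOpen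

/-!
A smooth morphism has sections etale locally on its image.
-/

set_option autoImplicit false

universe u

open CategoryTheory CategoryTheory.Limits AlgebraicGeometry

noncomputable section

namespace Groth.L24.Boot

/-- The image of an etale algebra over a polynomial ring contains a point with coordinates in an etale
algebra over the base, over every point of the base in its image. -/
theorem exists_etale_coord {R A : Type u} [CommRing R] [CommRing A] {n : ℕ}
    (φ : MvPolynomial (Fin n) R →+* A) (hφ : φ.Etale) (a : PrimeSpectrum A) :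
    ∃ (E : Type u) (_ : CommRing E) (_ : Algebra R E) (_ : Algebra.Etale R E) (r : Fin n → E)
      (q : PrimeSpectrum E) (b : PrimeSpectrum A),
      q.comap (algebraMap R E) = a.comap (φ.comp MvPolynomial.C) ∧
      b.comap φ = q.comap (MvPolynomial.aeval r : MvPolynomial (Fin n) R →ₐ[R] E).toRingHom := by
  classical
  let P0 := a.comap φ
  let p := P0.comap (MvPolynomial.C : R →+* MvPolynomial (Fin n) R)
  have hO : IsOpen (Set.range (PrimeSpectrum.comap φ)) := by
    algebraize [φ]
    exact PrimeSpectrum.isOpenMap_comap_of_hasGoingDown_of_finitePresentation.isOpen_range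
  obtain ⟨_, ⟨_, ⟨F, rfl⟩, rfl⟩, hF0, hF⟩ := PrimeSpectrum.isBasis_basic_opens.exists_subset_of_mem_open
    (show P0 ∈ Set.range (PrimeSpectrum.comap φ) from ⟨a, rfl⟩) hO
  let K := AlgebraicClosure p.asIdeal.ResidueField
  have hp : RingHom.ker (algebraMap R K) = p.asIdeal := by
    rw [IsScalarTower.algebraMap_eq R p.asIdeal.ResidueField K, RingHom.ker_comp_of_injective _
      (algebraMap p.asIdeal.ResidueField K).injective, Ideal.ker_algebraMap_residueField]
  have hF' : MvPolynomial.map (algebraMap R K) F ≠ 0 := by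
    intro h
    refine hF0 (Ideal.map_le_iff_le_comap.2 (le_refl p.asIdeal) ?_)
    refine MvPolynomial.mem_map_C_iff.2 fun m => ?_
    rw [← hp, RingHom.mem_ker, ← MvPolynomial.coeff_map, h, MvPolynomial.coeff_zero]
  obtain ⟨m, hm, hmK, k, hk, hkF⟩ := exists_roots_avoid _ hF'
  obtain ⟨E, _, _, _, r, hr⟩ := exists_rootsAlgebra R m hm n
  obtain ⟨ψ, hψ⟩ := hr K k hmK hk
  let q : PrimeSpectrum E := PrimeSpectrum.comap ψ.toRingHom ⊥
  have hq : q.comap (algebraMap R E) = p := by
    ext1
    simp only [q, PrimeSpectrum.comap_asIdeal, Ideal.comap_comap, PrimeSpectrum.asIdeal_bot,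
      AlgHom.toRingHom_eq_coe, AlgHom.comp_algebraMap, ← RingHom.ker_eq_comap_bot]
    rw [RingHom.comap_ker, AlgHom.comp_algebraMap, hp]
  obtain ⟨b, hb⟩ : q.comap (MvPolynomial.aeval r : MvPolynomial (Fin n) R →ₐ[R] E).toRingHom ∈
      Set.range (PrimeSpectrum.comap φ) := hF (by
    intro hmem
    refine hkF ?_
    change ψ (MvPolynomial.aeval r F) = 0 at hmem
    rw [MvPolynomial.eval_map, ← MvPolynomial.aeval_def]
    rw [← AlgHom.comp_apply, MvPolynomial.comp_aeval] at hmem
    rwa [show (fun i => ψ (r i)) = k from funext hψ] at hmem)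
  exact ⟨E, inferInstance, inferInstance, inferInstance, r, q, b, hq, hb⟩

/-- A smooth morphism has a section over an etale neighbourhood of every point of its image. -/
theorem exists_etale_nhd_section {X S : Scheme.{u}} (f : X ⟶ S) [Smooth f] (x : X) :
    ∃ (S' : Scheme.{u}) (g : S' ⟶ S) (s' : S') (h : S' ⟶ X), Etale g ∧ g s' = f x ∧ h ≫ f = g := by
  obtain ⟨U, hU, V, hV, hx, e, hs⟩ := Smooth.exists_isStandardSmooth f x
  obtain ⟨n, φ, hφC, hφ⟩ := hs.exists_etale_mvPolynomial
  obtain ⟨a, ha⟩ : ∃ a, hV.fromSpec a = x := by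
    have : x ∈ Set.range hV.fromSpec := by rw [hV.range_fromSpec]; exact hx
    exact this
  obtain ⟨E, _, _, _, r, q, b, hq, hb⟩ := exists_etale_coord φ hφ a
  let ρ : MvPolynomial (Fin n) Γ(S, U) →+* E :=
    (MvPolynomial.aeval r : MvPolynomial (Fin n) Γ(S, U) →ₐ[Γ(S, U)] E).toRingHom
  let π : Spec Γ(X, V) ⟶ Spec (CommRingCat.of (MvPolynomial (Fin n) Γ(S, U))) :=
    Spec.map (CommRingCat.ofHom φ)
  let j : Spec (CommRingCat.of E) ⟶ Spec (CommRingCat.of (MvPolynomial (Fin n) Γ(S, U))) :=
    Spec.map (CommRingCat.ofHom ρ)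
  let α : CommRingCat.of Γ(S, U) ⟶ CommRingCat.of E := CommRingCat.ofHom (algebraMap Γ(S, U) E)
  let c : CommRingCat.of Γ(S, U) ⟶ CommRingCat.of (MvPolynomial (Fin n) Γ(S, U)) :=
    CommRingCat.ofHom MvPolynomial.C
  have hπ : Etale π := HasRingHomProperty.Spec_iff.2 hφ
  have hα : Etale (Spec.map α) := HasRingHomProperty.Spec_iff.2 (RingHom.etale_algebraMap.2 ‹_›)
  have hφ' : f.appLE U V e = c ≫ CommRingCat.ofHom φ := CommRingCat.hom_ext hφC.symm
  have hρ : c ≫ CommRingCat.ofHom ρ = α :=
    CommRingCat.hom_ext (MvPolynomial.aeval r).comp_algebraMap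
  obtain ⟨t, -, ht⟩ := Scheme.Pullback.exists_preimage_pullback (f := π) (g := j) b q hb
  refine ⟨pullback π j, pullback.snd π j ≫ Spec.map α ≫ hU.fromSpec, t,
    pullback.fst π j ≫ hV.fromSpec, ?_, ?_, ?_⟩
  · have : Etale (pullback.snd π j) := inferInstance
    infer_instance
  · rw [Scheme.Hom.comp_apply, Scheme.Hom.comp_apply, ht]
    have : Spec.map α q = Spec.map (f.appLE U V e) a := by
      refine hq.trans ?_
      rw [hφC]
      rfl
    rw [this, ← Scheme.Hom.comp_apply, hU.SpecMap_appLE_fromSpec f hV e, Scheme.Hom.comp_apply, ha]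
  · rw [Category.assoc, ← hU.SpecMap_appLE_fromSpec f hV e, hφ', Spec.map_comp, ← hρ, Spec.map_comp,
      Category.assoc, Category.assoc, pullback.condition_assoc]

end Groth.L24.Boot
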