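import Groth.Agent.L24.Boot.LqfEq
import Groth.Agent.L09.GrpQuot
import Groth.Agent.L23.Epi

/-!
Morphisms of fppf sheaves determined on points; equivalence relations of sheaves are kernel pairs.
-/

set_option autoImplicit false
set_option backward.isDefEq.respectTransparency false
set_option backward.isDefEq.respectTransparency.types false

universe u

open CategoryTheory CategoryTheory.Limits AlgebraicGeometry Opposite AlgSp

noncomputable section

namespace Groth.L24.Boot

variable {S : Scheme.{u}} {F : Sp S}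

theorem isIso_of_yon {P Q : Sp S} (l : P ⟶ Q)
    (hinj : ∀ (T : Over S) (x y : (yon S).obj T ⟶ P), x ≫ l = y ≫ l → x = y)
    (hsurj : ∀ (T : Over S) (y : (yon S).obj T ⟶ Q), ∃ x, x ≫ l = y) : IsIso l := by
  have hbij : ∀ T, Function.Bijective (l.hom.app (op T)) := fun T => by
    have hh : ∀ k, l.hom.app (op T) ((J S).uliftYonedaEquiv.{u + 1} k) = (J S).uliftYonedaEquiv.{u + 1} (k ≫ l) :=
      fun k => ((J S).uliftYonedaEquiv_comp k l).symm
    refine ⟨fun x x' hxx => ?_, fun y => ?_⟩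
    · obtain ⟨k, rfl⟩ := (J S).uliftYonedaEquiv.{u + 1}.surjective x
      obtain ⟨k', rfl⟩ := (J S).uliftYonedaEquiv.{u + 1}.surjective x'
      rw [hh, hh, Equiv.apply_eq_iff_eq] at hxx
      rw [hinj T k k' hxx]
    · obtain ⟨y, rfl⟩ := (J S).uliftYonedaEquiv.{u + 1}.surjective y
      obtain ⟨z, hz⟩ := hsurj T y
      exact ⟨_, (hh z).trans (congrArg _ hz)⟩
  have : ∀ T, IsIso (l.hom.app T) := fun T => (isIso_iff_bijective _).2 (hbij T.unop)
  have : IsIso l.hom := NatIso.isIso_of_isIso_app _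
  have : IsIso ((sheafToPresheaf (J S) (Type (u + 1))).map l) := ‹IsIso l.hom›
  exact isIso_of_reflects_iso l (sheafToPresheaf (J S) _)

variable {R U : Sp S} {s t : R ⟶ U}

/-- A map into a relation exists if it does on points. -/
theorem exists_hom_rel (h : IsEqvRelSp s t) {X : Sp S} (a b : X ⟶ U)
    (hp : ∀ (T : Over S) (x : (yon S).obj T ⟶ X), ∃ r, r ≫ t = x ≫ a ∧ r ≫ s = x ≫ b) :
    ∃ r : X ⟶ R, r ≫ t = a ∧ r ≫ s = b := by
  have sq := IsPullback.of_hasPullback (prod.lift t s) (prod.lift a b)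
  have hfst : ∀ {T : Over S} (x : (yon S).obj T ⟶ pullback (prod.lift t s) (prod.lift a b)),
      (x ≫ pullback.fst _ _) ≫ t = (x ≫ pullback.snd _ _) ≫ a ∧
        (x ≫ pullback.fst _ _) ≫ s = (x ≫ pullback.snd _ _) ≫ b := fun x =>
    ⟨by simpa using congrArg (x ≫ ·) (sq.w =≫ prod.fst),
      by simpa using congrArg (x ≫ ·) (sq.w =≫ prod.snd)⟩
  have : IsIso (pullback.snd (prod.lift t s) (prod.lift a b)) := isIso_of_yon _
    (fun T x y e => sq.hom_ext (h.injective T _ _ (by rw [(hfst x).1, (hfst y).1, e])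
      (by rw [(hfst x).2, (hfst y).2, e])) e)
    fun T y => by
      obtain ⟨r, hr1, hr2⟩ := hp T y
      exact ⟨sq.lift r y (by apply Limits.prod.hom_ext <;> simp [hr1, hr2]), sq.lift_snd _ _ _⟩
  refine ⟨inv (pullback.snd (prod.lift t s) (prod.lift a b)) ≫ pullback.fst _ _, ?_, ?_⟩
  · have e := sq.w =≫ prod.fst
    simp at e
    rw [Category.assoc, e, IsIso.inv_hom_id_assoc]
  · have e := sq.w =≫ prod.snd
    simp at e
    rw [Category.assoc, e, IsIso.inv_hom_id_assoc]

theorem jointly_mono (h : IsEqvRelSp s t) {X : Sp S} {r r' : X ⟶ R} (h₁ : r ≫ t = r' ≫ t)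
    (h₂ : r ≫ s = r' ≫ s) : r = r' :=
  Groth.L23.hom_ext_yon fun T x => h.injective T _ _ (by simp [h₁]) (by simp [h₂])

/-- An equivalence relation on points is an equivalence relation of sheaves. -/
theorem nonempty_equivalenceRelation (h : IsEqvRelSp s t) : Nonempty (EquivalenceRelation t s) := by
  obtain ⟨r, hr1, hr2⟩ := exists_hom_rel h (𝟙 U) (𝟙 U) fun T x => by
    simpa using (h.equivalence T).refl x
  obtain ⟨σ, hσ1, hσ2⟩ := exists_hom_rel h s t fun T x =>
    (h.equivalence T).symm ⟨x, rfl, rfl⟩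
  obtain ⟨τ, hτ1, hτ2⟩ := exists_hom_rel h (pullback.fst s t ≫ t) (pullback.snd s t ≫ s) fun T x =>
    (h.equivalence T).trans (x := x ≫ pullback.fst s t ≫ t) (y := x ≫ pullback.fst s t ≫ s)
      (z := x ≫ pullback.snd s t ≫ s) ⟨x ≫ pullback.fst s t, by simp, by simp⟩
      ⟨x ≫ pullback.snd s t, by simp [pullback.condition], by simp⟩
  exact ⟨{
    right_cancellation := fun _ f g h₁ h₂ => jointly_mono h h₁ h₂
    r := r
    reflexivity₁ := hr1
    reflexivity₂ := hr2
    s := σ
    symmetry₁ := hσ1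
    symmetry₂ := hσ2
    c := PullbackCone.mk (pullback.fst s t) (pullback.snd s t) pullback.condition
    isLimit := pullbackIsPullback _ _
    t := τ
    transitivity₁ := hτ1
    transitivity₂ := hτ2 }⟩

instance epi_quotSpπ (s t : R ⟶ U) : Epi (quotSpπ s t) := inferInstanceAs (Epi (coequalizer.π s t))

/-- An equivalence relation is the kernel pair of its quotient. -/
theorem isPullback_quotSpπ (h : IsEqvRelSp s t) : IsPullback t s (quotSpπ s t) (quotSpπ s t) := by
  obtain ⟨e₀⟩ := nonempty_equivalenceRelation h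
  obtain ⟨e⟩ := Groth.L09.GrpQuot.ToposLike.ueer e₀
  let f : quotSp s t ⟶ e.B := quotSpDesc e.π e.isKernelPair.w.symm
  let g : e.B ⟶ quotSp s t := e.isPushout.desc (quotSpπ s t) (quotSpπ s t) (quotSp_condition s t).symm
  have hg : e.π ≫ g = quotSpπ s t := e.isPushout.inl_desc _ _ _
  have hf : quotSpπ s t ≫ f = e.π := quotSpπ_desc _ _ _ _
  have := Groth.L09.UEffEpi.epi e.universally_effectiveEpi_π
  let I : e.B ≅ quotSp s t :=
    ⟨g, f, by rw [← cancel_epi e.π, ← Category.assoc, hg, hf, Category.comp_id],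
      by rw [← cancel_epi (quotSpπ s t), ← Category.assoc, hf, hg, Category.comp_id]⟩
  exact e.isKernelPair.of_iso (Iso.refl _) (Iso.refl _) (Iso.refl _) I
    (by simp) (by simp) (by simp [I, hg]) (by simp [I, hg])

end Groth.L24.Boot
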