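import Groth.Agent.L24.Boot.FQSlice
import Groth.Agent.L23.Glue
import Groth.Agent.L23.Epi
import Mathlib.CategoryTheory.Limits.Preserves.Shapes.BinaryProducts

/-!
A presentation by flat quasi-finite charts is representable on affine opens of its source; descent of
morphisms to sheaves along single fppf coverings.
-/

set_option autoImplicit false
set_option backward.isDefEq.respectTransparency false
set_option backward.isDefEq.respectTransparency.types false

universe u

open CategoryTheory CategoryTheory.Limits AlgebraicGeometry Opposite AlgSp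

noncomputable section

namespace Groth.L24.Boot

variable {S : Scheme.{u}} {F : Sp S}

section Descent

variable {V T : Over S} (g : V ⟶ T) [Flat g.left] [LocallyOfFinitePresentation g.left] [Surjective g.left]

theorem fppf_mem_J : Sieve.ofArrows (fun _ : PUnit.{1} => V) (fun _ => g) ∈ J S T := by
  rw [GrothendieckTopology.mem_over_iff]
  let 𝒰 : Scheme.Cover.{u} Scheme.fppfPrecoverage.{u} T.left := Scheme.Cover.mkOfCovers PUnit.{u + 1}
    (fun _ => V.left) (fun _ => g.left) (fun t => ⟨PUnit.unit, g.left.surjective t⟩)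
    (fun _ => ⟨(inferInstance : Flat g.left), (inferInstance : LocallyOfFinitePresentation g.left)⟩)
  refine GrothendieckTopology.superset_covering _ ?_
    (Precoverage.generate_mem_toGrothendieck 𝒰.mem₀)
  rintro W v ⟨Z, a, _, ⟨_⟩, rfl⟩
  refine (Sieve.overEquiv_iff (Y := T) _ _).2 ?_
  refine ⟨V, Over.homMk a (by
    show a ≫ V.hom = (a ≫ g.left) ≫ T.hom
    rw [Category.assoc]
    exact congrArg _ (Over.w g).symm), g, ⟨PUnit.unit⟩, ?_⟩
  exact Over.OverMorphism.ext rfl

/-- Morphisms to a sheaf descend along a flat surjective morphism of finite presentation. -/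
theorem existsUnique_descend (x : (yon S).obj V ⟶ F)
    (hx : ∀ ⦃W : Over S⦄ (a b : W ⟶ V), a ≫ g = b ≫ g → (yon S).map a ≫ x = (yon S).map b ≫ x) :
    ∃! l : (yon S).obj T ⟶ F, (yon S).map g ≫ l = x := by
  have hF := (isSheaf_iff_isSheaf_of_type (J S) F.obj).1 F.property
  have h := (Presieve.isSheafFor_arrows_iff F.obj (fun _ : PUnit.{1} => g)).1
    ((Presieve.isSheafFor_iff_generate _).2 (hF _ (fppf_mem_J g)))
    (fun _ => (J S).uliftYonedaEquiv x) (fun _ _ W a b w => by
      rw [GrothendieckTopology.uliftYonedaEquiv_naturality, GrothendieckTopology.uliftYonedaEquiv_naturality]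
      exact congrArg _ (hx a b w))
  obtain ⟨t, ht, htu⟩ := h
  refine ⟨(J S).uliftYonedaEquiv.symm t, ?_, fun l hl => ?_⟩
  · apply (J S).uliftYonedaEquiv.injective
    rw [← GrothendieckTopology.uliftYonedaEquiv_naturality, Equiv.apply_symm_apply]
    exact ht PUnit.unit
  · rw [← htu ((J S).uliftYonedaEquiv l) fun _ => ?_, Equiv.symm_apply_apply]
    rw [GrothendieckTopology.uliftYonedaEquiv_naturality, hl]

theorem hom_ext_fppf {l l' : (yon S).obj T ⟶ F} (h : (yon S).map g ≫ l = (yon S).map g ≫ l') : l = l' :=
  (existsUnique_descend g ((yon S).map g ≫ l') fun W a b w => by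
    rw [← Functor.map_comp_assoc, w, Functor.map_comp_assoc]).unique h rfl

end Descent

/-- A sheaf with a monomorphism to a scheme and an etale covering by a scheme is a scheme. -/
theorem exists_yon_iso_of_mono {G : Sp S} {Y V : Over S} (g : G ⟶ (yon S).obj Y) [Mono g]
    (e : (yon S).obj V ⟶ G) (he : RepWith @Etale e) (hs : RepWith @Surjective e) (v : V ⟶ Y)
    [LocallyOfFiniteType v.left] (hv : (yon S).map v = e ≫ g) :
    ∃ (Z : Over S) (k : V ⟶ Z) (m : Z ⟶ Y) (i : (yon S).obj Z ≅ G),
      Etale k.left ∧ Surjective k.left ∧ Mono m.left ∧ k ≫ m = v ∧ i.hom ≫ g = (yon S).map m ∧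
        (yon S).map k ≫ i.hom = e := by
  have sq : IsPullback ((yon S).map (pullback.fst v v)) ((yon S).map (pullback.snd v v)) e e := by
    have h := (IsPullback.of_hasPullback v v).map (yon S)
    rw [hv] at h
    refine IsPullback.mk' ?_ (fun T a b h1 h2 => h.hom_ext h1 h2) fun T a b w => ?_
    · rw [← cancel_mono g, Category.assoc, Category.assoc]; exact h.w
    · exact ⟨h.lift a b (by rw [reassoc_of% w]), h.lift_fst _ _ _, h.lift_snd _ _ _⟩
  have he2 : Etale (pullback.snd v v).left := he.2 e _ _ sq
  have : Etale (pullback.fst v.left v.left) := by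
    have sq' : IsPullback (pullback.snd v v).left (pullback.fst v v).left v.left v.left :=
      ((IsPullback.of_hasPullback v v).map (Over.forget S)).flip
    rw [← sq'.isoPullback_inv_fst]
    exact (MorphismProperty.cancel_left_of_respectsIso @Etale _ _).2 he2
  obtain ⟨Q⟩ := exists_monoQuot v.left
  let Z : Over S := Over.mk (Q.m ≫ Y.hom)
  let m : Z ⟶ Y := Over.homMk Q.m rfl
  let k : V ⟶ Z := Over.homMk Q.e (by
    show Q.e ≫ Q.m ≫ Y.hom = _
    rw [reassoc_of% Q.fac]; exact Over.w v)
  have hkm : k ≫ m = v := Over.OverMorphism.ext Q.fac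
  have : Mono m := ⟨fun a b hab => Over.OverMorphism.ext
    ((cancel_mono Q.m).1 (congrArg CommaMorphism.left hab))⟩
  have : Epi e := Groth.L23.epi_of_repWith _ he hs
  have : Epi ((yon S).map k) := Groth.L23.epi_of_repWith _
    (Groth.L23.repWith_map (show Etale Q.e from inferInstance))
    (Groth.L23.repWith_map (show Surjective Q.e from inferInstance))
  let P := pullback g ((yon S).map m)
  let l : (yon S).obj V ⟶ P := pullback.lift e ((yon S).map k) (by rw [← hv, ← Functor.map_comp, hkm])
  have : Epi (l ≫ pullback.fst g ((yon S).map m)) := by rw [pullback.lift_fst]; infer_instance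
  have := epi_of_epi l (pullback.fst g ((yon S).map m))
  have : Epi (l ≫ pullback.snd g ((yon S).map m)) := by rw [pullback.lift_snd]; infer_instance
  have := epi_of_epi l (pullback.snd g ((yon S).map m))
  have : IsIso (pullback.fst g ((yon S).map m)) := isIso_of_mono_of_epi _
  have : IsIso (pullback.snd g ((yon S).map m)) := isIso_of_mono_of_epi _
  refine ⟨Z, k, m, (asIso (pullback.snd g ((yon S).map m))).symm ≪≫ asIso (pullback.fst g ((yon S).map m)),
    Q.etale, Q.surj, inferInstanceAs (Mono Q.m), hkm, ?_, ?_⟩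
  · simp [pullback.condition]
  · rw [Iso.trans_hom, Iso.symm_hom, asIso_inv, asIso_hom, ← Category.assoc,
      show (yon S).map k ≫ inv (pullback.snd g ((yon S).map m)) = l from by
        rw [IsIso.comp_inv_eq, pullback.lift_snd], pullback.lift_fst]

variable {U : Over S} {p : (yon S).obj U ⟶ F}

/-- The property of morphisms of the pieces of a presentation by flat quasi-finite charts. -/
abbrev LqfFlat : MorphismProperty Scheme.{u} :=
  @Flat ⊓ @LocallyQuasiFinite ⊓ @LocallyOfFinitePresentation ⊓ @IsSeparated

set_option maxHeartbeats 400000 in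
theorem repWith_openPiece (h : HasCharts (@Flat ⊓ @LocallyQuasiFinite ⊓ @LocallyOfFinitePresentation ⊓ @Surjective) p)
    (O : U.left.Opens) (hO : IsAffineOpen O) :
    RepWith LqfFlat ((yon S).map (Groth.L23.openOverι U O) ≫ p) := by
  let ι := Groth.L23.openOverι U O
  let U0 := Groth.L23.openOver U O
  let p0 := (yon S).map ι ≫ p
  have key : ∀ ⦃T : Over S⦄ (ξ : (yon S).obj T ⟶ F), ∃ (Z : Over S) (a : (yon S).obj Z ⟶ (yon S).obj U0)
      (b : Z ⟶ T), IsPullback a ((yon S).map b) p0 ξ ∧ LqfFlat b.left := by
    intro T ξ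
    obtain ⟨c, ⟨⟨hc1, hc2⟩, hc3⟩, -⟩ := h ξ
    let cr := c.restrict ι
    let a₃ : (yon S).obj cr.A ⟶ pullback ξ p0 := pullback.lift ((yon S).map cr.a) ((yon S).map cr.α) cr.w
    let g : pullback ξ p0 ⟶ (yon S).obj (T ⨯ U0) :=
      prod.lift (pullback.fst ξ p0) (pullback.snd ξ p0) ≫ (PreservesLimitPair.iso (yon S) T U0).inv
    have hg1 : g ≫ (yon S).map prod.fst = pullback.fst ξ p0 := by
      simp [g, PreservesLimitPair.iso_inv_fst]
      exact prod.lift_fst _ _
    have hg2 : g ≫ (yon S).map prod.snd = pullback.snd ξ p0 := by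
      simp [g, PreservesLimitPair.iso_inv_snd]
      exact prod.lift_snd _ _
    have : Mono g := ⟨fun a b hab => pullback.hom_ext
      (by rw [← hg1, reassoc_of% hab]) (by rw [← hg2, reassoc_of% hab])⟩
    let v : cr.A ⟶ T ⨯ U0 := prod.lift cr.a cr.α
    have hv : (yon S).map v = a₃ ≫ g := by
      rw [← cancel_mono (PreservesLimitPair.iso (yon S) T U0).hom]
      apply prod.hom_ext
      · simp [g, v, a₃, ← Functor.map_comp]
        erw [prod.lift_fst, pullback.lift_fst]
      · simp [g, v, a₃, ← Functor.map_comp]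
        erw [prod.lift_snd, pullback.lift_snd]
    have : IsOpenImmersion (pullback.fst c.α ι).left :=
      MorphismProperty.of_isPullback ((IsPullback.of_hasPullback c.α ι).map (Over.forget S)).flip
        (inferInstanceAs (IsOpenImmersion ι.left))
    have hcr : cr.a.left = (pullback.fst c.α ι).left ≫ c.a.left := rfl
    have : Flat c.a.left := hc1
    have : LocallyQuasiFinite c.a.left := hc2
    have : LocallyOfFinitePresentation c.a.left := hc3
    have : LocallyOfFiniteType v.left := by
      have : LocallyOfFiniteType (v.left ≫ (prod.fst : T ⨯ U0 ⟶ T).left) := by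
        rw [← Over.comp_left, prod.lift_fst, hcr]; infer_instance
      exact locallyOfFiniteType_of_comp _ (prod.fst : T ⨯ U0 ⟶ T).left
    obtain ⟨Z, k, m, i, hke, hks, hm, hkm, hi, hki⟩ := exists_yon_iso_of_mono g a₃ cr.etale cr.surj v hv
    refine ⟨Z, i.hom ≫ pullback.snd ξ p0, m ≫ prod.fst, ?_, ?_⟩
    · refine (IsPullback.of_iso (IsPullback.of_hasPullback ξ p0) i.symm (Iso.refl _) (Iso.refl _) (Iso.refl _)
        ?_ (by simp) (by simp) (by simp)).flip
      rw [Iso.refl_hom, Category.comp_id, Iso.symm_hom, Functor.map_comp, ← hi, Category.assoc,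
        Iso.inv_hom_id_assoc, hg1]
    · have e : k.left ≫ (m ≫ prod.fst).left = (pullback.fst c.α ι).left ≫ c.a.left := by
        rw [← hcr, ← Over.comp_left, reassoc_of% hkm, prod.lift_fst]
      refine ⟨⟨⟨Groth.L23.flat_of_etale_comp' k.left _ (by rw [e]; infer_instance),
        Groth.L23.locallyQuasiFinite_of_etale_comp' k.left _ (by rw [e]; infer_instance)⟩,
        Groth.L23.locallyOfFinitePresentation_of_etale_comp' k.left _ (by rw [e]; infer_instance)⟩, ?_⟩
      have : IsAffine U0.left := hO
      have : IsSeparated U0.hom := by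
        have : IsSeparated (U0.hom ≫ terminal.from S) := by rw [terminal.comp_from]; infer_instance
        exact IsSeparated.of_comp _ (terminal.from S)
      have : IsSeparated (prod.fst : T ⨯ U0 ⟶ T).left := by
        rw [← Over.prodLeftIsoPullback_hom_fst]; infer_instance
      show IsSeparated (m.left ≫ (prod.fst : T ⨯ U0 ⟶ T).left)
      infer_instance
  have hrep : Representable p0 := fun T ξ => by
    obtain ⟨Z, a, b, sq, -⟩ := key ξ
    exact ⟨Z, b, a, sq⟩
  refine Groth.L23.repWith_of_snd hrep fun T ξ => ?_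
  obtain ⟨Z, a, b, sq, hb⟩ := key ξ
  let e := (hrep.isPullback ξ).isoIsPullback _ _ sq
  obtain ⟨e', he'⟩ := (yon S).map_surjective e.hom
  have : IsIso e' := by
    have : IsIso ((yon S).map e') := by rw [he']; infer_instance
    exact isIso_of_fully_faithful (yon S) e'
  have he : e' ≫ b = hrep.snd ξ := (yon S).map_injective (by
    rw [Functor.map_comp, he', IsPullback.isoIsPullback_hom_snd])
  rw [← he, Over.comp_left]
  exact (MorphismProperty.cancel_left_of_respectsIso LqfFlat e'.left b.left).2 hb

end Groth.L24.Boot
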