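import Groth.Agent.L24.Boot.MonoQuot
import Groth.Agent.L23.Epi
import Groth.Agent.L23.Points
import Groth.Agent.L23.SourceDescent

/-!
A sheaf with etale charts is an algebraic space.
-/

set_option autoImplicit false
set_option backward.isDefEq.respectTransparency false
set_option backward.isDefEq.respectTransparency.types false

universe u

open CategoryTheory CategoryTheory.Limits AlgebraicGeometry Opposite AlgSp

noncomputable section

namespace Groth.L24.Boot

variable {S : Scheme.{u}} {F : Sp S} {U : Over S}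

/-- An etale surjective chart of `T ×_F U`. -/
structure Chart (p : (yon S).obj U ⟶ F) {T : Over S} (ξ : (yon S).obj T ⟶ F) where
  A : Over S
  a : A ⟶ T
  α : A ⟶ U
  w : (yon S).map a ≫ ξ = (yon S).map α ≫ p
  etale : RepWith @Etale (pullback.lift ((yon S).map a) ((yon S).map α) w : (yon S).obj A ⟶ pullback ξ p)
  surj : RepWith @Surjective (pullback.lift ((yon S).map a) ((yon S).map α) w : (yon S).obj A ⟶ pullback ξ p)

/-- Every `T ×_F U` has a chart whose map to `T` has the property `P`. -/
def HasCharts (P : MorphismProperty Scheme.{u}) (p : (yon S).obj U ⟶ F) : Prop :=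
  ∀ ⦃T : Over S⦄ (ξ : (yon S).obj T ⟶ F), ∃ c : Chart p ξ, P c.a.left

theorem mono_yon_map {A B : Over S} (f : A ⟶ B) [Mono f] : Mono ((yon S).map f) := inferInstance

variable {p : (yon S).obj U ⟶ F}

set_option maxHeartbeats 1000000 in
theorem representable_diag (h : HasCharts (@Etale ⊓ @Surjective) p) : Representable (Limits.diag F) := by
  intro T ξ
  let ξ₁ := ξ ≫ Limits.prod.fst
  let ξ₂ := ξ ≫ Limits.prod.snd
  -- a cover of `T` on which both components lift
  obtain ⟨c₁, hc₁e, hc₁s⟩ := h ξ₁
  obtain ⟨c₂, hc₂e, hc₂s⟩ := h ((yon S).map c₁.a ≫ ξ₂)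
  let B := c₂.A
  let χ : B ⟶ T := c₂.a ≫ c₁.a
  let l₁ : B ⟶ U := c₂.a ≫ c₁.α
  let l₂ : B ⟶ U := c₂.α
  have hl₁ : (yon S).map l₁ ≫ p = (yon S).map χ ≫ ξ₁ := by
    simp only [l₁, χ, Functor.map_comp, Category.assoc, c₁.w]
  have hl₂ : (yon S).map l₂ ≫ p = (yon S).map χ ≫ ξ₂ := by
    simp only [l₂, χ, Functor.map_comp, Category.assoc, ← c₂.w]
  have hχe : Etale χ.left := by
    rw [show χ.left = c₂.a.left ≫ c₁.a.left from rfl]
    exact MorphismProperty.comp_mem _ _ _ hc₂e hc₁e
  have hχs : Surjective χ.left := by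
    rw [show χ.left = c₂.a.left ≫ c₁.a.left from rfl]
    exact MorphismProperty.comp_mem _ _ _ hc₂s hc₁s
  -- a chart of `B ×_F U`
  obtain ⟨ξB, hξB⟩ : ∃ x, x = (yon S).map l₁ ≫ p := ⟨_, rfl⟩
  obtain ⟨c₃, hc₃e, -⟩ := h ξB
  let a₃ : (yon S).obj c₃.A ⟶ pullback ξB p :=
    pullback.lift ((yon S).map c₃.a) ((yon S).map c₃.α) c₃.w
  -- the locus of agreement in it
  have hd := Groth.L23.lft_diag (IsAlgSpace.yon_obj U)
  let γ : (yon S).obj c₃.A ⟶ (yon S).obj U ⨯ (yon S).obj U :=
    prod.lift ((yon S).map c₃.α) ((yon S).map (c₃.a ≫ l₂))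
  let V := hd.1.pullback γ
  let ι : V ⟶ c₃.A := hd.1.snd γ
  have hι : LocallyOfFiniteType ι.left := Groth.L23.repWith_snd hd γ
  have sqV : IsPullback (hd.1.fst γ) ((yon S).map ι) (Limits.diag ((yon S).obj U)) γ := hd.1.isPullback γ
  have hιeq : ι ≫ c₃.α = ι ≫ c₃.a ≫ l₂ := by
    refine (yon S).map_injective ?_
    have e1 := sqV.w =≫ Limits.prod.fst
    have e2 := sqV.w =≫ Limits.prod.snd
    simp only [γ, Category.assoc, prod.lift_fst, prod.lift_snd, Category.comp_id] at e1 e2
    rw [(yon S).map_comp ι, (yon S).map_comp ι, ← e1, ← e2]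
  obtain ⟨v, hvdef⟩ : ∃ v : V ⟶ T, v = ι ≫ c₃.a ≫ χ := ⟨_, rfl⟩
  have hv : (yon S).map v ≫ ξ₁ = (yon S).map v ≫ ξ₂ := by
    simp only [hvdef, Functor.map_comp, Category.assoc]
    rw [← hl₁, ← hl₂, ← hξB, c₃.w, ← Functor.map_comp_assoc, hιeq, Functor.map_comp_assoc, Functor.map_comp_assoc]
  have hvlft : LocallyOfFiniteType v.left := by
    have : LocallyOfFiniteType c₃.a.left := by
      have : Etale c₃.a.left := hc₃e
      infer_instance
    have : LocallyOfFiniteType χ.left := inferInstance
    rw [hvdef]
    show LocallyOfFiniteType (ι.left ≫ c₃.a.left ≫ χ.left)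
    infer_instance
  -- `V ×_T V ⟶ V ×_T B` is etale
  let M := pullback v χ
  have hMe : Etale (pullback.fst v χ).left :=
    MorphismProperty.of_isPullback ((IsPullback.of_hasPullback v χ).map (Over.forget S)).flip hχe
  let g : (yon S).obj M ⟶ pullback ξB p :=
    pullback.lift ((yon S).map (pullback.snd v χ)) ((yon S).map (pullback.snd v χ ≫ l₂)) (by
      simp only [hξB, Functor.map_comp, Category.assoc, hl₁, hl₂]
      rw [← Functor.map_comp_assoc, ← Functor.map_comp_assoc, ← pullback.condition, Functor.map_comp_assoc,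
        Functor.map_comp_assoc, hv])
  have sqW := c₃.etale.1.isPullback g
  let W' := c₃.etale.1.pullback g
  let f' : (yon S).obj W' ⟶ (yon S).obj c₃.A := c₃.etale.1.fst g
  let s' : W' ⟶ M := c₃.etale.1.snd g
  have hs' : Etale s'.left := c₃.etale.2 g (c₃.etale.1.fst g) (c₃.etale.1.snd g) sqW
  obtain ⟨w', hw'⟩ := (yon S).map_surjective f'
  have hw1 : w' ≫ c₃.a = s' ≫ pullback.snd v χ := by
    refine (yon S).map_injective ?_
    have := sqW.w =≫ pullback.fst ξB p
    simpa [g, f', s', hw', a₃] using this
  have hw2 : w' ≫ c₃.α = s' ≫ pullback.snd v χ ≫ l₂ := by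
    refine (yon S).map_injective ?_
    have := sqW.w =≫ pullback.snd ξB p
    simpa [g, f', s', hw', a₃] using this
  -- the lift of `W'` to `V`
  let vl : W' ⟶ V := (yon S).preimage (sqV.lift ((yon S).map (w' ≫ c₃.α)) ((yon S).map w') (by
    apply prod.hom_ext
    · simp [γ]
    · simp only [γ, Category.assoc, prod.lift_snd, Category.comp_id]
      rw [← Functor.map_comp, hw2, ← Category.assoc w', hw1, Category.assoc]))
  have hvl : vl ≫ ι = w' := (yon S).map_injective (by simp [vl, ι])
  let k : pullback v v ⟶ M := pullback.lift (pullback.fst v v) (pullback.snd v v ≫ ι ≫ c₃.a) (by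
    rw [pullback.condition]; simp [hvdef])
  have hkg : (yon S).map (pullback.snd v v ≫ ι) ≫ a₃ = (yon S).map k ≫ g := by
    apply pullback.hom_ext
    · simp only [a₃, g, Category.assoc, pullback.lift_fst]
      rw [← Functor.map_comp, ← Functor.map_comp, pullback.lift_snd]; simp
    · simp only [a₃, g, Category.assoc, pullback.lift_snd]
      rw [← Functor.map_comp, ← Functor.map_comp, pullback.lift_snd_assoc, Category.assoc, hιeq]
      simp
  obtain ⟨m₁, hm₁⟩ := (yon S).map_surjective (sqW.lift _ _ hkg)
  have hm₁s : m₁ ≫ s' = k := (yon S).map_injective (by simp [hm₁, s'])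
  have hm₁w : m₁ ≫ w' = pullback.snd v v ≫ ι := (yon S).map_injective (by
    rw [Functor.map_comp, hw']; simp [hm₁, f'])
  let m₂ : W' ⟶ pullback v v := pullback.lift (s' ≫ pullback.fst v χ) vl (by
    simp only [hvdef, Category.assoc, reassoc_of% hvl, reassoc_of% hw1]
    rw [← hvdef, pullback.condition])
  have hm₂ : IsIso m₁ := by
    refine ⟨m₂, ?_, (yon S).map_injective ?_⟩
    · apply pullback.hom_ext
      · simp only [m₂, Category.assoc, pullback.lift_fst, reassoc_of% hm₁s, k, Category.id_comp]
      · refine (yon S).map_injective (sqV.hom_ext ?_ ?_)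
        · have e : ∀ {X : Over S} (r : X ⟶ V), (yon S).map r ≫ hd.1.fst γ = (yon S).map (r ≫ ι ≫ c₃.α) := by
            intro X r
            rw [Functor.map_comp, Functor.map_comp]
            congr 1
            have := sqV.w =≫ Limits.prod.fst
            simpa [γ] using this
          rw [e, e]
          congr 1
          simp only [m₂, Category.assoc, pullback.lift_snd_assoc, reassoc_of% hvl, reassoc_of% hm₁w,
            Category.id_comp]
        · rw [← Functor.map_comp, ← Functor.map_comp]
          congr 1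
          simp only [m₂, Category.assoc, pullback.lift_snd_assoc, hvl, hm₁w, Category.id_comp]
    · rw [(yon S).map_id]
      refine sqW.hom_ext ?_ ?_
      · show (yon S).map _ ≫ f' = _
        rw [← hw', ← Functor.map_comp, Category.id_comp]
        simp only [Category.assoc, hm₁w, m₂, pullback.lift_snd_assoc, hvl]
        try exact hw'
      · show (yon S).map _ ≫ (yon S).map s' = _
        rw [← Functor.map_comp, Category.id_comp]
        congr 1
        simp only [Category.assoc, hm₁s]
        apply pullback.hom_ext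
        · simp only [m₂, k, Category.assoc, pullback.lift_fst]; rfl
        · simp only [m₂, k, Category.assoc, pullback.lift_snd, pullback.lift_snd_assoc, reassoc_of% hvl, hw1]; rfl
  have hPe : Etale (pullback.fst v v).left := by
    have : IsIso m₁.left := @Functor.map_isIso _ _ _ _ _ _ (Over.forget S) m₁ hm₂
    have e : (pullback.fst v v).left = (m₁.left ≫ s'.left) ≫ (pullback.fst v χ).left := by
      rw [← Over.comp_left, ← Over.comp_left, hm₁s, pullback.lift_fst]
    rw [e]
    infer_instance
  have hPe' : Etale (pullback.fst v.left v.left) := by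
    have sq : IsPullback (pullback.fst v v).left (pullback.snd v v).left v.left v.left :=
      (IsPullback.of_hasPullback v v).map (Over.forget S)
    rw [← sq.isoPullback_inv_fst]
    exact (MorphismProperty.cancel_left_of_respectsIso @Etale _ _).2 hPe
  -- its image
  obtain ⟨Q⟩ := exists_monoQuot v.left
  let Z : Over S := Over.mk (Q.m ≫ T.hom)
  let m : Z ⟶ T := Over.homMk Q.m rfl
  let e : V ⟶ Z := Over.homMk Q.e (by
    show Q.e ≫ Q.m ≫ T.hom = _
    rw [reassoc_of% Q.fac]; exact Over.w v)
  have hem : e ≫ m = v := Over.OverMorphism.ext Q.fac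
  have : Mono m := ⟨fun a b hab => Over.OverMorphism.ext
    ((cancel_mono Q.m).1 (congrArg CommaMorphism.left hab))⟩
  have hme : (yon S).map m ≫ ξ₁ = (yon S).map m ≫ ξ₂ := by
    have : Epi ((yon S).map e) := Groth.L23.epi_of_repWith _
      (Groth.L23.repWith_map (show Etale Q.e from inferInstance))
      (Groth.L23.repWith_map (show Surjective Q.e from inferInstance))
    rw [← cancel_epi ((yon S).map e), ← Functor.map_comp_assoc, ← Functor.map_comp_assoc, hem, hv]
  refine ⟨Z, m, (yon S).map m ≫ ξ₁, IsPullback.mk' ?_ (fun X φ φ' _ h₂ => (cancel_mono ((yon S).map m)).1 h₂) ?_⟩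
  · apply prod.hom_ext
    · simp [ξ₁]
    · simpa [ξ₂] using hme
  intro X z t hzt
  have e1 : z = t ≫ ξ₁ := by simpa [ξ₁] using hzt =≫ Limits.prod.fst
  have e2 : z = t ≫ ξ₂ := by simpa [ξ₂] using hzt =≫ Limits.prod.snd
  -- pass to the cover on which the lift is visible
  let t₁ := pullback.fst t ((yon S).map χ)
  let b := pullback.snd t ((yon S).map χ)
  have : Epi t₁ := by
    have hr1 : RepWith @Etale ((yon S).map χ) := Groth.L23.repWith_map hχe
    have hr2 : RepWith @Surjective ((yon S).map χ) := Groth.L23.repWith_map hχs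
    exact Groth.L23.epi_of_repWith _
      (Groth.L23.repWith_of_isPullback (IsPullback.of_hasPullback t _).flip hr1)
      (Groth.L23.repWith_of_isPullback (IsPullback.of_hasPullback t _).flip hr2)
  have hb : b ≫ (yon S).map χ = t₁ ≫ t := pullback.condition.symm
  let g' : pullback t ((yon S).map χ) ⟶ pullback ξB p :=
    pullback.lift b (b ≫ (yon S).map l₂) (by
      rw [hξB, Category.assoc, hl₁, hl₂, ← Category.assoc, ← Category.assoc b, hb, Category.assoc, Category.assoc,
        ← e1, ← e2])
  let t₂ := pullback.fst g' a₃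
  let x := pullback.snd g' a₃
  have : Epi t₂ := Groth.L23.epi_of_repWith _
    (Groth.L23.repWith_of_isPullback (IsPullback.of_hasPullback g' a₃).flip c₃.etale)
    (Groth.L23.repWith_of_isPullback (IsPullback.of_hasPullback g' a₃).flip c₃.surj)
  have hxa : x ≫ (yon S).map c₃.a = t₂ ≫ b := by
    have := (pullback.condition (f := g') (g := a₃)) =≫ pullback.fst ξB p
    simpa [g', a₃, x, t₂] using this.symm
  have hxu : x ≫ (yon S).map c₃.α = t₂ ≫ b ≫ (yon S).map l₂ := by
    have := (pullback.condition (f := g') (g := a₃)) =≫ pullback.snd ξB p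
    simpa [g', a₃, x, t₂] using this.symm
  let vv := sqV.lift (x ≫ (yon S).map c₃.α) x (by
    apply prod.hom_ext
    · simp [γ]
    · simp only [γ, Category.assoc, prod.lift_snd, Category.comp_id, Functor.map_comp,
        reassoc_of% hxa, hxu])
  have hvv : vv ≫ (yon S).map v = t₂ ≫ t₁ ≫ t := by
    simp only [hvdef, Functor.map_comp, vv, sqV.lift_snd_assoc, reassoc_of% hxa, hb]
  let Q' := pullback.fst t ((yon S).map m)
  have : Epi Q' := by
    let l : pullback g' a₃ ⟶ pullback t ((yon S).map m) :=
      pullback.lift (t₂ ≫ t₁) (vv ≫ (yon S).map e) ((Category.assoc _ _ _).trans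
        (hvv.symm.trans ((congrArg (vv ≫ ·) (show (yon S).map v = (yon S).map e ≫ (yon S).map m by
          rw [← Functor.map_comp, hem])).trans (Category.assoc _ _ _).symm)))
    have : Epi (l ≫ Q') := by rw [pullback.lift_fst]; infer_instance
    exact epi_of_epi l Q'
  have : IsIso Q' := isIso_of_mono_of_epi _
  refine ⟨inv Q' ≫ pullback.snd t ((yon S).map m), ?_, ?_⟩
  · rw [Category.assoc, ← pullback.condition_assoc, IsIso.inv_hom_id_assoc, ← e1]
  · rw [Category.assoc, ← pullback.condition, IsIso.inv_hom_id_assoc]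

/-- A sheaf with etale surjective charts is an algebraic space. -/
theorem isAlgSpace_of_hasCharts (h : HasCharts (@Etale ⊓ @Surjective) p) : IsAlgSpace F := by
  have hd := representable_diag h
  have hp : Representable p := Functor.relativelyRepresentable.of_diag hd p
  have key : ∀ ⦃T : Over S⦄ (ξ : (yon S).obj T ⟶ F), Etale (hp.snd ξ).left ∧ Surjective (hp.snd ξ).left := by
    intro T ξ
    obtain ⟨c, hce, hcs⟩ := h ξ
    let i := ((hp.isPullback ξ).flip.isoPullback)
    obtain ⟨k, hk⟩ := (yon S).map_surjective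
      (pullback.lift ((yon S).map c.a) ((yon S).map c.α) c.w ≫ i.inv)
    have hke : RepWith @Etale ((yon S).map k) := by
      rw [hk]; exact (MorphismProperty.cancel_right_of_respectsIso (RepWith @Etale) _ _).2 c.etale
    have hks : RepWith @Surjective ((yon S).map k) := by
      rw [hk]; exact (MorphismProperty.cancel_right_of_respectsIso (RepWith @Surjective) _ _).2 c.surj
    have : Etale k.left := (repWith_yon_map_iff _ _).1 hke
    have : Surjective k.left := (repWith_yon_map_iff _ _).1 hks
    have e : k ≫ hp.snd ξ = c.a := (yon S).map_injective (by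
      rw [Functor.map_comp, hk, Category.assoc]
      simp [i])
    have e' : k.left ≫ (hp.snd ξ).left = c.a.left := congrArg CommaMorphism.left e
    refine ⟨Groth.L23.etale_of_etale_comp' k.left _ (by rw [e']; exact hce), ?_⟩
    have : Surjective (k.left ≫ (hp.snd ξ).left) := by rw [e']; exact hcs
    exact Surjective.of_comp k.left _
  exact ⟨hd, U, p, Groth.L23.repWith_of_snd hp fun T ξ => (key ξ).1,
    Groth.L23.repWith_of_snd hp fun T ξ => (key ξ).2⟩

end Groth.L24.Boot
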