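import Groth.Agent.L24.Boot.EtaleBootstrap
import Groth.Agent.L23.RepBySp

/-!
Etale charts of maps representable by algebraic spaces, etale and surjective.
-/

set_option autoImplicit false
set_option backward.isDefEq.respectTransparency false
set_option backward.isDefEq.respectTransparency.types false

universe u

open CategoryTheory CategoryTheory.Limits AlgebraicGeometry Opposite AlgSp

noncomputable section

namespace Groth.L24.Boot

variable {S : Scheme.{u}} {F X : Sp S}

theorem surjective_of_points {A T : Over S} (a : A ⟶ T)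
    (h : Function.Surjective (Points.map ((yon S).map a))) : Surjective a.left :=
  (repWith_yon_map_iff @Surjective a).1 (Groth.L23.repWith_surjective_of_map
    (Functor.relativelyRepresentable.map (yon S) a) h)

/-- Charts coming from a map representable by algebraic spaces out of an algebraic space. -/
theorem hasCharts_of_repBySpWith {Q : MorphismProperty (Sp S)} {P : MorphismProperty Scheme.{u}}
    (hX : IsAlgSpace X) (p : X ⟶ F) (hp : RepBySpWith Q p.hom) {U : Over S} (q : (yon S).obj U ⟶ X)
    (hq : RepWith @Etale q) (hq' : RepWith @Surjective q)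
    (hQ : ∀ {A T : Over S} {G : Sp S} (r : (yon S).obj A ⟶ G) (f : G ⟶ (yon S).obj T) (a : A ⟶ T),
      IsAlgSpace G → RepWith @Etale r → RepWith @Surjective r → Q f → r ≫ f = (yon S).map a → P a.left) :
    HasCharts P (q ≫ p) := by
  intro T ξ
  have hG := (repBySpWith_hom_iff Q p).1 hp ξ (pullback.snd ξ p) (pullback.fst ξ p)
    (IsPullback.of_hasPullback ξ p).flip
  let G := pullback ξ p
  let r : pullback ξ (q ≫ p) ⟶ G := pullback.lift (pullback.fst _ _) (pullback.snd _ _ ≫ q)
    (by rw [Category.assoc, pullback.condition])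
  have sq : IsPullback (pullback.snd ξ (q ≫ p)) r q (pullback.snd ξ p) := by
    refine IsPullback.of_bot ?_ (by simp [r]) (IsPullback.of_hasPullback ξ p).flip
    simpa [r] using (IsPullback.of_hasPullback ξ (q ≫ p)).flip
  have hre := Groth.L23.repWith_of_isPullback sq hq
  have hrs := Groth.L23.repWith_of_isPullback sq hq'
  obtain ⟨A, a₃, h₃e, h₃s⟩ := (Groth.L23.isAlgSpace_of_representable_to hG.1 hre.1).atlas
  obtain ⟨a, ha⟩ := (yon S).map_surjective (a₃ ≫ pullback.fst ξ (q ≫ p))
  obtain ⟨α, hα⟩ := (yon S).map_surjective (a₃ ≫ pullback.snd ξ (q ≫ p))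
  have w : (yon S).map a ≫ ξ = (yon S).map α ≫ q ≫ p := by
    rw [ha, hα, Category.assoc, pullback.condition, Category.assoc]
  have hl : pullback.lift ((yon S).map a) ((yon S).map α) w = a₃ := by
    apply pullback.hom_ext <;> simp [ha, hα]
  refine ⟨⟨A, a, α, w, by rw [hl]; exact h₃e, by rw [hl]; exact h₃s⟩,
    hQ (a₃ ≫ r) (pullback.fst ξ p) a hG.1 (Groth.L23.repWith_comp h₃e hre)
      (Groth.L23.repWith_comp h₃s hrs) hG.2 ?_⟩
  rw [ha, Category.assoc, pullback.lift_fst]

theorem isAlgSpace_of_repBySpWith_etale (hX : IsAlgSpace X) (p : X ⟶ F)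
    (hp : RepBySpWith (IsSurjectiveMor ⊓ IsEtaleMor) p.hom) : IsAlgSpace F := by
  obtain ⟨U, q, hq, hq'⟩ := hX.atlas
  refine isAlgSpace_of_hasCharts (hasCharts_of_repBySpWith hX p hp q hq hq'
    fun r f a _ hre hrs hf hrf => ⟨(repWith_yon_map_iff @Etale a).1 (hrf ▸ hf.2 r hre), surjective_of_points a ?_⟩)
  rw [← hrf]
  have e : Points.map (r ≫ f) = Points.map f ∘ Points.map r := funext fun x => Points.map_comp r f x
  rw [e]
  exact Function.Surjective.comp hf.1 (Groth.L23.surjective_map_of_repWith hrs)

theorem isAlgSpace_of_repWith_etale (hX : IsAlgSpace X) (p : X ⟶ F) (he : RepWith @Etale p)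
    (hs : RepWith @Surjective p) : IsAlgSpace F := by
  refine isAlgSpace_of_repBySpWith_etale hX p ((repBySpWith_hom_iff _ p).2 fun U ξ F' fst snd sq => ?_)
  have he' := Groth.L23.repWith_of_isPullback sq he
  exact ⟨Groth.L23.isAlgSpace_of_representable_to (IsAlgSpace.yon_obj U) he'.1,
    Groth.L23.surjective_map_of_repWith (Groth.L23.repWith_of_isPullback sq hs),
    fun W φ hφ => Groth.L23.repWith_comp hφ he'⟩

end Groth.L24.Boot
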