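import Groth.Agent.L24.Boot.EtaleSheaf
import Groth.Agent.L24.Boot.EtaleCharts
import Groth.Agent.L23.RepBySp

/-!
An etale sheaf with a smooth surjective chart by an algebraic space is an algebraic space.
-/

set_option autoImplicit false
set_option backward.isDefEq.respectTransparency.types false

universe u

open CategoryTheory CategoryTheory.Limits AlgebraicGeometry Opposite AlgSp

noncomputable section

namespace Groth.L24.Boot

variable {S : Scheme.{u}}

set_option maxHeartbeats 800000 in
theorem isAlgSpaceP_of_smooth_space_chart {F : PSp S} (hF : Presheaf.IsSheaf (JE S) F) (U : AlgSp.Space S)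
    (p : U.obj.obj ⟶ F) (hp : RepBySpWith (IsSurjectiveMor ⊓ LocP @Smooth) p) : IsAlgSpaceP F := by
  obtain ⟨V, q, hq, hq'⟩ := U.property.atlas
  have hV := IsAlgSpace.yon_obj V
  let p' : (pyon S).obj V ⟶ F := q.hom ≫ p
  -- charts
  have hlift : ∀ (T : Over S) (x : (pyon S).obj T ⟶ F), ∃ (W : Over S) (g : W ⟶ T)
      (y : (pyon S).obj W ⟶ (pyon S).obj V),
      Smooth g.left ∧ Surjective g.left ∧ y ≫ p' = (pyon S).map g ≫ x := fun T x => by
    obtain ⟨hG, hGa, hsurj, hsm⟩ := hp x _ _ (IsPullback.of_hasPullback p x)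
    let G : Sp S := ⟨pullback p x, hG⟩
    let pU : G ⟶ U.obj := ObjectProperty.homMk (pullback.fst p x)
    let pT : G ⟶ (yon S).obj T := ObjectProperty.homMk (pullback.snd p x)
    obtain ⟨A, a, hae, has⟩ := hGa.atlas
    let a : (yon S).obj A ⟶ G := a
    obtain ⟨g, hg⟩ := (yon S).map_surjective (a ≫ pT)
    have hgs : Smooth g.left := hsm a (𝟙 _) g hae (Groth.L23.repWith_of_isIso _)
      (by rw [Category.comp_id, hg])
    have hgsurj : Surjective g.left := surjective_of_points g (by
      rw [hg]
      have e : Points.map (a ≫ pT) = Points.map pT ∘ Points.map a := funext fun z => Points.map_comp a pT z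
      rw [e]
      exact hsurj.comp (Groth.L23.surjective_map_of_repWith has))
    let ξ : (yon S).obj A ⟶ U.obj := a ≫ pU
    have he : Etale (hq.1.snd ξ).left := Groth.L23.repWith_prop hq (hq.1.isPullback ξ)
    have hes : Surjective (hq.1.snd ξ).left := Groth.L23.repWith_prop hq' (hq.1.isPullback ξ)
    refine ⟨_, hq.1.snd ξ ≫ g, (hq.1.fst ξ).hom, ?_, ?_, ?_⟩
    · rw [Over.comp_left]; infer_instance
    · rw [Over.comp_left]; infer_instance
    · let P : PSp S := pullback p x
      let a₁ : (pyon S).obj A ⟶ P := a.hom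
      have e₁ : (hq.1.fst ξ).hom ≫ q.hom = (pyon S).map (hq.1.snd ξ) ≫ a₁ ≫ pullback.fst p x :=
        congrArg (fun f => f.hom) (hq.1.isPullback ξ).w
      have hg' : (pyon S).map g = a₁ ≫ pullback.snd p x := congrArg (fun f => f.hom) hg
      calc (hq.1.fst ξ).hom ≫ p' = ((hq.1.fst ξ).hom ≫ q.hom) ≫ p := (Category.assoc _ _ _).symm
        _ = (pyon S).map (hq.1.snd ξ) ≫ a₁ ≫ pullback.fst p x ≫ p :=
          (congrArg (· ≫ p) e₁).trans ((Category.assoc _ _ _).trans (congrArg (_ ≫ ·) (Category.assoc _ _ _)))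
        _ = (pyon S).map (hq.1.snd ξ ≫ g) ≫ x := by
          rw [Functor.map_comp, hg', pullback.condition]; simp only [Category.assoc]
  -- the relation
  obtain ⟨hG, hGa, -, hsm⟩ := hp p' _ _ (IsPullback.of_hasPullback p p')
  let G : Sp S := ⟨pullback p p', hG⟩
  let gU : G ⟶ U.obj := ObjectProperty.homMk (pullback.fst p p')
  let gV : G ⟶ (yon S).obj V := ObjectProperty.homMk (pullback.snd p p')
  let R := pullback q gU
  let i : R ⟶ G := pullback.snd q gU
  have hie : RepWith @Etale i := Groth.L23.repWith_of_isPullback (IsPullback.of_hasPullback q gU) hq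
  have hR : IsAlgSpace R := Groth.L23.isAlgSpace_of_representable_to hGa hie.1
  have sq : IsPullback (i ≫ gV).hom (pullback.fst q gU).hom p' p' :=
    ((((IsPullback.of_hasPullback q gU).map (sheafToPresheaf (J S) (Type (u + 1)))).flip).paste_horiz
      (IsPullback.of_hasPullback p p').flip)
  refine isAlgSpaceP_of_smooth_chart hF p' hlift hR (i ≫ gV) (pullback.fst q gU) sq ?_
  exact Groth.L23.locP_comp Groth.L23.etLocal_smooth hR hGa hV
    (Groth.L23.locP_of_repWith Groth.L23.etLocal_smooth
      (Groth.L23.repWith_mono (fun f (hf : Etale f) => by infer_instance) hie)) hsm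

end Groth.L24.Boot
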