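import Groth.Agent.L24.Boot.SigmaCharts
import Groth.Agent.L23.EqvRel

/-!
Coproducts of algebraic spaces; sheaves covered by open subspaces.
-/

set_option autoImplicit false
set_option backward.isDefEq.respectTransparency false
set_option backward.isDefEq.respectTransparency.types false

universe u

open CategoryTheory CategoryTheory.Limits AlgebraicGeometry Opposite AlgSp

noncomputable section

namespace Groth.L24.Boot

variable {S : Scheme.{u}} {I : Type u}

/-- A disjoint union of etale equivalence relations. -/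
theorem exists_sigma_eqvRel {V R : I → Over S} {s t : ∀ i, R i ⟶ V i} (h : ∀ i, IsEtaleEqvRel (s i) (t i))
    (D : SigmaData V) (E : SigmaData R) (σ τ : E.V ⟶ D.V) (hσ : ∀ i, E.inj i ≫ σ = s i ≫ D.inj i)
    (hτ : ∀ i, E.inj i ≫ τ = t i ≫ D.inj i) : IsEtaleEqvRel σ τ := by
  have hi := mono_inj D
  have same : ∀ {W : Over S} (r r' : W ⟶ E.V), r ≫ τ = r' ≫ τ ∨ r ≫ σ = r' ≫ τ → ∀ i,
      ∃ l', l' ≫ E.inj i = (E.restrict r).inj i ≫ r' := by
    intro W r r' hrr i
    refine exists_lift_open _ _ ?_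
    rintro _ ⟨x, rfl⟩
    obtain ⟨u, hu⟩ := x.2
    obtain ⟨j, v, hv⟩ := E.cover (r'.left ((E.restrict r).inj i |>.left x))
    have hσ' : σ.left ((E.inj i).left u) = (D.inj i).left ((s i).left u) :=
      congrArg (fun k : R i ⟶ D.V => k.left u) (hσ i)
    have hτ' : ∀ k (z : ↥(R k).left), τ.left ((E.inj k).left z) = (D.inj k).left ((t k).left z) := fun k z =>
      congrArg (fun m : R k ⟶ D.V => m.left z) (hτ k)
    have hu' : (E.inj i).left u = r.left ((E.restrict r).inj i |>.left x) := hu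
    rcases hrr with h1 | h1
    · have q : τ.left (r.left ((E.restrict r).inj i |>.left x)) = τ.left (r'.left ((E.restrict r).inj i |>.left x)) :=
        congrArg (fun k : W ⟶ D.V => k.left ((E.restrict r).inj i |>.left x)) h1
      rw [← hu', ← hv, hτ', hτ'] at q
      obtain rfl := D.disj _ _ _ _ q
      exact ⟨v, hv⟩
    · have q : σ.left (r.left ((E.restrict r).inj i |>.left x)) = τ.left (r'.left ((E.restrict r).inj i |>.left x)) :=
        congrArg (fun k : W ⟶ D.V => k.left ((E.restrict r).inj i |>.left x)) h1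
      rw [← hu', ← hv, hσ', hτ'] at q
      obtain rfl := D.disj _ _ _ _ q
      exact ⟨v, hv⟩
  refine ⟨⟨fun W r r' h1 h2 => ?_, fun W => ⟨fun a => ?_, ?_, ?_⟩⟩, ?_, ?_⟩
  · refine (E.restrict r).hom_ext fun i => ?_
    obtain ⟨l, hl⟩ := E.exists_restrict_lift r i
    obtain ⟨l', hl'⟩ := same r r' (Or.inl h1) i
    have : l = l' := (h i).injective _ _ _
      (by rw [← cancel_mono (D.inj i), Category.assoc, Category.assoc, ← hτ, reassoc_of% hl, reassoc_of% hl', h1])
      (by rw [← cancel_mono (D.inj i), Category.assoc, Category.assoc, ← hσ, reassoc_of% hl, reassoc_of% hl', h2])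
    rw [← hl, ← hl', this]
  · have hd : ∀ i, ∃ r : V i ⟶ R i, r ≫ t i = 𝟙 _ ∧ r ≫ s i = 𝟙 _ := fun i => ((h i).equivalence _).refl _
    choose r hr1 hr2 using hd
    obtain ⟨δ, hδ⟩ := D.desc E.V fun i => r i ≫ E.inj i
    have e1 : δ ≫ τ = 𝟙 _ := D.hom_ext fun i => by
      rw [reassoc_of% hδ i, hτ, reassoc_of% hr1 i, Category.comp_id]
    have e2 : δ ≫ σ = 𝟙 _ := D.hom_ext fun i => by
      rw [reassoc_of% hδ i, hσ, reassoc_of% hr2 i, Category.comp_id]
    exact ⟨a ≫ δ, by rw [Category.assoc, e1, Category.comp_id], by rw [Category.assoc, e2, Category.comp_id]⟩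
  · rintro a b ⟨r, rfl, rfl⟩
    have hd : ∀ i, ∃ k : R i ⟶ R i, k ≫ t i = s i ∧ k ≫ s i = t i := fun i =>
      ((h i).equivalence _).symm ⟨𝟙 _, Category.id_comp _, Category.id_comp _⟩
    choose k hk1 hk2 using hd
    obtain ⟨δ, hδ⟩ := E.desc E.V fun i => k i ≫ E.inj i
    have e1 : δ ≫ τ = σ := E.hom_ext fun i => by rw [reassoc_of% hδ i, hτ, reassoc_of% hk1 i, hσ]
    have e2 : δ ≫ σ = τ := E.hom_ext fun i => by rw [reassoc_of% hδ i, hσ, reassoc_of% hk2 i, hτ]
    exact ⟨r ≫ δ, by rw [Category.assoc, e1], by rw [Category.assoc, e2]⟩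
  · rintro a b c ⟨r, rfl, rfl⟩ ⟨r', hr', rfl⟩
    choose l hl using E.exists_restrict_lift r
    have hl'' : ∀ i, ∃ l', l' ≫ E.inj i = (E.restrict r).inj i ≫ r' := same r r' (Or.inr hr'.symm)
    choose l' hl' using hl''
    have hq : ∀ i, ∃ q, q ≫ t i = l i ≫ t i ∧ q ≫ s i = l' i ≫ s i := fun i =>
      ((h i).equivalence _).trans (y := l i ≫ s i) ⟨l i, rfl, rfl⟩ ⟨l' i, by
        rw [← cancel_mono (D.inj i), Category.assoc, Category.assoc, ← hτ, ← hσ, reassoc_of% hl i,
          reassoc_of% hl' i, hr'], rfl⟩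
    choose q hq1 hq2 using hq
    obtain ⟨z, hz⟩ := (E.restrict r).desc E.V fun i => q i ≫ E.inj i
    exact ⟨z, (E.restrict r).hom_ext fun i => by
        rw [reassoc_of% hz i, hτ, reassoc_of% hq1 i, ← hτ, reassoc_of% hl i],
      (E.restrict r).hom_ext fun i => by
        rw [reassoc_of% hz i, hσ, reassoc_of% hq2 i, ← hσ, reassoc_of% hl' i]⟩
  · exact E.etale_of σ fun i => by
      rw [hσ]; exact MorphismProperty.comp_mem @Etale _ _ (h i).etale_left (inferInstanceAs (Etale (D.inj i).left))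
  · exact E.etale_of τ fun i => by
      rw [hτ]; exact MorphismProperty.comp_mem @Etale _ _ (h i).etale_right (inferInstanceAs (Etale (D.inj i).left))

/-- A coproduct of algebraic spaces is an algebraic space. -/
theorem isAlgSpace_cofan {F : I → Sp S} (h : ∀ i, IsAlgSpace (F i)) (c : Cofan F) (hc : IsColimit c) :
    IsAlgSpace c.pt := by
  choose V p hp hps using fun i => (h i).atlas
  choose tt ht using fun i => (yon S).map_surjective ((hp i).1.fst (p i))
  have sq : ∀ i, IsPullback ((yon S).map (tt i)) ((yon S).map ((hp i).1.snd (p i))) (p i) (p i) := fun i => by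
    rw [ht]; exact (hp i).1.isPullback (p i)
  have hrel := fun i => Groth.L23.isEtaleEqvRel_of_atlas (hp i) (sq i)
  obtain ⟨D⟩ := exists_sigma V
  obtain ⟨E⟩ := exists_sigma fun i => (hp i).1.pullback (p i)
  obtain ⟨σ, hσ⟩ := E.desc D.V fun i => (hp i).1.snd (p i) ≫ D.inj i
  obtain ⟨τ, hτ⟩ := E.desc D.V fun i => tt i ≫ D.inj i
  have hE := exists_sigma_eqvRel hrel D E σ τ hσ hτ
  have : Flat τ.left := by have := hE.etale_right; infer_instance
  have : LocallyOfFinitePresentation τ.left := by have := hE.etale_right; infer_instance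
  have hQ : IsAlgSpace (quotSp ((yon S).map σ) ((yon S).map τ)) :=
    (isAlgSpace_quot_of_flat hE.toIsEqvRel).of_iso (quotIso σ τ)
  obtain ⟨η, hη⟩ := exists_glue_sigma D fun i => p i ≫ c.inj i
  have hw : (yon S).map σ ≫ η = (yon S).map τ ≫ η := Groth.L23.hom_ext_cover E.inj E.cover fun i => by
    rw [← Functor.map_comp_assoc, hσ, ← Functor.map_comp_assoc, hτ, Functor.map_comp_assoc, Functor.map_comp_assoc,
      hη, reassoc_of% (sq i).w]
  let q := quotSpπ ((yon S).map σ) ((yon S).map τ)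
  have hepi : ∀ i, Epi (p i) := fun i => Groth.L23.epi_of_repWith _ (hp i) (hps i)
  have hd : ∀ i, ∃ d : F i ⟶ quotSp ((yon S).map σ) ((yon S).map τ), p i ≫ d = (yon S).map (D.inj i) ≫ q := by
    intro i
    obtain ⟨hcol⟩ := Groth.L23.nonempty_isColimit_cofork (p i) (sq i)
    let k : Cofork ((yon S).map (tt i)) ((yon S).map ((hp i).1.snd (p i))) :=
      Cofork.ofπ ((yon S).map (D.inj i) ≫ q) (by
        rw [← Functor.map_comp_assoc, ← Functor.map_comp_assoc, ← hτ, ← hσ, Functor.map_comp_assoc,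
          Functor.map_comp_assoc]
        exact congrArg _ (quotSp_condition _ _).symm)
    exact ⟨hcol.desc k, hcol.fac k WalkingParallelPair.one⟩
  choose d hd using hd
  let f := quotSpDesc η hw
  let g := Cofan.IsColimit.desc hc d
  have hfq : q ≫ f = η := quotSpπ_desc _ _ η hw
  have hg : ∀ i, c.inj i ≫ g = d i := fun i => Cofan.IsColimit.fac hc d i
  have e1 : g ≫ f = 𝟙 _ := Cofan.IsColimit.hom_ext hc _ _ fun i => by
    rw [← cancel_epi (p i), reassoc_of% hg i, reassoc_of% hd i, hfq, hη, Category.comp_id]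
  have e2 : f ≫ g = 𝟙 _ := by
    rw [← cancel_epi q, reassoc_of% hfq, Category.comp_id]
    exact Groth.L23.hom_ext_cover D.inj D.cover fun i => by rw [reassoc_of% hη i, hg, hd]
  exact hQ.of_iso ⟨f, g, e2, e1⟩

set_option maxHeartbeats 400000 in
/-- A sheaf covered by algebraic spaces which are flat and of finite presentation over it is an algebraic space. -/
theorem isAlgSpace_of_flat_cover {X : Sp S} {G : I → Sp S} (hG : ∀ i, IsAlgSpace (G i)) (f : ∀ i, G i ⟶ X)
    (hrep : ∀ i, RepBySpWith (LocP @Flat ⊓ LocP @LocallyOfFinitePresentation) (f i).hom)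
    (hsurj : ∀ y : Points X, ∃ i x, Points.map (f i) x = y) : IsAlgSpace X := by
  choose V p hp hps using fun i => (hG i).atlas
  obtain ⟨D⟩ := exists_sigma V
  obtain ⟨η, hη⟩ := exists_glue_sigma D fun i => p i ≫ f i
  have hch : ∀ i, HasCharts (@Flat ⊓ @LocallyOfFinitePresentation) ((yon S).map (D.inj i) ≫ η) := fun i => by
    rw [hη]
    refine hasCharts_of_repBySpWith (hG i) (f i) (hrep i) (p i) (hp i) (hps i)
      fun {A T G'} r g a _ hre _ hg hrg => ?_
    have hi : RepWith @Etale (𝟙 ((yon S).obj T)) := Groth.L23.repWith_of_isIso _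
    have w : r ≫ g = (yon S).map a ≫ 𝟙 _ := by rw [Category.comp_id, hrg]
    exact ⟨hg.1 r (𝟙 _) a hre hi w, hg.2 r (𝟙 _) a hre hi w⟩
  refine isAlgSpace_of_flatCharts (p := η) (hasCharts_sigma D η hch fun {T} ξ c t => ?_)
  obtain ⟨i, x, hx⟩ := hsurj (Points.ofPt ξ t)
  obtain ⟨v, rfl⟩ := Groth.L23.surjective_map_of_repWith (hps i) x
  obtain ⟨z, hz1, -⟩ := Groth.L23.exists_of_isPullback (IsPullback.of_hasPullback ξ ((yon S).map (D.inj i) ≫ η))
    (Points.ofScheme T t) v (by rw [← Points.ofPt_eq_map_ofScheme, hη, Points.map_comp]; exact hx.symm)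
  obtain ⟨w, hw⟩ := Groth.L23.surjective_map_of_repWith (c i).surj z
  obtain ⟨m, rfl⟩ := (Points.schemeEquiv (c i).A).surjective w
  refine ⟨i, m, (Points.schemeEquiv T).injective ?_⟩
  show Points.ofScheme T ((c i).a.left m) = Points.ofScheme T t
  rw [← hz1, ← hw, ← Points.map_comp, pullback.lift_fst, ← Groth.L23.ofPt_map, Points.ofPt_eq_map_ofScheme]
  rfl

/-- Points of a quotient of a coproduct come from the summands. -/
theorem exists_point_of_epi_cofan {F : I → Sp S} (h : ∀ i, IsAlgSpace (F i)) {c : Cofan F} (hc : IsColimit c)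
    {X : Sp S} (a : c.pt ⟶ X) [Epi a] (y : Points X) : ∃ i x, Points.map (c.inj i ≫ a) x = y := by
  choose V p hp hps using fun i => (h i).atlas
  obtain ⟨D⟩ := exists_sigma V
  obtain ⟨η, hη⟩ := exists_glue_sigma D fun i => p i ≫ c.inj i
  have : Epi η := ⟨fun g g' e => Cofan.IsColimit.hom_ext hc _ _ fun i => by
    have := Groth.L23.epi_of_repWith _ (hp i) (hps i)
    rw [← cancel_epi (p i), ← Category.assoc, ← Category.assoc, ← hη, Category.assoc, Category.assoc, e]⟩
  have : Epi (η ≫ a) := epi_comp _ _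
  obtain ⟨T, ξ, t, rfl⟩ := Groth.L23.exists_eq_ofPt y
  obtain ⟨T', g, u, -, -, hg, hu⟩ := exists_lift_of_epi (η ≫ a) ξ
  obtain ⟨t', rfl⟩ := hg.surj t
  obtain ⟨u, rfl⟩ := (yon S).map_surjective u
  obtain ⟨i, v, hv⟩ := D.cover (u.left t')
  refine ⟨i, Points.ofPt (p i) v, ?_⟩
  rw [Points.map_ofPt, ← reassoc_of% hη i, Groth.L23.ofPt_comp, hv, ← Groth.L23.ofPt_comp, hu, Groth.L23.ofPt_comp]

end Groth.L24.Boot
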