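import Groth.Agent.L24.Boot.Piece
import Mathlib.AlgebraicGeometry.Morphisms.QuasiFinite
import Mathlib.AlgebraicGeometry.Morphisms.ClosedImmersion
import Mathlib.AlgebraicGeometry.Artinian
import Mathlib.LinearAlgebra.Dimension.Finite

/-!
Field valued points lift to pieces.
-/

set_option autoImplicit false
set_option backward.isDefEq.respectTransparency false
set_option backward.isDefEq.respectTransparency.types false

universe u

open CategoryTheory CategoryTheory.Limits AlgebraicGeometry Opposite AlgSp TensorProduct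

noncomputable section

namespace Groth.L24.Boot

variable {S : Scheme.{u}} {F : Sp S} {U0 : Over S} {p0 : (yon S).obj U0 ⟶ F} (hp : RepWith LqfFlat p0)

theorem rel_hom_ext {W : Over S} {r r' : W ⟶ rel hp} (h1 : r ≫ rel1 hp = r' ≫ rel1 hp)
    (h2 : r ≫ rel2 hp = r' ≫ rel2 hp) : r = r' :=
  (yon S).map_injective ((rel_isPullback hp).hom_ext
    (by rw [← Functor.map_comp, ← Functor.map_comp, h1]) (by rw [← Functor.map_comp, ← Functor.map_comp, h2]))

/-- The universal pair of a piece over a base. -/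
theorem exists_pairs {T P : Over S} (p : P ⟶ T) (uP : P ⟶ U0) (ξ' : (yon S).obj T ⟶ F)
    (w : (yon S).map p ≫ ξ' = (yon S).map uP ≫ p0) :
    ∃ r₂ : pullback p p ⟶ rel hp, r₂ ≫ rel1 hp = pullback.fst p p ≫ uP ∧
      r₂ ≫ rel2 hp = pullback.snd p p ≫ uP ∧
      ∀ {W : Over S} (x y : W ⟶ P) (r : W ⟶ rel hp) (hxy : x ≫ p = y ≫ p), r ≫ rel1 hp = x ≫ uP →
        r ≫ rel2 hp = y ≫ uP → pullback.lift x y hxy ≫ r₂ = r := by
  obtain ⟨r, hr⟩ := (yon S).map_surjective ((rel_isPullback hp).lift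
    ((yon S).map (pullback.fst p p ≫ uP)) ((yon S).map (pullback.snd p p ≫ uP)) (by
      simp only [Functor.map_comp, Category.assoc, ← w]
      rw [← Functor.map_comp_assoc, pullback.condition, Functor.map_comp_assoc]))
  have h1 : r ≫ rel1 hp = pullback.fst p p ≫ uP :=
    (yon S).map_injective (by rw [Functor.map_comp, hr, IsPullback.lift_fst])
  have h2 : r ≫ rel2 hp = pullback.snd p p ≫ uP :=
    (yon S).map_injective (by rw [Functor.map_comp, hr, IsPullback.lift_snd])
  exact ⟨r, h1, h2, fun {W} x y s hxy hs1 hs2 => rel_hom_ext hp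
    (by rw [Category.assoc, h1, pullback.lift_fst_assoc, hs1])
    (by rw [Category.assoc, h2, pullback.lift_snd_assoc, hs2])⟩

theorem surjective_of_isClosedImmersion_Spec {A B : CommRingCat.{u}} (φ : A ⟶ B)
    [IsClosedImmersion (Spec.map φ)] : Function.Surjective φ := by
  obtain ⟨-, h⟩ := IsClosedImmersion.isAffine_surjective_of_isAffine (Spec.map φ)
  intro b
  obtain ⟨a, ha⟩ := h ((Scheme.ΓSpecIso B).inv b)
  refine ⟨(Scheme.ΓSpecIso A).hom a, ?_⟩
  have e := congr($(Scheme.ΓSpecIso_naturality φ) a)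
  simp only [CommRingCat.comp_apply] at e
  rw [← e, ha]
  exact congr($((Scheme.ΓSpecIso B).inv_hom_id) b)

theorem finite_of_isFinite_field {X : Scheme.{u}} {K : Type u} [Field K] (f : X ⟶ Spec (CommRingCat.of K))
    [IsFinite f] : Finite ↥X := by
  have h := f.finite_preimage_singleton (default : ↥(Spec (CommRingCat.of K)))
  rw [show f ⁻¹' {default} = Set.univ from Set.eq_univ_of_forall fun x =>
    Subsingleton.elim (α := PrimeSpectrum K) _ _] at h
  exact Set.finite_univ_iff.1 h

theorem exists_isCompact_opens {X : Scheme.{u}} {s : Set X} (hs : s.Finite) :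
    ∃ O : X.Opens, IsCompact (O : Set X) ∧ s ⊆ O := by
  have h : ∀ x : X, ∃ O : X.Opens, IsAffineOpen O ∧ x ∈ O := fun x => by
    obtain ⟨_, ⟨O, hO, rfl⟩, hx, -⟩ := X.isBasis_affineOpens.exists_subset_of_mem_open
      (Set.mem_univ x) isOpen_univ
    exact ⟨O, hO, hx⟩
  choose O hO hx using h
  refine ⟨⟨⋃ x ∈ s, (O x : Set X), isOpen_biUnion fun x _ => (O x).isOpen⟩,
    hs.isCompact_biUnion fun x _ => (hO x).isCompact, fun x hx' => ?_⟩
  exact Set.mem_biUnion hx' (hx x)

variable [IsAffine U0.left]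

set_option maxHeartbeats 400000 in
/-- A point of the fibre over a field valued point gives a piece with a rational lift. -/
theorem exists_piece_fibrePoint {K : Type u} [Field K] {TK : Over S} (iT : Spec (CommRingCat.of K) ≅ TK.left)
    (ξK : (yon S).obj TK ⟶ F) (z₀ : ↥(hp.1.pullback ξK).left) :
    ∃ (d : ℕ) (b : Fin (d + 1) → Γ(U0.left, ⊤)) (R' : (rel hp).left.Opens),
      IsCompact (R' : Set (rel hp).left) ∧
      ∀ pc : Piece hp (d + 1) b R', ∃ o : TK ⟶ pc.O, (yon S).map o ≫ pc.ξ = ξK := by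
  classical
  have sqZ := hp.1.isPullback ξK
  let ZK := hp.1.pullback ξK
  let fK : ZK ⟶ TK := hp.1.snd ξK
  let gK := hp.1.fst ξK
  obtain ⟨⟨⟨⟨-, hq⟩, hf⟩, hsep⟩⟩ : PLift (LqfFlat fK.left) :=
    ⟨hp.2 ξK gK fK sqZ⟩
  have : LocallyQuasiFinite fK.left := hq
  have : LocallyOfFinitePresentation fK.left := hf
  have : IsSeparated fK.left := hsep
  let f₀ := fK.left ≫ iT.inv
  let t₀ : ↥(Spec (CommRingCat.of K)) := default
  have : IsLocallyArtinian ZK.left := .of_locallyQuasiFinite f₀
  have : DiscreteTopology ↥ZK.left := IsLocallyArtinian.discreteTopology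
  let Q : ZK.left.Opens := ⟨{z₀}, isOpen_discrete _⟩
  let P := Groth.L23.openOver ZK Q
  let j : P ⟶ ZK := Groth.L23.openOverι ZK Q
  let p : P ⟶ TK := j ≫ fK
  obtain ⟨uP, huP⟩ := (yon S).map_surjective ((yon S).map j ≫ gK)
  have hw : (yon S).map p ≫ ξK = (yon S).map uP ≫ p0 := by
    rw [huP, Category.assoc, sqZ.w, ← Category.assoc, ← Functor.map_comp]
  have : IsAffine P.left := by
    have : Subsingleton ↥Q.toScheme := ⟨fun a b => Subtype.ext (a.2.trans b.2.symm)⟩
    exact inferInstanceAs (IsAffine Q.toScheme)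
  let C := Γ(P.left, ⊤)
  let iP : Spec (CommRingCat.of C) ≅ P.left := P.left.isoSpec.symm
  obtain ⟨α, hα⟩ := Spec.map_surjective (iP.hom ≫ p.left ≫ iT.inv)
  let := α.hom.toAlgebra
  have hp1 : iP.hom ≫ p.left = Spec.map (CommRingCat.ofHom (algebraMap K C)) ≫ iT.hom := by
    rw [show CommRingCat.ofHom (algebraMap K C) = α from rfl, hα]
    simp
  have hPfin : IsFinite (p.left ≫ iT.inv) := by
    have : LocallyQuasiFinite (p.left ≫ iT.inv) := by
      show LocallyQuasiFinite ((j.left ≫ fK.left) ≫ iT.inv)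
      infer_instance
    have : QuasiCompact (p.left ≫ iT.inv) := inferInstance
    exact .of_locallyQuasiFinite _
  have : IsFinite (Spec.map α) := by rw [hα]; infer_instance
  have : Module.Finite K C := RingHom.finite_algebraMap.1 ((IsFinite.SpecMap_iff α).1 this)
  obtain ⟨γ, hγ⟩ := toU_surjective (U0 := U0) (iP.hom ≫ uP.left)
  let μ : K ⊗[ℤ] Γ(U0.left, ⊤) →+* C := (Algebra.TensorProduct.lift
    (Algebra.ofId K C) γ.toIntAlgHom fun _ _ => Commute.all _ _).toRingHom
  let X := Spec (CommRingCat.of (K ⊗[ℤ] Γ(U0.left, ⊤)))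
  have hμ1 : Spec.map (CommRingCat.ofHom μ) ≫
      Spec.map (CommRingCat.ofHom (Algebra.TensorProduct.includeLeftRingHom : K →+* K ⊗[ℤ] Γ(U0.left, ⊤))) =
      iP.hom ≫ p.left ≫ iT.inv := by
    rw [← Spec.map_comp, ← hα]
    congr 1
    ext k
    show μ (k ⊗ₜ 1) = _
    simp [μ]
    rfl
  have hμ2 : Spec.map (CommRingCat.ofHom μ) ≫ Spec.map (CommRingCat.ofHom
      (Algebra.TensorProduct.includeRight : Γ(U0.left, ⊤) →ₐ[ℤ] K ⊗[ℤ] Γ(U0.left, ⊤)).toRingHom) ≫
        U0.left.isoSpec.inv = iP.hom ≫ uP.left := by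
    rw [← hγ, toU, ← Spec.map_comp_assoc]
    congr 2
    ext k
    show μ (1 ⊗ₜ k) = _
    simp [μ]
  have hm : Mono (Spec.map (CommRingCat.ofHom μ)) := ⟨fun {W} x y hxy => by
    have e1 : x ≫ iP.hom ≫ p.left = y ≫ iP.hom ≫ p.left := by
      rw [← cancel_mono iT.inv, Category.assoc, Category.assoc, Category.assoc, Category.assoc, ← hμ1,
        reassoc_of% hxy]
    have e2 : x ≫ iP.hom ≫ uP.left = y ≫ iP.hom ≫ uP.left := by rw [← hμ2, reassoc_of% hxy]
    let WO : Over S := Over.mk (x ≫ iP.hom ≫ P.hom)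
    let xo : WO ⟶ P := Over.homMk (x ≫ iP.hom) (Category.assoc _ _ _)
    let yo : WO ⟶ P := Over.homMk (y ≫ iP.hom) (by
      show (y ≫ iP.hom) ≫ P.hom = x ≫ iP.hom ≫ P.hom
      rw [← Over.w p, Category.assoc, reassoc_of% e1])
    have : xo ≫ j = yo ≫ j := (yon S).map_injective (sqZ.hom_ext
      (by
        show (yon S).map (xo ≫ j) ≫ gK = (yon S).map (yo ≫ j) ≫ gK
        rw [Functor.map_comp_assoc, Functor.map_comp_assoc, ← huP, ← Functor.map_comp, ← Functor.map_comp]
        exact congrArg _ (Over.OverMorphism.ext (by simpa [xo, yo] using e2)))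
      (by
        show (yon S).map (xo ≫ j) ≫ (yon S).map fK = (yon S).map (yo ≫ j) ≫ (yon S).map fK
        rw [← Functor.map_comp, ← Functor.map_comp]
        exact congrArg _ (Over.OverMorphism.ext (by simpa [xo, yo, p] using e1))))
    have e3 := congrArg CommaMorphism.left this
    exact (cancel_mono iP.hom).1 ((cancel_mono j.left).1 e3)⟩
  have : IsFinite (Spec.map (CommRingCat.ofHom μ) ≫
      Spec.map (CommRingCat.ofHom (Algebra.TensorProduct.includeLeftRingHom : K →+* K ⊗[ℤ] Γ(U0.left, ⊤)))) := by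
    rw [hμ1, ← hα]; infer_instance
  have : IsFinite (Spec.map (CommRingCat.ofHom μ)) := IsFinite.of_comp _
    (Spec.map (CommRingCat.ofHom (Algebra.TensorProduct.includeLeftRingHom : K →+* K ⊗[ℤ] Γ(U0.left, ⊤))))
  have hμs : Function.Surjective μ := by
    have : IsClosedImmersion (Spec.map (CommRingCat.ofHom μ)) :=
      (IsClosedImmersion.iff_isFinite_and_mono _).2 ⟨inferInstance, hm⟩
    exact surjective_of_isClosedImmersion_Spec (CommRingCat.ofHom μ)
  have hspan : Submodule.span K (Set.range γ) = ⊤ := by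
    rw [eq_top_iff]
    rintro c -
    obtain ⟨x, rfl⟩ := hμs c
    induction x using TensorProduct.induction_on with
    | zero => simp
    | add x y hx hy => rw [map_add]; exact Submodule.add_mem _ hx hy
    | tmul k x =>
      have : μ (k ⊗ₜ x) = k • γ x := by simp [μ, Algebra.smul_def]
      rw [this]
      exact Submodule.smul_mem _ _ (Submodule.subset_span ⟨x, rfl⟩)
  obtain ⟨bs, hsub, hbs, hli⟩ := exists_linearIndependent K (Set.range γ)
  let e := Module.Basis.mk hli (by rw [Subtype.range_coe, hbs, hspan])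
  have : Finite bs := Module.Finite.finite_basis e
  obtain ⟨z⟩ : Nonempty ↥(Spec (CommRingCat.of C)) := ⟨iP.inv (⟨z₀, rfl⟩ : ↥Q.toScheme)⟩
  have : Nontrivial C := PrimeSpectrum.nonempty_iff_nontrivial.1 ⟨z⟩
  have : Nonempty bs := e.index_nonempty
  obtain ⟨d, hd⟩ : ∃ d, Nat.card bs = d + 1 :=
    ⟨Nat.card bs - 1, (Nat.succ_pred_eq_of_pos Nat.card_pos).symm⟩
  let bC : Module.Basis (Fin (d + 1)) K C := e.reindex ((Finite.equivFin bs).trans (finCongr hd))
  have hex : ∀ i, ∃ x, γ x = bC i := fun i => hsub (by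
    simp only [bC, Module.Basis.reindex_apply, e, Module.Basis.coe_mk]
    exact Subtype.coe_prop _)
  choose b hb using hex
  obtain ⟨r₂, -, -, hr₂⟩ := exists_pairs hp p uP ξK hw
  have : Finite ↥(pullback p p).left := by
    have sq := (IsPullback.of_hasPullback p p).map (Over.forget S)
    have : IsFinite p.left := by
      have h := MorphismProperty.RespectsIso.postcomp @IsFinite iT.hom _ hPfin
      simpa using h
    have : IsFinite (pullback.fst p p).left := MorphismProperty.of_isPullback sq.flip ‹IsFinite p.left›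
    have : IsFinite ((pullback.fst p p).left ≫ p.left ≫ iT.inv) := inferInstance
    exact finite_of_isFinite_field ((pullback.fst p p).left ≫ p.left ≫ iT.inv)
  obtain ⟨R', hR', hsubR⟩ := exists_isCompact_opens (Set.finite_range r₂.left)
  refine ⟨d, b, R', hR', fun pc => ?_⟩
  have hopen : ∀ z : P ⟶ hp.1.pullback ξK, (yon S).map z ≫ hp.1.fst ξK = (yon S).map uP →
      z ≫ hp.1.snd ξK = p → IsOpenImmersion z.left := fun z hz1 hz2 => by
    rw [show z = j from (yon S).map_injective (sqZ.hom_ext (by rw [hz1, huP]) (by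
      show (yon S).map z ≫ (yon S).map fK = (yon S).map j ≫ (yon S).map fK
      rw [← Functor.map_comp, ← Functor.map_comp]; exact congrArg _ hz2))]
    infer_instance
  obtain ⟨o, -, -, -, ho⟩ := pc.exists_hom K C TK iT γ bC (fun i => (hb i).symm) ξK P iP p uP hp1 hγ.symm hw
    hopen fun W x y r hxy hr1 hr2 => by
      rw [← hr₂ x y r hxy hr1 hr2]
      rintro _ ⟨t, rfl⟩
      exact hsubR ⟨(pullback.lift x y hxy).left t, rfl⟩
  exact ⟨o, ho⟩

/-- A point of `U0` over a field valued point gives a piece through it. -/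
theorem exists_piece_point {K : Type u} [Field K] {TK : Over S} (iT : Spec (CommRingCat.of K) ≅ TK.left)
    (ξK : (yon S).obj TK ⟶ F) (s : TK ⟶ U0) (hs : (yon S).map s ≫ p0 = ξK) :
    ∃ (d : ℕ) (b : Fin (d + 1) → Γ(U0.left, ⊤)) (R' : (rel hp).left.Opens),
      IsCompact (R' : Set (rel hp).left) ∧
      ∀ pc : Piece hp (d + 1) b R', ∃ o : TK ⟶ pc.O, (yon S).map o ≫ pc.ξ = ξK := by
  obtain ⟨sZ, -⟩ := (yon S).map_surjective ((hp.1.isPullback ξK).lift ((yon S).map s) (𝟙 _)
    (by rw [hs, Category.id_comp]))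
  exact exists_piece_fibrePoint hp iT ξK (sZ.left (iT.hom default))

end Groth.L24.Boot
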