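import Groth.Agent.L24.Boot.QuotRing
import Mathlib.RingTheory.TensorProduct.Free
import Mathlib.RingTheory.IsTensorProduct

/-!
The ring classifying finite free quotients with a basis, equipped with a factorisation of their pair map.
-/

set_option autoImplicit false
set_option backward.isDefEq.respectTransparency false
set_option backward.isDefEq.respectTransparency.types false

universe u

open TensorProduct

noncomputable section

namespace Groth.L24.Boot

section Base

variable {R R3 A C : Type u} [CommRing R] [CommRing R3] [CommRing A] [CommRing C] [Algebra R A] [Algebra R3 C]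

/-- The map of self tensor products over a map of bases. -/
def pairHom (θ : R →+* R3) (Φ : A →+* C) (h : Φ.comp (algebraMap R A) = (algebraMap R3 C).comp θ) :
    A ⊗[R] A →+* C ⊗[R3] C :=
  letI := ((algebraMap R3 (C ⊗[R3] C)).comp θ).toAlgebra
  (Algebra.TensorProduct.lift
    ({ ((Algebra.TensorProduct.includeLeftRingHom : C →+* C ⊗[R3] C).comp Φ) with
        commutes' := fun x => by
          show (Φ (algebraMap R A x)) ⊗ₜ[R3] (1 : C) = _
          rw [show Φ (algebraMap R A x) = algebraMap R3 C (θ x) from DFunLike.congr_fun h x]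
          rfl } : A →ₐ[R] C ⊗[R3] C)
    ({ ((Algebra.TensorProduct.includeRight : C →ₐ[R3] C ⊗[R3] C).toRingHom.comp Φ) with
        commutes' := fun x => by
          show (1 : C) ⊗ₜ[R3] (Φ (algebraMap R A x)) = _
          rw [show Φ (algebraMap R A x) = algebraMap R3 C (θ x) from DFunLike.congr_fun h x]
          exact (Algebra.TensorProduct.algebraMap_apply' _).symm } : A →ₐ[R] C ⊗[R3] C)
    fun _ _ => Commute.all _ _).toRingHom

theorem pairHom_tmul (θ : R →+* R3) (Φ : A →+* C) (h : Φ.comp (algebraMap R A) = (algebraMap R3 C).comp θ)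
    (x y : A) : pairHom θ Φ h (x ⊗ₜ y) = Φ x ⊗ₜ Φ y := by
  simp [pairHom]

variable [Algebra R R3] [Algebra R C] [IsScalarTower R R3 C]

/-- An algebra map sending a basis to a basis exhibits a base change. -/
theorem bijective_lift_of_basis {ι : Type} (e : Module.Basis ι R A) (e' : Module.Basis ι R3 C)
    (Φ : A →ₐ[R] C) (h : ∀ i, Φ (e i) = e' i) :
    Function.Bijective (Algebra.TensorProduct.lift (Algebra.ofId R3 C) Φ fun _ _ => Commute.all _ _) := by
  let L := (Algebra.TensorProduct.lift (Algebra.ofId R3 C) Φ fun _ _ => Commute.all _ _).toLinearMap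
  have : L = ((Algebra.TensorProduct.basis R3 e).equiv e' (Equiv.refl ι)).toLinearMap := by
    refine (Algebra.TensorProduct.basis R3 e).ext fun i => ?_
    rw [LinearEquiv.coe_coe, Module.Basis.equiv_apply, Equiv.refl_apply]
    simp [L, h]
  show Function.Bijective L
  rw [this]
  exact LinearEquiv.bijective _

end Base

variable {B : Type u} [CommRing B] {d : ℕ}

/-- The pair of a map from `B`. -/
def pairB {R C : Type u} [CommRing R] [CommRing C] [Algebra R C] (γ : B →+* C) : B ⊗[ℤ] B →+* C ⊗[R] C :=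
  (Algebra.TensorProduct.lift ((Algebra.TensorProduct.includeLeftRingHom : C →+* C ⊗[R] C).comp γ).toIntAlgHom
    ((Algebra.TensorProduct.includeRight : C →ₐ[R] C ⊗[R] C).toRingHom.comp γ).toIntAlgHom
    fun _ _ => Commute.all _ _).toRingHom

theorem pairB_tmul {R C : Type u} [CommRing R] [CommRing C] [Algebra R C] (γ : B →+* C) (x y : B) :
    pairB (R := R) γ (x ⊗ₜ y) = γ x ⊗ₜ γ y := by
  simp [pairB]

theorem pairHom_comp_pairB {R R3 A C : Type u} [CommRing R] [CommRing R3] [CommRing A] [CommRing C]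
    [Algebra R A] [Algebra R3 C] (θ : R →+* R3) (Φ : A →+* C)
    (h : Φ.comp (algebraMap R A) = (algebraMap R3 C).comp θ) (β : B →+* A) (x : B ⊗[ℤ] B) :
    pairHom θ Φ h (pairB β x) = pairB (Φ.comp β) x := by
  induction x with
  | zero => simp
  | tmul x y => rw [pairB_tmul, pairHom_tmul, pairB_tmul]; rfl
  | add x y hx hy => simp only [map_add, hx, hy]

/-- Universal finite free quotients with basis `b` and a lift of the pair map to `D`. -/
theorem exists_univ (b : Fin d → B) {D : Type u} [CommRing D] [Algebra (B ⊗[ℤ] B) D] :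
    ∃ (R2 : Type u) (_ : CommRing R2) (A2 : Type u) (_ : CommRing A2) (_ : Algebra R2 A2) (β2 : B →+* A2)
      (e : Module.Basis (Fin d) R2 A2) (Φ2 : D →+* A2 ⊗[R2] A2),
      (∀ i, e i = β2 (b i)) ∧ Φ2.comp (algebraMap (B ⊗[ℤ] B) D) = pairB β2 ∧
      ∀ (R3 C : Type u) [CommRing R3] [CommRing C] [Algebra R3 C] (γ : B →+* C)
        (bC : Module.Basis (Fin d) R3 C), (∀ i, bC i = γ (b i)) → ∀ (g : D →+* C ⊗[R3] C),
        g.comp (algebraMap (B ⊗[ℤ] B) D) = pairB γ →
        ∃! θ : R2 →+* R3, ∃ (Φ : A2 →+* C) (h : Φ.comp (algebraMap R2 A2) = (algebraMap R3 C).comp θ),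
          Φ.comp β2 = γ ∧ (pairHom θ Φ h).comp Φ2 = g := by
  obtain ⟨Q, _, A, _, _, quotMap, quotBasis, quotBasis_apply, existsUnique_quotHom⟩ := exists_quotChart b
  let w := quotBasis.tensorProduct quotBasis
  obtain ⟨R2, _, _, Φw, hΦw, huniv⟩ := exists_weilRing (E := D) (B2 := B ⊗[ℤ] B) w (pairB (R := Q) (C := A) quotMap)
  let A2 := R2 ⊗[Q] A
  let j : A →+* A2 := (Algebra.TensorProduct.includeRight : A →ₐ[Q] A2).toRingHom
  have hj : j.comp (algebraMap Q A) = (algebraMap R2 A2).comp (algebraMap Q R2) := RingHom.ext fun q => by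
    show (1 : R2) ⊗ₜ[Q] algebraMap Q A q = algebraMap Q R2 q ⊗ₜ (1 : A)
    rw [Algebra.algebraMap_eq_smul_one, Algebra.algebraMap_eq_smul_one, TensorProduct.tmul_smul,
      TensorProduct.smul_tmul']
  let mi : A ⊗[Q] A →ₐ[Q] A2 ⊗[R2] A2 :=
    { pairHom (algebraMap Q R2) j hj with
      commutes' := fun q => by
        show pairHom (algebraMap Q R2) j hj (algebraMap Q A q ⊗ₜ 1) = _
        rw [pairHom_tmul, map_one, show j (algebraMap Q A q) = algebraMap R2 A2 (algebraMap Q R2 q) from DFunLike.congr_fun hj q,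
          IsScalarTower.algebraMap_apply Q R2 (A2 ⊗[R2] A2)]
        rfl }
  let m : R2 ⊗[Q] (A ⊗[Q] A) →+* A2 ⊗[R2] A2 :=
    (Algebra.TensorProduct.lift (Algebra.ofId R2 (A2 ⊗[R2] A2)) mi fun _ _ => Commute.all _ _).toRingHom
  refine ⟨R2, inferInstance, A2, inferInstance, inferInstance, j.comp quotMap,
    Algebra.TensorProduct.basis R2 quotBasis, m.comp Φw, fun i => ?_, ?_, ?_⟩
  · rw [Algebra.TensorProduct.basis_apply, quotBasis_apply]; rfl
  · refine RingHom.ext fun x => ?_
    show m (Φw (algebraMap _ D x)) = _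
    rw [show Φw (algebraMap _ D x) = 1 ⊗ₜ pairB (R := Q) (C := A) quotMap x from DFunLike.congr_fun hΦw x]
    show (Algebra.TensorProduct.lift (Algebra.ofId R2 (A2 ⊗[R2] A2)) mi fun _ _ => Commute.all _ _)
      ((1 : R2) ⊗ₜ[Q] pairB (R := Q) (C := A) quotMap x) = _
    rw [Algebra.TensorProduct.lift_tmul, map_one, one_mul]
    exact pairHom_comp_pairB _ _ hj _ x
  intro R3 C _ _ _ γ bC hb g hg
  obtain ⟨χ, ⟨Φ1, hΦ1, hΦ1β⟩, hχu⟩ := existsUnique_quotHom R3 C γ bC hb
  let := χ.toAlgebra
  let := ((algebraMap R3 C).comp χ).toAlgebra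
  have : IsScalarTower Q R3 C := IsScalarTower.of_algebraMap_eq fun _ => rfl
  let Φ1' : A →ₐ[Q] C := { Φ1 with commutes' := fun q => DFunLike.congr_fun hΦ1 q }
  let mC : A ⊗[Q] A →ₐ[Q] C ⊗[R3] C :=
    { pairHom χ Φ1 hΦ1 with
      commutes' := fun q => by
        show pairHom χ Φ1 hΦ1 (algebraMap Q A q ⊗ₜ 1) = _
        rw [pairHom_tmul, map_one, show Φ1 (algebraMap Q A q) = algebraMap R3 C (χ q) from DFunLike.congr_fun hΦ1 q,
          IsScalarTower.algebraMap_apply Q R3 (C ⊗[R3] C)]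
        rfl }
  let LC := Algebra.TensorProduct.lift (Algebra.ofId R3 (C ⊗[R3] C)) mC fun _ _ => Commute.all _ _
  have hbij : Function.Bijective LC := bijective_lift_of_basis w (bC.tensorProduct bC) mC fun i => by
    show pairHom χ Φ1 hΦ1 _ = _
    simp only [w, Module.Basis.tensorProduct_apply']
    rw [pairHom_tmul, quotBasis_apply, quotBasis_apply, hb, hb,
      ← DFunLike.congr_fun hΦ1β (b i.1), ← DFunLike.congr_fun hΦ1β (b i.2)]
    rfl
  let eC := AlgEquiv.ofBijective LC hbij
  have hcomp : (eC.symm.toRingEquiv.toRingHom.comp g).comp (algebraMap (B ⊗[ℤ] B) D) =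
      (Algebra.TensorProduct.includeRight : (A ⊗[Q] A) →ₐ[Q] R3 ⊗[Q] (A ⊗[Q] A)).toRingHom.comp (pairB (R := Q) (C := A) quotMap) := by
    refine RingHom.ext fun x => eC.injective ?_
    show eC (eC.symm (g (algebraMap _ D x))) = LC (1 ⊗ₜ pairB (R := Q) (C := A) quotMap x)
    rw [AlgEquiv.apply_symm_apply, show g (algebraMap _ D x) = pairB γ x from DFunLike.congr_fun hg x]
    show _ = (Algebra.TensorProduct.lift (Algebra.ofId R3 (C ⊗[R3] C)) mC fun _ _ => Commute.all _ _)
      ((1 : R3) ⊗ₜ[Q] pairB (R := Q) (C := A) quotMap x)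
    rw [Algebra.TensorProduct.lift_tmul, map_one, one_mul]
    show _ = pairHom χ Φ1 hΦ1 (pairB (R := Q) (C := A) quotMap x)
    rw [pairHom_comp_pairB, hΦ1β]
  obtain ⟨θ, hθ, hθu⟩ := huniv R3 (eC.symm.toRingEquiv.toRingHom.comp g) hcomp
  -- compatibility of the two pair maps
  have key : ∀ (θ' : R2 →ₐ[Q] R3) (Φ : A2 →+* C) (h : Φ.comp (algebraMap R2 A2) = (algebraMap R3 C).comp θ'.toRingHom),
      (∀ a, Φ (j a) = Φ1 a) → ∀ z, pairHom θ'.toRingHom Φ h (m z) = LC (Algebra.TensorProduct.map θ' (AlgHom.id Q _) z) := by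
    intro θ' Φ h hΦj z
    induction z with
    | zero => simp
    | tmul r a =>
      have e : ∀ a, pairHom θ'.toRingHom Φ h (mi a) = mC a := fun a => by
        induction a with
        | zero => simp
        | tmul x y =>
          show pairHom θ'.toRingHom Φ h (pairHom (algebraMap Q R2) j hj (x ⊗ₜ y)) = pairHom χ Φ1 hΦ1 (x ⊗ₜ y)
          rw [pairHom_tmul, pairHom_tmul, pairHom_tmul, hΦj, hΦj]
        | add x y hx hy => simp only [map_add, hx, hy]
      have e1 : m (r ⊗ₜ a) = algebraMap R2 (A2 ⊗[R2] A2) r * mi a :=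
        Algebra.TensorProduct.lift_tmul _ _ _ _ _
      rw [e1, map_mul, e]
      simp only [LC, Algebra.TensorProduct.map_tmul, Algebra.TensorProduct.lift_tmul, AlgHom.coe_id, id_eq]
      congr 1
      show pairHom θ'.toRingHom Φ h (algebraMap R2 A2 r ⊗ₜ 1) = _
      rw [pairHom_tmul, map_one, show Φ (algebraMap R2 A2 r) = algebraMap R3 C (θ' r) from DFunLike.congr_fun h r]
      rfl
    | add x y hx hy => simp only [map_add, hx, hy]
  let θC : R2 →ₐ[Q] C := (IsScalarTower.toAlgHom Q R3 C).comp θ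
  let Φ : A2 →+* C := (Algebra.TensorProduct.lift θC Φ1' fun _ _ => Commute.all _ _).toRingHom
  have hΦ : Φ.comp (algebraMap R2 A2) = (algebraMap R3 C).comp θ.toRingHom := RingHom.ext fun r => by
    show (Algebra.TensorProduct.lift θC Φ1' fun _ _ => Commute.all _ _) (r ⊗ₜ[Q] (1 : A)) = _
    rw [Algebra.TensorProduct.lift_tmul, map_one, mul_one]
    rfl
  have hΦj : ∀ a, Φ (j a) = Φ1 a := fun a => by
    show (Algebra.TensorProduct.lift θC Φ1' fun _ _ => Commute.all _ _) ((1 : R2) ⊗ₜ[Q] a) = _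
    rw [Algebra.TensorProduct.lift_tmul, map_one, one_mul]
    rfl
  refine ⟨θ.toRingHom, ⟨Φ, hΦ, RingHom.ext fun x => ?_, RingHom.ext fun x => ?_⟩, ?_⟩
  · show Φ (j (quotMap x)) = γ x
    rw [hΦj]; exact DFunLike.congr_fun hΦ1β x
  · show pairHom θ.toRingHom Φ hΦ (m (Φw x)) = g x
    rw [key θ Φ hΦ hΦj]
    exact (congrArg eC (DFunLike.congr_fun hθ x)).trans (eC.apply_symm_apply _)
  rintro θ' ⟨Φ', h', hβ', hg'⟩
  have hχ' : θ'.comp (algebraMap Q R2) = χ := hχu _ ⟨Φ'.comp j, RingHom.ext fun q => by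
    show Φ' (j (algebraMap Q A q)) = _
    rw [show j (algebraMap Q A q) = algebraMap R2 A2 (algebraMap Q R2 q) from DFunLike.congr_fun hj q]
    exact DFunLike.congr_fun h' _, by rw [RingHom.comp_assoc]; exact hβ'⟩
  let θA : R2 →ₐ[Q] R3 := { θ' with commutes' := fun q => DFunLike.congr_fun hχ' q }
  have hj' : ∀ a, Φ' (j a) = Φ1 a := fun a => by
    have e : ∀ a, quotBasis.repr a = quotBasis.repr a := fun _ => rfl
    conv_lhs => rw [← quotBasis.sum_repr a]
    conv_rhs => rw [← quotBasis.sum_repr a]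
    simp only [map_sum]
    refine Finset.sum_congr rfl fun i _ => ?_
    rw [Algebra.smul_def, map_mul, map_mul, map_mul, quotBasis_apply]
    congr 1
    · rw [show j (algebraMap Q A (quotBasis.repr a i)) = algebraMap R2 A2 (algebraMap Q R2 _) from DFunLike.congr_fun hj _,
        show Φ1 (algebraMap Q A (quotBasis.repr a i)) = algebraMap R3 C (χ _) from DFunLike.congr_fun hΦ1 _]
      rw [show Φ' (algebraMap R2 A2 (algebraMap Q R2 (quotBasis.repr a i))) = algebraMap R3 C (θ' _) from DFunLike.congr_fun h' _]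
      exact congrArg (algebraMap R3 C) (DFunLike.congr_fun hχ' _)
    · exact (DFunLike.congr_fun hβ' (b i)).trans (DFunLike.congr_fun hΦ1β (b i)).symm
  have : θA = θ := hθu θA (RingHom.ext fun x => eC.injective (by
    show LC (Algebra.TensorProduct.map θA (AlgHom.id Q _) (Φw x)) = eC (eC.symm (g x))
    rw [AlgEquiv.apply_symm_apply, ← key θA Φ' h' hj' (Φw x)]
    exact DFunLike.congr_fun hg' x))
  exact congrArg AlgHom.toRingHom this

end Groth.L24.Boot
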