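import Groth.Agent.L24.Boot.LqfBase
import Groth.Agent.L24.Boot.Univ
import Mathlib.AlgebraicGeometry.ZariskisMainTheorem
import Mathlib.AlgebraicGeometry.Morphisms.FlatMono
import Mathlib.AlgebraicGeometry.Morphisms.Finite
import Mathlib.AlgebraicGeometry.Sites.Fpqc
import Mathlib.RingTheory.Flat.FaithfullyFlat.Basic

/-!
Spectra of finite free algebras, and the relation of a flat quasi-finite presentation.
-/

set_option autoImplicit false
set_option backward.isDefEq.respectTransparency false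
set_option backward.isDefEq.respectTransparency.types false

universe u

open CategoryTheory CategoryTheory.Limits AlgebraicGeometry Opposite AlgSp TensorProduct

noncomputable section

namespace Groth.L24.Boot

/-- A map of algebras sending a basis to a basis gives a cartesian square of spectra. -/
theorem isPullback_spec_of_basis {R R3 A C : Type u} [CommRing R] [CommRing R3] [CommRing A] [CommRing C]
    [Algebra R A] [Algebra R3 C] (θ : R →+* R3) (Φ : A →+* C)
    (h : Φ.comp (algebraMap R A) = (algebraMap R3 C).comp θ) {ι : Type} (e : Module.Basis ι R A)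
    (e' : Module.Basis ι R3 C) (he : ∀ i, Φ (e i) = e' i) :
    IsPullback (Spec.map (CommRingCat.ofHom Φ)) (Spec.map (CommRingCat.ofHom (algebraMap R3 C)))
      (Spec.map (CommRingCat.ofHom (algebraMap R A))) (Spec.map (CommRingCat.ofHom θ)) := by
  let := θ.toAlgebra
  let := ((algebraMap R3 C).comp θ).toAlgebra
  have : IsScalarTower R R3 C := IsScalarTower.of_algebraMap_eq fun _ => rfl
  let Φ' : A →ₐ[R] C := { Φ with commutes' := fun x => DFunLike.congr_fun h x }
  have hb := bijective_lift_of_basis e e' Φ' he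
  let L := RingEquiv.ofBijective
    (Algebra.TensorProduct.lift (Algebra.ofId R3 C) Φ' fun _ _ => Commute.all _ _).toRingHom hb
  let i : Spec (CommRingCat.of C) ≅ Spec (CommRingCat.of (R3 ⊗[R] A)) :=
    Scheme.Spec.mapIso L.toCommRingCatIso.op
  refine IsPullback.of_iso_pullback ⟨?_⟩ (i ≪≫ (pullbackSpecIso R R3 A).symm ≪≫ pullbackSymmetry _ _) ?_ ?_
  · rw [← Spec.map_comp, ← Spec.map_comp]
    exact congrArg Spec.map (CommRingCat.hom_ext h)
  · show (i.hom ≫ (pullbackSpecIso R R3 A).inv ≫ (pullbackSymmetry _ _).hom) ≫ pullback.fst _ _ = _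
    simp only [Category.assoc, pullbackSymmetry_hom_comp_fst]
    erw [pullbackSpecIso_inv_snd]
    show Spec.map _ ≫ Spec.map _ = _
    rw [← Spec.map_comp]
    congr 1
    ext a
    show (Algebra.TensorProduct.lift (Algebra.ofId R3 C) Φ' fun _ _ => Commute.all _ _) (1 ⊗ₜ a) = _
    simp [Φ']
  · show (i.hom ≫ (pullbackSpecIso R R3 A).inv ≫ (pullbackSymmetry _ _).hom) ≫ pullback.snd _ _ = _
    simp only [Category.assoc, pullbackSymmetry_hom_comp_snd]
    erw [pullbackSpecIso_inv_fst]
    show Spec.map _ ≫ Spec.map _ = _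
    rw [← Spec.map_comp]
    congr 1
    ext a
    show (Algebra.TensorProduct.lift (Algebra.ofId R3 C) Φ' fun _ _ => Commute.all _ _) (a ⊗ₜ 1) = _
    simp

theorem flat_surjective_spec_of_basis {R A : Type u} [CommRing R] [CommRing A] [Algebra R A] {d : ℕ} [NeZero d]
    (e : Module.Basis (Fin d) R A) :
    Flat (Spec.map (CommRingCat.ofHom (algebraMap R A))) ∧ Surjective (Spec.map (CommRingCat.ofHom (algebraMap R A))) ∧
      LocallyOfFinitePresentation (Spec.map (CommRingCat.ofHom (algebraMap R A))) ∧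
      IsFinite (Spec.map (CommRingCat.ofHom (algebraMap R A))) := by
  have : Module.Finite R A := Module.Finite.of_basis e
  have : Module.Free R A := Module.Free.of_basis e
  have : Nontrivial A ∨ Subsingleton A := (subsingleton_or_nontrivial A).symm
  have : Module.FaithfullyFlat R A :=
    Module.FaithfullyFlat.of_linearEquiv _ _ (e.repr)
  refine ⟨?_, ⟨PrimeSpectrum.comap_surjective_of_faithfullyFlat⟩, ?_, ?_⟩
  · rw [Flat.SpecMap_iff]
    exact RingHom.flat_algebraMap_iff.2 inferInstance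
  · rw [HasRingHomProperty.Spec_iff (P := @LocallyOfFinitePresentation)]
    have : Module.FinitePresentation R A := Module.finitePresentation_of_projective R A
    exact RingHom.finitePresentation_algebraMap.2 ((Algebra.FinitePresentation.of_finitePresentation R A))
  · rw [IsFinite.SpecMap_iff]
    exact RingHom.finite_algebraMap.2 inferInstance

variable {S : Scheme.{u}} {F : Sp S} {U0 : Over S} {p0 : (yon S).obj U0 ⟶ F} (hp : RepWith LqfFlat p0)

/-- The relation `U0 ×_F U0`. -/
def rel : Over S := hp.1.pullback p0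

/-- The first projection of the relation. -/
def rel1 : rel hp ⟶ U0 := (yon S).preimage (hp.1.fst p0)

/-- The second projection of the relation. -/
def rel2 : rel hp ⟶ U0 := hp.1.snd p0

theorem rel_isPullback : IsPullback ((yon S).map (rel1 hp)) ((yon S).map (rel2 hp)) p0 p0 := by
  rw [rel1, Functor.map_preimage]
  exact hp.1.isPullback p0

theorem rel_props : LqfFlat (rel1 hp).left ∧ LqfFlat (rel2 hp).left :=
  ⟨hp.2 p0 _ _ (rel_isPullback hp).flip, hp.2 p0 _ _ (rel_isPullback hp)⟩

theorem rel_hom_ext_left {X : Scheme.{u}} {e e' : X ⟶ (rel hp).left}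
    (h1 : e ≫ (rel1 hp).left = e' ≫ (rel1 hp).left) (h2 : e ≫ (rel2 hp).left = e' ≫ (rel2 hp).left) : e = e' := by
  let W : Over S := Over.mk (e ≫ (rel hp).hom)
  let eO : W ⟶ rel hp := Over.homMk e rfl
  let eO' : W ⟶ rel hp := Over.homMk e' (by
    show e' ≫ _ = e ≫ _
    rw [← Over.w (rel1 hp), reassoc_of% h1])
  refine congrArg CommaMorphism.left ((yon S).map_injective ((rel_isPullback hp).hom_ext ?_ ?_) : eO = eO')
  · rw [← Functor.map_comp, ← Functor.map_comp]; congr 1; exact Over.OverMorphism.ext h1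
  · rw [← Functor.map_comp, ← Functor.map_comp]; congr 1; exact Over.OverMorphism.ext h2

variable [IsAffine U0.left]

/-- The map to `U0` given by a map of rings. -/
def toU {C : Type u} [CommRing C] (γ : Γ(U0.left, ⊤) →+* C) : Spec (CommRingCat.of C) ⟶ U0.left :=
  Spec.map (CommRingCat.ofHom γ) ≫ U0.left.isoSpec.inv

theorem toU_surjective {C : Type u} [CommRing C] (f : Spec (CommRingCat.of C) ⟶ U0.left) :
    ∃ γ : Γ(U0.left, ⊤) →+* C, toU γ = f := by
  obtain ⟨γ, hγ⟩ := Spec.map_surjective (f ≫ U0.left.isoSpec.hom)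
  exact ⟨γ.hom, by show Spec.map γ ≫ _ = f; rw [hγ]; simp⟩

omit [IsAffine U0.left] in
theorem toU_injective [IsAffine U0.left] {C : Type u} [CommRing C] {γ γ' : Γ(U0.left, ⊤) →+* C}
    (h : toU (U0 := U0) γ = toU γ') : γ = γ' :=
  congrArg CommRingCat.Hom.hom (Spec.map_injective ((cancel_mono U0.left.isoSpec.inv).1 h))

set_option maxHeartbeats 400000 in
/-- A quasi-compact open of the relation is open in an affine scheme over `U0 × U0`. -/
theorem exists_target (R' : (rel hp).left.Opens) (hR' : IsCompact (R' : Set (rel hp).left)) :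
    ∃ (D : CommRingCat.{u}) (δ : Γ(U0.left, ⊤) ⊗[ℤ] Γ(U0.left, ⊤) →+* D) (k : R'.toScheme ⟶ Spec D),
      IsOpenImmersion k ∧
      k ≫ Spec.map (CommRingCat.ofHom (δ.comp Algebra.TensorProduct.includeLeftRingHom)) =
        R'.ι ≫ (rel1 hp).left ≫ U0.left.isoSpec.hom ∧
      k ≫ Spec.map (CommRingCat.ofHom (δ.comp (Algebra.TensorProduct.includeRight :
          Γ(U0.left, ⊤) →ₐ[ℤ] Γ(U0.left, ⊤) ⊗[ℤ] Γ(U0.left, ⊤)).toRingHom)) =
        R'.ι ≫ (rel2 hp).left ≫ U0.left.isoSpec.hom := by
  let B := Γ(U0.left, ⊤)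
  obtain ⟨⟨⟨hr11, hr12⟩, hr13⟩, hr14⟩ := (rel_props hp).1
  let inlB : B →+* B ⊗[ℤ] B := Algebra.TensorProduct.includeLeftRingHom
  let inrB : B →+* B ⊗[ℤ] B := (Algebra.TensorProduct.includeRight : B →ₐ[ℤ] B ⊗[ℤ] B).toRingHom
  let f1 := R'.ι ≫ (rel1 hp).left
  let f2 := R'.ι ≫ (rel2 hp).left
  let L : B ⊗[ℤ] B →+* Γ(R'.toScheme, ⊤) := (Algebra.TensorProduct.lift f1.appTop.hom.toIntAlgHom
    f2.appTop.hom.toIntAlgHom fun _ _ => Commute.all _ _).toRingHom
  have hL1 : ∀ x, L (x ⊗ₜ 1) = f1.appTop.hom x := fun x => by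
    show (Algebra.TensorProduct.lift _ _ _) (x ⊗ₜ[ℤ] (1 : B)) = _
    rw [Algebra.TensorProduct.lift_tmul, map_one, mul_one]
    rfl
  have hL2 : ∀ x, L (1 ⊗ₜ x) = f2.appTop.hom x := fun x => by
    show (Algebra.TensorProduct.lift _ _ _) ((1 : B) ⊗ₜ[ℤ] x) = _
    rw [Algebra.TensorProduct.lift_tmul, map_one, one_mul]
    rfl
  obtain ⟨g', hg'⟩ : ∃ g' : R'.toScheme ⟶ Spec (CommRingCat.of (B ⊗[ℤ] B)),
      g' = R'.toScheme.toSpecΓ ≫ Spec.map (CommRingCat.ofHom L) := ⟨_, rfl⟩
  have hg1 : g' ≫ Spec.map (CommRingCat.ofHom inlB) = R'.ι ≫ (rel1 hp).left ≫ U0.left.isoSpec.hom := by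
    rw [hg', ← Category.assoc R'.ι, Scheme.isoSpec_hom, Scheme.toSpecΓ_naturality, Category.assoc, ← Spec.map_comp]
    exact congrArg (R'.toScheme.toSpecΓ ≫ ·) (congrArg Spec.map (CommRingCat.hom_ext (RingHom.ext hL1)))
  have hg2 : g' ≫ Spec.map (CommRingCat.ofHom inrB) = R'.ι ≫ (rel2 hp).left ≫ U0.left.isoSpec.hom := by
    rw [hg', ← Category.assoc R'.ι, Scheme.isoSpec_hom, Scheme.toSpecΓ_naturality, Category.assoc, ← Spec.map_comp]
    exact congrArg (R'.toScheme.toSpecΓ ≫ ·) (congrArg Spec.map (CommRingCat.hom_ext (RingHom.ext hL2)))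
  have : LocallyOfFiniteType (g' ≫ Spec.map (CommRingCat.ofHom inlB)) := by rw [hg1]; infer_instance
  have : LocallyQuasiFinite (g' ≫ Spec.map (CommRingCat.ofHom inlB)) := by rw [hg1]; infer_instance
  have : IsSeparated (g' ≫ Spec.map (CommRingCat.ofHom inlB)) := by rw [hg1]; infer_instance
  have : LocallyOfFiniteType g' := locallyOfFiniteType_of_comp g' (Spec.map (CommRingCat.ofHom inlB))
  have : LocallyQuasiFinite g' := LocallyQuasiFinite.of_comp g' (Spec.map (CommRingCat.ofHom inlB))
  have : IsSeparated g' := IsSeparated.of_comp g' (Spec.map (CommRingCat.ofHom inlB))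
  have : CompactSpace R'.toScheme := isCompact_iff_compactSpace.1 hR'
  have : QuasiCompact (g' ≫ terminal.from _) := by
    rw [terminal.comp_from]; exact (quasiCompact_iff_compactSpace _).2 this
  have : QuasiCompact g' := QuasiCompact.of_comp g' (terminal.from _)
  have : IsAffine g'.normalization := isAffine_of_isAffineHom g'.fromNormalization
  obtain ⟨δ, hδ⟩ := Spec.map_surjective (g'.normalization.isoSpec.inv ≫ g'.fromNormalization)
  have hk : (g'.toNormalization ≫ g'.normalization.isoSpec.hom) ≫ Spec.map δ = g' := by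
    rw [hδ, Category.assoc, Iso.hom_inv_id_assoc, g'.toNormalization_fromNormalization]
  refine ⟨_, δ.hom, g'.toNormalization ≫ g'.normalization.isoSpec.hom, inferInstance, ?_, ?_⟩
  · rw [← hg1]
    exact ((congrArg (_ ≫ ·) (Spec.map_comp (CommRingCat.ofHom inlB) δ)).trans (Category.assoc _ _ _).symm).trans
      (congrArg (· ≫ _) hk)
  · rw [← hg2]
    exact ((congrArg (_ ≫ ·) (Spec.map_comp (CommRingCat.ofHom inrB) δ)).trans (Category.assoc _ _ _).symm).trans
      (congrArg (· ≫ _) hk)

end Groth.L24.Boot
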