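import Groth.Agent.L24.Boot.FlatBootstrap
import Groth.Agent.L24.Boot.EtaleCharts
import Groth.Agent.L24.Boot.YonLemmas
import Groth.Agent.L23.LocP
import Groth.Agent.L23.QFDescent
import Groth.Agent.L23.Cover
import Groth.Agent.L23.MorCalc

/-!
Quotients by flat equivalence relations of finite presentation.
-/

set_option autoImplicit false
set_option backward.isDefEq.respectTransparency false
set_option backward.isDefEq.respectTransparency.types false

universe u

open CategoryTheory CategoryTheory.Limits AlgebraicGeometry Opposite AlgSp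

noncomputable section

namespace Groth.L24.Boot

variable {S : Scheme.{u}}

theorem of_openCover {P : MorphismProperty Scheme.{u}} [IsZariskiLocalAtSource P] {I : Type u} {X : I → Over S}
    (D : SigmaData X) {T : Over S} (g : D.V ⟶ T) (h : ∀ i, P (D.inj i ≫ g).left) : P g.left := by
  let 𝒰 : Scheme.OpenCover.{u} D.V.left := Scheme.Cover.mkOfCovers I (fun i => (X i).left)
    (fun i => (D.inj i).left) D.cover (fun i => D.isOpen i)
  exact IsZariskiLocalAtSource.of_openCover (P := P) 𝒰 fun i => h i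

/-- A map from a scheme lifts along an epimorphism of sheaves after an fppf covering. -/
theorem exists_lift_of_epi {U Q : Sp S} (q : U ⟶ Q) [Epi q] {T : Over S} (ξ : (yon S).obj T ⟶ Q) :
    ∃ (T' : Over S) (g : T' ⟶ T) (u : (yon S).obj T' ⟶ U), Flat g.left ∧
      LocallyOfFinitePresentation g.left ∧ Surjective g.left ∧ u ≫ q = (yon S).map g ≫ ξ := by
  have : Sheaf.IsLocallySurjective q := (Sheaf.isLocallySurjective_iff_epi' _ q).2 inferInstance
  have hmem := Presheaf.imageSieve_mem (J S) q.hom (U := op T) ((J S).uliftYonedaEquiv ξ)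
  rw [GrothendieckTopology.mem_over_iff] at hmem
  have : Scheme.fppfPrecoverage.{u}.HasPullbacks := by
    unfold Scheme.fppfPrecoverage; infer_instance
  have : Scheme.fppfPrecoverage.{u}.HasIsos := by
    unfold Scheme.fppfPrecoverage
    have : MorphismProperty.ContainsIdentities (@Flat ⊓ @LocallyOfFinitePresentation) :=
      ⟨fun X => ⟨inferInstanceAs (Flat (𝟙 X)), inferInstanceAs (LocallyOfFinitePresentation (𝟙 X))⟩⟩
    infer_instance
  obtain ⟨R, hR, hle⟩ :=
    (Precoverage.mem_toGrothendieck_iff_of_isStableUnderComposition (J := Scheme.fppfPrecoverage)).1 hmem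
  obtain ⟨ι, Y, f, rfl⟩ := R.exists_eq_ofArrows
  obtain ⟨hR1, hR2⟩ := (Scheme.ofArrows_mem_precoverage_iff _).1 hR
  choose i ht using fun x : ↥T.left => hR1 x
  choose t ht using ht
  let v : ∀ x, Y (i x) ⟶ T.left := fun x => f (i x)
  obtain ⟨D⟩ := exists_sigma fun x : ↥T.left => Over.mk (v x ≫ T.hom)
  have hy : ∀ x, ∃ y : (yon S).obj (Over.mk (v x ≫ T.hom)) ⟶ U,
      y ≫ q = (yon S).map (Over.homMk (v x) rfl : Over.mk (v x ≫ T.hom) ⟶ T) ≫ ξ := fun x => by
    obtain ⟨y, hy⟩ : (Presheaf.imageSieve q.hom ((J S).uliftYonedaEquiv ξ)).arrows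
        (Over.homMk (v x) rfl : Over.mk (v x ≫ T.hom) ⟶ T) :=
      (Sieve.overEquiv_iff (Y := T) _ _).1 (hle _ (v x) (.mk (i x)))
    refine ⟨(J S).uliftYonedaEquiv.symm y, (J S).uliftYonedaEquiv.injective ?_⟩
    rw [GrothendieckTopology.uliftYonedaEquiv_comp, Equiv.apply_symm_apply,
      ← GrothendieckTopology.uliftYonedaEquiv_naturality]
    exact hy
  choose y hy using hy
  obtain ⟨u, hu⟩ := exists_glue_sigma D y
  obtain ⟨g, hg⟩ := D.desc T fun x => Over.homMk (v x) rfl
  refine ⟨D.V, g, u, of_openCover D g fun x => ?_, of_openCover D g fun x => ?_,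
    ⟨fun x => ⟨(D.inj x).left (t x), ?_⟩⟩, ?_⟩
  · rw [hg]; exact (hR2 (i x)).1
  · rw [hg]; exact (hR2 (i x)).2
  · rw [← Scheme.Hom.comp_apply, ← Over.comp_left, hg]; exact ht x
  · exact Groth.L23.hom_ext_cover D.inj D.cover fun x => by
      rw [reassoc_of% hu, hy, ← Functor.map_comp_assoc, hg]

variable {R U Q : Sp S} {s t : R ⟶ U} {q : U ⟶ Q}

set_option maxHeartbeats 800000 in
/-- A map of sheaves with flat kernel pair of finite presentation is representable by algebraic spaces, flat,
surjective and locally of finite presentation. -/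
theorem isAlgSpace_pullback_of_kernelPair [Epi q] (sq : IsPullback t s q q) (hR : IsAlgSpace R)
    (hU : IsAlgSpace U) (htf : LocP @Flat t) (htp : LocP @LocallyOfFinitePresentation t) {T : Over S}
    (ξ : (yon S).obj T ⟶ Q) {G : Sp S} {pU : G ⟶ U} {pT : G ⟶ (yon S).obj T} (sqG : IsPullback pU pT q ξ) :
    IsAlgSpace G ∧ (IsSurjectiveMor ⊓ LocP @Flat ⊓ LocP @LocallyOfFinitePresentation) pT := by
  obtain ⟨T', g, u, hgf, hgp, hgs, hu⟩ := exists_lift_of_epi q ξ
  have hT := IsAlgSpace.yon_obj T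
  have hT' := IsAlgSpace.yon_obj T'
  let W := pullback t u
  have hW : IsAlgSpace W := Groth.L23.isAlgSpace_of_isPullback hU.diag hR hT' (IsPullback.of_hasPullback t u)
  have sqW : IsPullback (pullback.fst t u ≫ s) (pullback.snd t u) q ((yon S).map g ≫ ξ) := by
    rw [← hu]; exact (IsPullback.of_hasPullback t u).flip.paste_vert sq |>.flip
  let β := sqG.lift (pullback.fst t u ≫ s) (pullback.snd t u ≫ (yon S).map g) (by rw [sqW.w, Category.assoc])
  have sqM : IsPullback β (pullback.snd t u) pT ((yon S).map g) := by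
    refine IsPullback.of_right ?_ (sqG.lift_snd _ _ _) sqG
    rw [sqG.lift_fst]; exact sqW
  have hWf := Groth.L23.locP_of_isPullback Groth.L23.etLocal_flat hR hU hT' (IsPullback.of_hasPullback t u) htf
  have hWp := Groth.L23.locP_of_isPullback Groth.L23.etLocal_lfp hR hU hT' (IsPullback.of_hasPullback t u) htp
  -- `W ⟶ T'` has a section
  have hWs : Function.Surjective (Points.map (pullback.snd t u)) := by
    obtain ⟨r, hr⟩ : ∃ r : (yon S).obj T' ⟶ R, r ≫ t = u :=
      ⟨sq.lift u u rfl, sq.lift_fst _ _ _⟩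
    let σ := pullback.lift r (𝟙 _) (by rw [hr, Category.id_comp]) (f := t) (g := u)
    intro x
    refine ⟨Points.map σ x, ?_⟩
    rw [← Points.map_comp, pullback.lift_snd]
    exact Points.map_id x
  have hgfs : Groth.L23.fppfSurj g.left := ⟨⟨hgs, hgf⟩, hgp⟩
  have hβ : RepWith (@Flat ⊓ @LocallyOfFinitePresentation ⊓ @Surjective) β :=
    Groth.L23.repWith_of_isPullback sqM.flip (Groth.L23.repWith_map ⟨⟨hgf, hgp⟩, hgs⟩)
  obtain ⟨A, a, hae, has⟩ := hW.atlas
  have haW : RepWith (@Flat ⊓ @LocallyOfFinitePresentation ⊓ @Surjective) a :=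
    Groth.L23.repWith_inf_iff.2 ⟨Groth.L23.repWith_inf_iff.2
      ⟨Groth.L23.repWith_mono (fun f (hf : Etale f) => by infer_instance) hae,
        Groth.L23.repWith_mono (fun f (hf : Etale f) => by infer_instance) hae⟩, has⟩
  have haG := Groth.L23.repWith_comp haW hβ
  have hG : IsAlgSpace G := isAlgSpace_of_flatCharts (p := a ≫ β) fun X z => by
    have sqX := haG.1.isPullback z
    obtain ⟨α, hα⟩ := (yon S).map_surjective (haG.1.fst z)
    have e := IsPullback.isoIsPullback _ _ (IsPullback.of_hasPullback z (a ≫ β)) sqX.flip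
    have w : (yon S).map (haG.1.snd z) ≫ z = (yon S).map α ≫ a ≫ β := by rw [hα]; exact sqX.w.symm
    have : IsIso (pullback.lift ((yon S).map (haG.1.snd z)) ((yon S).map α) w :
        (yon S).obj (haG.1.pullback z) ⟶ pullback z (a ≫ β)) := by
      rw [show pullback.lift ((yon S).map (haG.1.snd z)) ((yon S).map α) w =
        (IsPullback.isoIsPullback _ _ sqX.flip (IsPullback.of_hasPullback z (a ≫ β))).hom from
        pullback.hom_ext (by simp) (by simp [hα])]
      infer_instance
    exact ⟨⟨_, haG.1.snd z, α, w, Groth.L23.repWith_of_isIso _, Groth.L23.repWith_of_isIso _⟩,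
      Groth.L23.repWith_snd haG z⟩
  obtain ⟨A₀, a₀, ha₀, ha₀s⟩ := hG.atlas
  obtain ⟨b, hb⟩ := (yon S).map_surjective (a₀ ≫ pT)
  -- `A₀ ×_T T'` is etale over `W`
  have sqb := (IsPullback.of_hasPullback b g).map (yon S)
  let x : (yon S).obj (pullback b g) ⟶ W := sqM.lift ((yon S).map (pullback.fst b g) ≫ a₀)
    ((yon S).map (pullback.snd b g)) (by rw [Category.assoc, ← hb, sqb.w])
  have sqx : IsPullback ((yon S).map (pullback.fst b g)) x a₀ β := by
    refine IsPullback.of_bot ?_ (sqM.lift_fst _ _ _).symm sqM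
    rw [sqM.lift_snd, ← hb]; exact sqb
  have hx := Groth.L23.repWith_of_isPullback sqx ha₀
  have hi : RepWith @Etale (𝟙 ((yon S).obj T')) := Groth.L23.repWith_of_isIso _
  have hwx : x ≫ pullback.snd t u = (yon S).map (pullback.snd b g) ≫ 𝟙 _ := by
    rw [Category.comp_id, sqM.lift_snd]
  have sqs := ((IsPullback.of_hasPullback b g).map (Over.forget S))
  have hbf : Flat b.left := MorphismProperty.of_isPullback_of_descendsAlong (P := @Flat)
    (Q := @Surjective ⊓ @Flat ⊓ @LocallyOfFinitePresentation) sqs.flip hgfs (hWf x (𝟙 _) _ hx hi hwx)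
  have hbp : LocallyOfFinitePresentation b.left :=
    MorphismProperty.of_isPullback_of_descendsAlong (P := @LocallyOfFinitePresentation)
      (Q := @Surjective ⊓ @Flat ⊓ @LocallyOfFinitePresentation) sqs.flip hgfs (hWp x (𝟙 _) _ hx hi hwx)
  refine ⟨hG, ⟨⟨?_, ?_⟩, ?_⟩⟩
  · intro y
    obtain ⟨y', hy'⟩ := Groth.L23.surjective_map_of_repWith (Groth.L23.repWith_map (show Surjective g.left from hgs)) y
    obtain ⟨w, rfl⟩ := hWs y'
    refine ⟨Points.map β w, ?_⟩
    rw [← Points.map_comp, sqM.w, Points.map_comp]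
    exact hy'
  · exact Groth.L23.locP_of_chart Groth.L23.etLocal_flat ha₀ ha₀s (b := 𝟙 _) (Groth.L23.repWith_of_isIso _)
      (by rw [Category.comp_id, hb]) hbf
  · exact Groth.L23.locP_of_chart Groth.L23.etLocal_lfp ha₀ ha₀s (b := 𝟙 _) (Groth.L23.repWith_of_isIso _)
      (by rw [Category.comp_id, hb]) hbp

/-- The quotient map of a kernel pair which is flat of finite presentation. -/
theorem repBySpWith_of_kernelPair [Epi q] (sq : IsPullback t s q q) (hR : IsAlgSpace R) (hU : IsAlgSpace U)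
    (htf : LocP @Flat t) (htp : LocP @LocallyOfFinitePresentation t) :
    RepBySpWith (IsSurjectiveMor ⊓ LocP @Flat ⊓ LocP @LocallyOfFinitePresentation) q.hom :=
  (repBySpWith_hom_iff _ q).2 fun _ ξ _ _ _ sqG =>
    isAlgSpace_pullback_of_kernelPair sq hR hU htf htp ξ sqG

theorem isAlgSpace_of_kernelPair [Epi q] (sq : IsPullback t s q q) (hR : IsAlgSpace R) (hU : IsAlgSpace U)
    (htf : LocP @Flat t) (htp : LocP @LocallyOfFinitePresentation t) : IsAlgSpace Q := by
  obtain ⟨V, q', hq, hq'⟩ := hU.atlas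
  refine isAlgSpace_of_flatCharts (hasCharts_of_repBySpWith hU q (repBySpWith_of_kernelPair sq hR hU htf htp) q' hq hq'
    (P := @Flat ⊓ @LocallyOfFinitePresentation ⊓ @Surjective) fun {A T G} r f a _ hre hrs hf hrf => ?_)
  have hi : RepWith @Etale (𝟙 ((yon S).obj T)) := Groth.L23.repWith_of_isIso _
  have w : r ≫ f = (yon S).map a ≫ 𝟙 _ := by rw [Category.comp_id, hrf]
  refine ⟨⟨hf.1.2 r (𝟙 _) a hre hi w, hf.2 r (𝟙 _) a hre hi w⟩, surjective_of_points a ?_⟩
  rw [← hrf]
  have e : Points.map (r ≫ f) = Points.map f ∘ Points.map r := funext fun x => Points.map_comp r f x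
  rw [e]
  exact Function.Surjective.comp hf.1.1 (Groth.L23.surjective_map_of_repWith hrs)

end Groth.L24.Boot
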