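import Groth.Agent.L24.Boot.QuotFlat
import Groth.Prelude.Def_QuotSh

/-!
Quotient sheaves of relations of schemes, through the sheaves they represent.
-/

set_option autoImplicit false
set_option backward.isDefEq.respectTransparency false
set_option backward.isDefEq.respectTransparency.types false

universe u

open CategoryTheory CategoryTheory.Limits AlgebraicGeometry Opposite AlgSp

noncomputable section

namespace Groth.L24.Boot

variable {S : Scheme.{u}} {R U : Over S} (s t : R ⟶ U)

theorem repMap_comp_iso (f : R ⟶ U) :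
    QuotSh.repMap Scheme.fppfPrecoverage f ≫ (QuotSh.repIsoUliftYoneda Scheme.fppfPrecoverage U).hom =
      (QuotSh.repIsoUliftYoneda Scheme.fppfPrecoverage R).hom ≫ (yon S).map f := by
  unfold QuotSh.repIsoUliftYoneda
  simp only [Iso.symm_hom]
  rw [Iso.comp_inv_eq, Category.assoc, Iso.eq_inv_comp]
  apply Sheaf.hom_ext
  exact (toSheafify_naturality (J S) ((yon S).map f).hom).symm

/-- The quotient sheaf is the quotient of the represented sheaves. -/
def quotIso : QuotSh.quot Scheme.fppfPrecoverage s t ≅ quotSp ((yon S).map s) ((yon S).map t) :=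
  HasColimit.isoOfNatIso (parallelPair.ext (QuotSh.repIsoUliftYoneda Scheme.fppfPrecoverage R)
    (QuotSh.repIsoUliftYoneda Scheme.fppfPrecoverage U) (repMap_comp_iso s) (repMap_comp_iso t))

variable {s t}

theorem isEqvRelSp_of_isEqvRel (h : IsEqvRel s t) : IsEqvRelSp ((yon S).map s) ((yon S).map t) := by
  have key : ∀ {T : Over S} (r : (yon S).obj T ⟶ (yon S).obj R), ∃ r₀, (yon S).map r₀ = r :=
    fun r => (yon S).map_surjective r
  refine ⟨fun T r r' h₁ h₂ => ?_, fun T => ⟨fun a => ?_, ?_, ?_⟩⟩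
  · obtain ⟨r, rfl⟩ := key r
    obtain ⟨r', rfl⟩ := key r'
    rw [← Functor.map_comp, ← Functor.map_comp] at h₁ h₂
    rw [h.injective T r r' ((yon S).map_injective h₁) ((yon S).map_injective h₂)]
  · obtain ⟨a, rfl⟩ := (yon S).map_surjective a
    obtain ⟨r, h₁, h₂⟩ := (h.equivalence T).refl a
    exact ⟨(yon S).map r, by rw [← Functor.map_comp, h₁], by rw [← Functor.map_comp, h₂]⟩
  · rintro a b ⟨r, rfl, rfl⟩
    obtain ⟨r, rfl⟩ := key r
    obtain ⟨r', h₁, h₂⟩ := (h.equivalence T).symm (x := r ≫ t) (y := r ≫ s) ⟨r, rfl, rfl⟩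
    exact ⟨(yon S).map r', by rw [← Functor.map_comp, h₁, Functor.map_comp],
      by rw [← Functor.map_comp, h₂, Functor.map_comp]⟩
  · rintro a b c ⟨r, rfl, rfl⟩ ⟨r', hr', rfl⟩
    obtain ⟨r, rfl⟩ := key r
    obtain ⟨r', rfl⟩ := key r'
    rw [← Functor.map_comp, ← Functor.map_comp] at hr'
    have e : r' ≫ t = r ≫ s := (yon S).map_injective hr'
    obtain ⟨q, h₁, h₂⟩ := (h.equivalence T).trans (x := r ≫ t) (y := r ≫ s) (z := r' ≫ s)
      ⟨r, rfl, rfl⟩ ⟨r', e, rfl⟩
    exact ⟨(yon S).map q, by rw [← Functor.map_comp, h₁, Functor.map_comp],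
      by rw [← Functor.map_comp, h₂, Functor.map_comp]⟩

theorem isAlgSpace_quot_of_flat (h : IsEqvRel s t) [Flat t.left] [LocallyOfFinitePresentation t.left] :
    IsAlgSpace (QuotSh.quot Scheme.fppfPrecoverage s t) :=
  (isAlgSpace_of_kernelPair (isPullback_quotSpπ (isEqvRelSp_of_isEqvRel h)) (IsAlgSpace.yon_obj R)
    (IsAlgSpace.yon_obj U)
    (Groth.L23.locP_of_repWith Groth.L23.etLocal_flat (Groth.L23.repWith_map (show Flat t.left from inferInstance)))
    (Groth.L23.locP_of_repWith Groth.L23.etLocal_lfp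
      (Groth.L23.repWith_map (show LocallyOfFinitePresentation t.left from inferInstance)))).of_iso
    (quotIso s t).symm

end Groth.L24.Boot
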