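import Groth.Agent.L24.Boot.QuotRep

/-!
A quotient by a flat equivalence relation of schemes is a quotient by a quasi-finite one.
-/

set_option autoImplicit false
set_option backward.isDefEq.respectTransparency false
set_option backward.isDefEq.respectTransparency.types false

universe u

open CategoryTheory CategoryTheory.Limits AlgebraicGeometry Opposite AlgSp

noncomputable section

namespace Groth.L24.Boot

variable {S : Scheme.{u}}

theorem isEqvRel_of_isPullback {F : Sp S} {R U : Over S} {p : (yon S).obj U ⟶ F} {s t : R ⟶ U}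
    (sq : IsPullback ((yon S).map t) ((yon S).map s) p p) : IsEqvRel s t := by
  refine ⟨fun T a b e₁ e₂ => ?_, fun T => ⟨fun a => ?_, ?_, ?_⟩⟩
  · apply (yon S).map_injective
    apply sq.hom_ext <;> rw [← Functor.map_comp, ← Functor.map_comp] <;> simp [e₁, e₂]
  · obtain ⟨k, k₁, k₂⟩ := sq.exists_lift ((yon S).map a) ((yon S).map a) rfl
    obtain ⟨k, rfl⟩ := (yon S).map_surjective k
    rw [← Functor.map_comp] at k₁ k₂
    exact ⟨k, (yon S).map_injective k₁, (yon S).map_injective k₂⟩
  · rintro a b ⟨l, rfl, rfl⟩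
    obtain ⟨k, k₁, k₂⟩ := sq.exists_lift ((yon S).map (l ≫ s)) ((yon S).map (l ≫ t)) (by simp [sq.w])
    obtain ⟨k, rfl⟩ := (yon S).map_surjective k
    rw [← Functor.map_comp] at k₁ k₂
    exact ⟨k, (yon S).map_injective k₁, (yon S).map_injective k₂⟩
  · rintro a b c ⟨l, rfl, hl⟩ ⟨m, hm, rfl⟩
    obtain ⟨k, k₁, k₂⟩ := sq.exists_lift ((yon S).map (l ≫ t)) ((yon S).map (m ≫ s)) (by
      have q : ∀ x : T ⟶ R, (yon S).map (x ≫ t) ≫ p = (yon S).map (x ≫ s) ≫ p := fun x => by simp [sq.w]
      rw [q l, hl, ← hm, q m])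
    obtain ⟨k, rfl⟩ := (yon S).map_surjective k
    rw [← Functor.map_comp] at k₁ k₂
    exact ⟨k, (yon S).map_injective k₁, (yon S).map_injective k₂⟩

variable {R U : Over S} (s t : R ⟶ U)

theorem quotπ_comp_quotIso :
    QuotSh.quotπ Scheme.fppfPrecoverage s t ≫ (quotIso s t).hom =
      (QuotSh.repIsoUliftYoneda Scheme.fppfPrecoverage U).hom ≫ quotSpπ ((yon S).map s) ((yon S).map t) := by
  unfold QuotSh.quotπ quotSpπ quotIso
  refine (HasColimit.isoOfNatIso_ι_hom _ WalkingParallelPair.one).trans ?_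
  simp

variable {s t}

/-- Slicing a flat presentation to a quasi-finite one. -/
theorem exists_quasiFinite_slice (h : IsEqvRel s t) [Flat t.left] [LocallyOfFinitePresentation t.left] :
    ∃ (R' W : Over S) (σ τ : R' ⟶ W) (w : W ⟶ U) (r : R' ⟶ R)
      (ψ : quotSp ((yon S).map σ) ((yon S).map τ) ⟶ quotSp ((yon S).map s) ((yon S).map t)),
      IsEqvRel σ τ ∧ r ≫ s = σ ≫ w ∧ r ≫ t = τ ≫ w ∧ (Flat σ.left ∧ LocallyOfFinitePresentation σ.left ∧
      LocallyQuasiFinite σ.left) ∧ (Flat τ.left ∧ LocallyOfFinitePresentation τ.left ∧ LocallyQuasiFinite τ.left) ∧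
      quotSpπ ((yon S).map σ) ((yon S).map τ) ≫ ψ = (yon S).map w ≫ quotSpπ ((yon S).map s) ((yon S).map t) ∧
      IsIso ψ := by
  have hker := isPullback_quotSpπ (isEqvRelSp_of_isEqvRel h)
  have htf : LocP @Flat ((yon S).map t) :=
    Groth.L23.locP_of_repWith Groth.L23.etLocal_flat (Groth.L23.repWith_map (show Flat t.left from inferInstance))
  have htp : LocP @LocallyOfFinitePresentation ((yon S).map t) :=
    Groth.L23.locP_of_repWith Groth.L23.etLocal_lfp
      (Groth.L23.repWith_map (show LocallyOfFinitePresentation t.left from inferInstance))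
  have hQ := isAlgSpace_of_kernelPair hker (IsAlgSpace.yon_obj R) (IsAlgSpace.yon_obj U) htf htp
  let π := quotSpπ ((yon S).map s) ((yon S).map t)
  have hch : HasCharts (@Flat ⊓ @LocallyOfFinitePresentation ⊓ @Surjective) (𝟙 _ ≫ π) := by
    refine hasCharts_of_repBySpWith (IsAlgSpace.yon_obj U) π
      (repBySpWith_of_kernelPair hker (IsAlgSpace.yon_obj R) (IsAlgSpace.yon_obj U) htf htp) (𝟙 _)
      (Groth.L23.repWith_of_isIso _) (Groth.L23.repWith_of_isIso _) fun {A T G} r f a _ hre hrs hf hrf => ?_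
    have hi : RepWith @Etale (𝟙 ((yon S).obj T)) := Groth.L23.repWith_of_isIso _
    have w : r ≫ f = (yon S).map a ≫ 𝟙 _ := by rw [Category.comp_id, hrf]
    refine ⟨⟨hf.1.2 r (𝟙 _) a hre hi w, hf.2 r (𝟙 _) a hre hi w⟩, surjective_of_points a ?_⟩
    rw [← hrf]
    have e : Points.map (r ≫ f) = Points.map f ∘ Points.map r := funext fun x => Points.map_comp r f x
    rw [e]
    exact Function.Surjective.comp hf.1.1 (Groth.L23.surjective_map_of_repWith hrs)
  obtain ⟨W, w, hW⟩ := exists_lqfCharts hch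
  let π' := (yon S).map w ≫ π
  rw [show (yon S).map w ≫ 𝟙 _ ≫ π = π' by simp [π']] at hW
  have hp : Representable π' := Functor.relativelyRepresentable.of_diag hQ.diag π'
  have key : ∀ ⦃T : Over S⦄ (ξ : (yon S).obj T ⟶ _), Flat (hp.snd ξ).left ∧ LocallyQuasiFinite (hp.snd ξ).left ∧
      LocallyOfFinitePresentation (hp.snd ξ).left ∧ Surjective (hp.snd ξ).left := by
    intro T ξ
    refine (hW ξ).elim fun c hc => ?_
    obtain ⟨⟨⟨h1, h2⟩, h3⟩, h4⟩ := hc
    let j := IsPullback.isoIsPullback _ _ (IsPullback.of_hasPullback ξ π') (hp.isPullback ξ).flip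
    let a₃ : (yon S).obj c.A ⟶ pullback ξ π' := pullback.lift ((yon S).map c.a) ((yon S).map c.α) c.w
    obtain ⟨k, hk⟩ := (yon S).map_surjective (a₃ ≫ j.hom)
    have he : RepWith @Etale ((yon S).map k) := by
      rw [hk]; exact Groth.L23.repWith_comp c.etale (Groth.L23.repWith_of_isIso _)
    have hs : RepWith @Surjective ((yon S).map k) := by
      rw [hk]; exact Groth.L23.repWith_comp c.surj (Groth.L23.repWith_of_isIso _)
    have : Etale k.left := (repWith_yon_map_iff _ k).1 he
    have : Surjective k.left := (repWith_yon_map_iff _ k).1 hs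
    have e : k ≫ hp.snd ξ = c.a := (yon S).map_injective (by
      rw [Functor.map_comp, hk, Category.assoc, IsPullback.isoIsPullback_hom_fst, pullback.lift_fst])
    have e' : k.left ≫ (hp.snd ξ).left = c.a.left := by rw [← Over.comp_left, e]
    exact ⟨Groth.L23.flat_of_etale_comp' k.left _ (e' ▸ h1),
      Groth.L23.locallyQuasiFinite_of_etale_comp' k.left _ (e' ▸ h2),
      Groth.L23.locallyOfFinitePresentation_of_etale_comp' k.left _ (e' ▸ h3),
      have : Surjective (k.left ≫ (hp.snd ξ).left) := e' ▸ h4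
      Surjective.of_comp k.left _⟩
  have hπ' : ∀ (P : MorphismProperty Scheme.{u}) [P.IsStableUnderBaseChange],
      (∀ ⦃T : Over S⦄ (ξ : (yon S).obj T ⟶ _), P (hp.snd ξ).left) → RepWith P π' := fun P _ hP =>
    Groth.L23.repWith_of_snd hp fun T ξ => hP ξ
  have hepi : Epi π' := by
    have := Groth.L23.isLocallySurjective_of_repWith π' (hπ' @Flat fun T ξ => (key ξ).1)
      (hπ' @LocallyOfFinitePresentation fun T ξ => (key ξ).2.2.1) (hπ' @Surjective fun T ξ => (key ξ).2.2.2)
    infer_instance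
  let R' := hp.pullback π'
  let σ : R' ⟶ W := hp.snd π'
  obtain ⟨τ, hτ⟩ := (yon S).map_surjective (hp.fst π')
  have sq : IsPullback ((yon S).map τ) ((yon S).map σ) π' π' := by rw [hτ]; exact hp.isPullback π'
  obtain ⟨r, hr1, hr2⟩ := hker.exists_lift ((yon S).map (τ ≫ w)) ((yon S).map (σ ≫ w))
    (by rw [Functor.map_comp_assoc, Functor.map_comp_assoc]; exact sq.w)
  obtain ⟨r, rfl⟩ := (yon S).map_surjective r
  rw [← Functor.map_comp] at hr1 hr2
  refine ⟨R', W, σ, τ, w, r, quotSpDesc π' sq.w.symm, isEqvRel_of_isPullback sq, (yon S).map_injective hr2,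
    (yon S).map_injective hr1, ⟨(key π').1, (key π').2.2.1, (key π').2.1⟩, ?_, quotSpπ_desc _ _ _ _, ?_⟩
  · have hτP := fun (P : MorphismProperty Scheme.{u}) [P.IsStableUnderBaseChange]
        (hP : ∀ ⦃T : Over S⦄ (ξ : (yon S).obj T ⟶ _), P (hp.snd ξ).left) => (hπ' P hP).2 π' _ _ sq.flip
    exact ⟨hτP @Flat fun T ξ => (key ξ).1, hτP @LocallyOfFinitePresentation fun T ξ => (key ξ).2.2.1,
      hτP @LocallyQuasiFinite fun T ξ => (key ξ).2.1⟩
  · have : IsIso (pullback.lift ((yon S).map τ) ((yon S).map σ) sq.w.symm.symm :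
        (yon S).obj R' ⟶ pullback π' π') := by
      rw [show pullback.lift ((yon S).map τ) ((yon S).map σ) sq.w.symm.symm =
        (IsPullback.isoIsPullback _ _ sq (IsPullback.of_hasPullback π' π')).hom from
        pullback.hom_ext (by simp) (by simp)]
      infer_instance
    exact Groth.L23.isIso_quotSpDesc π' sq.w.symm

end Groth.L24.Boot
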