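import Groth.Agent.L24.Boot.Piece

/-!
Coproducts of charts and the open locus where two points of a piece agree.
-/

set_option autoImplicit false
set_option backward.isDefEq.respectTransparency false
set_option backward.isDefEq.respectTransparency.types false

universe u

open CategoryTheory CategoryTheory.Limits AlgebraicGeometry Opposite AlgSp

noncomputable section

namespace Groth.L24.Boot

variable {S : Scheme.{u}} {F : Sp S}

/-- A disjoint union of schemes over `S`. -/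
structure SigmaData {I : Type u} (X : I → Over S) where
  V : Over S
  inj : ∀ i, X i ⟶ V
  isOpen : ∀ i, IsOpenImmersion (inj i).left
  cover : ∀ t : ↥V.left, ∃ i u, (inj i).left u = t
  disj : ∀ i j x y, (inj i).left x = (inj j).left y → i = j
  desc : ∀ (T : Over S) (f : ∀ i, X i ⟶ T), ∃ l : V ⟶ T, ∀ i, inj i ≫ l = f i
  etale_of : ∀ {T : Over S} (g : V ⟶ T), (∀ i, Etale (inj i ≫ g).left) → Etale g.left

attribute [instance] SigmaData.isOpen

theorem exists_sigma {I : Type u} (X : I → Over S) : Nonempty (SigmaData X) := by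
  let V : Over S := Over.mk (Sigma.desc fun i => (X i).hom)
  let inj : ∀ i, X i ⟶ V := fun i => Over.homMk (Sigma.ι (fun i => (X i).left) i) (Sigma.ι_desc _ _)
  refine ⟨⟨V, inj, fun i => inferInstanceAs (IsOpenImmersion (Sigma.ι (fun i => (X i).left) i)),
    fun t => ?_, fun i j x y h => ?_, fun T f => ?_, fun {T} g h => ?_⟩⟩
  · obtain ⟨i, u, hu⟩ := (sigmaOpenCover fun i => (X i).left).exists_eq t
    exact ⟨i, u, hu⟩
  · obtain ⟨rfl⟩ := (sigmaι_eq_iff (fun i => (X i).left) i j x y).1 h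
    rfl
  · refine ⟨Over.homMk (Sigma.desc fun i => (f i).left) (Sigma.hom_ext _ _ fun i => ?_),
      fun i => Over.OverMorphism.ext (Sigma.ι_desc _ _)⟩
    show Sigma.ι (fun i => (X i).left) i ≫ Sigma.desc (fun i => (f i).left) ≫ T.hom =
      Sigma.ι (fun i => (X i).left) i ≫ Sigma.desc fun i => (X i).hom
    rw [Sigma.ι_desc_assoc, Sigma.ι_desc, Over.w]
  · rw [show g.left = Sigma.desc (fun i => (inj i ≫ g).left) from Sigma.hom_ext _ _ fun i => by
      rw [Sigma.ι_desc]; rfl]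
    exact IsZariskiLocalAtSource.sigmaDesc h

theorem hom_ext_of_isEmpty {W : Over S} (hW : IsEmpty ↥W.left) {l l' : (yon S).obj W ⟶ F} : l = l' :=
  Groth.L23.hom_ext_cover (fun i : PEmpty.{1} => (i.elim : W ⟶ W)) (h := fun i => i.elim)
    (fun t => hW.elim t)

/-- Morphisms to a sheaf out of a disjoint union. -/
theorem exists_glue_sigma {I : Type u} {X : I → Over S} (D : SigmaData X) (x : ∀ i, (yon S).obj (X i) ⟶ F) :
    ∃ l : (yon S).obj D.V ⟶ F, ∀ i, (yon S).map (D.inj i) ≫ l = x i := by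
  refine (Groth.L23.existsUnique_glue D.inj D.cover x fun W i j a b h => ?_).exists
  by_cases hW : IsEmpty ↥W.left
  · exact hom_ext_of_isEmpty hW
  · obtain ⟨t⟩ := not_isEmpty_iff.1 hW
    obtain rfl := D.disj i j (a.left t) (b.left t) (congrArg (fun f : W ⟶ D.V => f.left t) h)
    have : Mono (D.inj i) := ⟨fun c e hce => Over.OverMorphism.ext
      ((cancel_mono (D.inj i).left).1 (congrArg CommaMorphism.left hce))⟩
    rw [(cancel_mono (D.inj i)).1 h]

theorem mono_inj {I : Type u} {X : I → Over S} (D : SigmaData X) (i : I) : Mono (D.inj i) :=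
  ⟨fun _ _ hce => Over.OverMorphism.ext ((cancel_mono (D.inj i).left).1 (congrArg CommaMorphism.left hce))⟩

/-- The open set where two maps to a sheaf agree universally. -/
theorem isPullback_of_eq_over {W W' P₁ P₂ Z : Over S} (p₁ : P₁ ⟶ W) (p₂ : P₂ ⟶ W) (z₁ : P₁ ⟶ Z)
    (z₂ : P₂ ⟶ Z) (f : Z ⟶ W) (h₁ : z₁ ≫ f = p₁) (h₂ : z₂ ≫ f = p₂) [IsOpenImmersion z₁.left]
    [IsOpenImmersion z₂.left] (g : W' ⟶ W)
    (hA : ∀ q, p₁.left q ∈ Set.range g.left → z₁.left q ∈ Set.range z₂.left)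
    (hB : ∀ q, p₂.left q ∈ Set.range g.left → z₂.left q ∈ Set.range z₁.left) :
    ∃ e : pullback p₁ g ⟶ P₂, e ≫ z₂ = pullback.fst p₁ g ≫ z₁ ∧
      IsPullback e (pullback.snd p₁ g) p₂ g := by
  have := Over.mono_of_mono_left z₁
  have := Over.mono_of_mono_left z₂
  have hmem : ∀ t, p₁.left ((pullback.fst p₁ g).left t) ∈ Set.range g.left := fun t =>
    ⟨(pullback.snd p₁ g).left t, (congrArg (fun f : pullback p₁ g ⟶ W => f.left t) (pullback.condition (f := p₁) (g := g))).symm⟩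
  let e₀ := IsOpenImmersion.lift z₂.left (pullback.fst p₁ g ≫ z₁).left (by
    rintro _ ⟨t, rfl⟩; exact hA _ (hmem t))
  have he₀ : e₀ ≫ z₂.left = (pullback.fst p₁ g ≫ z₁).left := IsOpenImmersion.lift_fac _ _ _
  let e : pullback p₁ g ⟶ P₂ := Over.homMk e₀ (by
    rw [← Over.w z₂, reassoc_of% he₀]; exact Over.w (pullback.fst p₁ g ≫ z₁))
  have he : e ≫ z₂ = pullback.fst p₁ g ≫ z₁ := Over.OverMorphism.ext he₀
  refine ⟨e, he, IsPullback.mk' ?_ (fun X a b ha hb => ?_) fun X a b w => ?_⟩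
  · rw [← h₂, reassoc_of% he, h₁, pullback.condition]
  · refine pullback.hom_ext ?_ hb
    rw [← cancel_mono z₁, Category.assoc, Category.assoc, ← he, reassoc_of% ha]
  · let a₀ := IsOpenImmersion.lift z₁.left (a ≫ z₂).left (by
      rintro _ ⟨t, rfl⟩
      exact hB _ ⟨b.left t, (congrArg (fun f : X ⟶ W => f.left t) w).symm⟩)
    have ha₀ : a₀ ≫ z₁.left = (a ≫ z₂).left := IsOpenImmersion.lift_fac _ _ _
    let a₁ : X ⟶ P₁ := Over.homMk a₀ (by rw [← Over.w z₁, reassoc_of% ha₀]; exact Over.w (a ≫ z₂))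
    have ha₁ : a₁ ≫ z₁ = a ≫ z₂ := Over.OverMorphism.ext ha₀
    refine ⟨pullback.lift a₁ b (by rw [← h₁, reassoc_of% ha₁, h₂, w]), ?_, pullback.lift_snd _ _ _⟩
    rw [← cancel_mono z₂, Category.assoc, he, pullback.lift_fst_assoc, ha₁]

variable {U0 : Over S} {p0 : (yon S).obj U0 ⟶ F} {hp : RepWith LqfFlat p0} [IsAffine U0.left]

set_option maxHeartbeats 400000 in
/-- Two points of a piece agree on a largest open set. -/
theorem exists_equalizer {d : ℕ} {b : Fin d → Γ(U0.left, ⊤)} {R' : (rel hp).left.Opens} (pc : Piece hp d b R')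
    {W : Over S} (o₁ o₂ : W ⟶ pc.O) (h : (yon S).map o₁ ≫ pc.ξ = (yon S).map o₂ ≫ pc.ξ) :
    ∃ E : W.left.Opens, Groth.L23.openOverι W E ≫ o₁ = Groth.L23.openOverι W E ≫ o₂ ∧
      ∀ {W' : Over S} (g : W' ⟶ W), g ≫ o₁ = g ≫ o₂ → Set.range g.left ⊆ E := by
  obtain ⟨ξW, hξ⟩ : ∃ ξW, ξW = (yon S).map o₁ ≫ pc.ξ := ⟨_, rfl⟩
  let ZW := hp.1.pullback ξW
  let fW : ZW ⟶ W := hp.1.snd ξW
  let gW := hp.1.fst ξW
  have sqW := hp.1.isPullback ξW
  have key : ∀ o : W ⟶ pc.O, (yon S).map o ≫ pc.ξ = ξW → ∃ (P : Over S) (l : P ⟶ pc.Z) (p : P ⟶ W)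
      (z : P ⟶ ZW), IsPullback l p pc.π o ∧ IsFinite p.left ∧ IsOpenImmersion z.left ∧
        (yon S).map z ≫ gW = (yon S).map (l ≫ pc.v) ∧ z ≫ fW = p := by
    intro o ho
    obtain ⟨z, hz⟩ := (yon S).map_surjective (sqW.lift ((yon S).map (pullback.fst pc.π o ≫ pc.v))
      ((yon S).map (pullback.snd pc.π o)) (by
        rw [← ho, ← Functor.map_comp_assoc, ← pullback.condition]
        conv_rhs => rw [Functor.map_comp_assoc, pc.w]
        rw [Functor.map_comp, Category.assoc]))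
    have hz1 : (yon S).map z ≫ gW = (yon S).map (pullback.fst pc.π o ≫ pc.v) := by rw [hz, sqW.lift_fst]
    have hz2 : z ≫ fW = pullback.snd pc.π o := (yon S).map_injective (by
      rw [Functor.map_comp, hz]; exact sqW.lift_snd _ _ _)
    have sq := (IsPullback.of_hasPullback pc.π o).map (Over.forget S)
    exact ⟨_, _, _, z, IsPullback.of_hasPullback _ _, MorphismProperty.of_isPullback sq pc.finite,
      pc.openImm' hp ξW gW fW sqW o ho _ _ sq z hz1 hz2, hz1, hz2⟩
  obtain ⟨P₁, l₁, p₁, z₁, s₁, hf₁, hz₁, hg₁, hs₁⟩ := key o₁ hξ.symm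
  obtain ⟨P₂, l₂, p₂, z₂, s₂, hf₂, hz₂, hg₂, hs₂⟩ := key o₂ (by rw [hξ, h])
  let E : W.left.Opens := ⟨(p₁.left '' (z₁.left ⁻¹' (Set.range z₂.left)ᶜ) ∪
      p₂.left '' (z₂.left ⁻¹' (Set.range z₁.left)ᶜ))ᶜ,
    ((p₁.left.isClosedMap _ (z₂.left.isOpenEmbedding.isOpen_range.isClosed_compl.preimage z₁.left.continuous)).union
      (p₂.left.isClosedMap _ (z₁.left.isOpenEmbedding.isOpen_range.isClosed_compl.preimage
        z₂.left.continuous))).isOpen_compl⟩
  refine ⟨E, ?_, fun {W'} g hg => ?_⟩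
  · refine Groth.L23.hom_ext_cover'
      (fun B : (Groth.L23.openOver W E).left.affineOpens => Groth.L23.openOverι _ B.1) (fun t => ?_) fun B => ?_
    · obtain ⟨_, ⟨C, hC, rfl⟩, htC, -⟩ := (Groth.L23.openOver W E).left.isBasis_affineOpens.exists_subset_of_mem_open
        (Set.mem_univ t) isOpen_univ
      exact ⟨⟨C, hC⟩, ⟨t, htC⟩, rfl⟩
    let g := Groth.L23.openOverι _ B.1 ≫ Groth.L23.openOverι W E
    have hgE : ∀ q ∈ Set.range g.left, q ∈ E := by
      rintro _ ⟨t, rfl⟩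
      exact ((Groth.L23.openOverι _ B.1).left t).2
    have : IsAffine (Groth.L23.openOver (Groth.L23.openOver W E) B.1).left := B.2
    obtain ⟨e, he, hsq⟩ := isPullback_of_eq_over p₁ p₂ z₁ z₂ fW hs₁ hs₂ g
      (fun q hq => by_contra fun hn => hgE _ hq (Or.inl ⟨q, hn, rfl⟩))
      (fun q hq => by_contra fun hn => hgE _ hq (Or.inr ⟨q, hn, rfl⟩))
    rw [← Category.assoc, ← Category.assoc]
    refine pc.uniq _ _ _ (pullback p₁ g) (pullback.snd p₁ g) (pullback.fst p₁ g ≫ l₁) (e ≫ l₂)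
      (((IsPullback.of_hasPullback p₁ g).paste_horiz s₁).map (Over.forget S))
      ((hsq.paste_horiz s₂).map (Over.forget S)) ((yon S).map_injective ?_)
    rw [Category.assoc, Category.assoc, (yon S).map_comp (pullback.fst p₁ g), (yon S).map_comp e, ← hg₁, ← hg₂,
      ← Functor.map_comp_assoc, ← Functor.map_comp_assoc, he]
  · rintro _ ⟨t, rfl⟩ hbad
    have main : ∀ {P P' : Over S} (l : P ⟶ pc.Z) (p : P ⟶ W) (z : P ⟶ ZW) (l' : P' ⟶ pc.Z) (p' : P' ⟶ W)
        (z' : P' ⟶ ZW) (o o' : W ⟶ pc.O), IsPullback l p pc.π o → IsPullback l' p' pc.π o' →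
        (yon S).map z ≫ gW = (yon S).map (l ≫ pc.v) → z ≫ fW = p →
        (yon S).map z' ≫ gW = (yon S).map (l' ≫ pc.v) → z' ≫ fW = p' →
        g ≫ o = g ≫ o' → ∀ q, p.left q = g.left t → z.left q ∈ Set.range z'.left := by
      intro P P' l p z l' p' z' o o' s s' hg hs hg' hs' hoo q hq
      obtain ⟨w, hw1, hw2⟩ := Scheme.exists_preimage_of_isPullback
        ((IsPullback.of_hasPullback p g).map (Over.forget S)) q t hq
      let m := s'.lift (pullback.fst p g ≫ l) (pullback.snd p g ≫ g) (by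
        rw [Category.assoc, Category.assoc, s.w, pullback.condition_assoc, hoo])
      have hm : m ≫ z' = pullback.fst p g ≫ z := (yon S).map_injective (sqW.hom_ext
        (by
          show (yon S).map (m ≫ z') ≫ gW = (yon S).map (pullback.fst p g ≫ z) ≫ gW
          rw [Functor.map_comp_assoc, Functor.map_comp_assoc, hg', hg, ← Functor.map_comp, ← Functor.map_comp,
            ← Category.assoc, s'.lift_fst, Category.assoc])
        (by
          show (yon S).map (m ≫ z') ≫ (yon S).map fW = (yon S).map (pullback.fst p g ≫ z) ≫ (yon S).map fW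
          rw [← Functor.map_comp, ← Functor.map_comp, Category.assoc, Category.assoc, hs', hs, s'.lift_snd,
            pullback.condition]))
      exact ⟨m.left w, by
        rw [← Scheme.Hom.comp_apply, ← Over.comp_left, hm, Over.comp_left, Scheme.Hom.comp_apply]
        exact congrArg _ hw1⟩
    rcases hbad with ⟨q, hq, hqt⟩ | ⟨q, hq, hqt⟩
    · exact hq (main l₁ p₁ z₁ l₂ p₂ z₂ o₁ o₂ s₁ s₂ hg₁ hs₁ hg₂ hs₂ hg q hqt)
    · exact hq (main l₂ p₂ z₂ l₁ p₁ z₁ o₂ o₁ s₂ s₁ hg₂ hs₂ hg₁ hs₁ hg.symm q hqt)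

end Groth.L24.Boot
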