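import Mathlib.RingTheory.LocalRing.Module
import Mathlib.RingTheory.LocalRing.ResidueField.Ideal
import Mathlib.RingTheory.Support
import Mathlib.RingTheory.Flat.EquationalCriterion
import Mathlib.RingTheory.Flat.FaithfullyFlat.Basic
import Mathlib.RingTheory.TensorProduct.Free
import Mathlib.LinearAlgebra.Charpoly.BaseChange
import Mathlib.LinearAlgebra.Determinant

/-!
Elements which are a basis at a field valued point are a basis nearby.
-/

set_option autoImplicit false

universe u

open TensorProduct

noncomputable section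

namespace Groth.L24.Boot

variable {R K : Type u} [CommRing R] [Field K] [Algebra R K]

theorem exists_smul_eq_zero {M : Type u} [AddCommGroup M] [Module R M] [Module.Finite R M]
    (h : Subsingleton (K ⊗[R] M)) : ∃ f : R, algebraMap R K f ≠ 0 ∧ ∀ m : M, f • m = 0 := by
  let I := RingHom.ker (algebraMap R K)
  have : I.IsPrime := RingHom.ker_isPrime _
  let q : PrimeSpectrum R := ⟨I, inferInstance⟩
  have hq : q ∉ Module.support R M := by
    rw [Module.mem_support_iff_nontrivial_residueField_tensorProduct, not_nontrivial_iff_subsingleton]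
    let φ : I.ResidueField →+* K := Ideal.ResidueField.lift I (algebraMap R K) le_rfl
      (fun x hx => isUnit_iff_ne_zero.2 hx)
    let := φ.toAlgebra
    have : IsScalarTower R I.ResidueField K := IsScalarTower.of_algebraMap_eq fun r =>
      (Ideal.ResidueField.lift_algebraMap _ _ _ _ _).symm
    have : Subsingleton (K ⊗[I.ResidueField] (I.ResidueField ⊗[R] M)) :=
      (AlgebraTensorModule.cancelBaseChange R I.ResidueField K K M).toEquiv.subsingleton
    exact Module.FaithfullyFlat.lTensor_reflects_triviality I.ResidueField K _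
  rw [Module.support_eq_zeroLocus, PrimeSpectrum.mem_zeroLocus, SetLike.coe_subset_coe,
    SetLike.le_def] at hq
  push Not at hq
  obtain ⟨f, hf, hfq⟩ := hq
  exact ⟨f, hfq, fun m => Module.mem_annihilator.1 hf m⟩

variable {C : Type u} [AddCommGroup C] [Module R C] [Module.Finite R C] [Module.Flat R C]
  [Module.FinitePresentation R C]

/-- Elements giving a basis over a field point give a basis over a neighbourhood of it. -/
theorem exists_basis_nhd {d : ℕ} (v : Fin d → C) (e : Module.Basis (Fin d) K (K ⊗[R] C))
    (he : ∀ i, e i = 1 ⊗ₜ v i) :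
    ∃ f : R, algebraMap R K f ≠ 0 ∧ ∀ (A : Type u) [CommRing A] [Algebra R A],
      IsUnit (algebraMap R A f) → ∃ bA : Module.Basis (Fin d) A (A ⊗[R] C), ∀ i, bA i = 1 ⊗ₜ v i := by
  classical
  let φ : (Fin d → R) →ₗ[R] C := Fintype.linearCombination R v
  have hφ : ∀ i, φ (Pi.basisFun R (Fin d) i) = v i := fun i => by simp [φ, Fintype.linearCombination_apply_single]
  let B := Algebra.TensorProduct.basis K (Pi.basisFun R (Fin d))
  have hφK : φ.baseChange K = (B.equiv e (Equiv.refl _)).toLinearMap := B.ext fun i => by
    rw [LinearEquiv.coe_coe, Module.Basis.equiv_apply, Equiv.refl_apply, he, Algebra.TensorProduct.basis_apply,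
      LinearMap.baseChange_tmul, hφ]
  have hK : Function.Surjective (φ.baseChange K) := by rw [hφK]; exact LinearEquiv.surjective _
  have hsub : Subsingleton (K ⊗[R] (C ⧸ LinearMap.range φ)) := by
    have hs : Function.Surjective ((LinearMap.range φ).mkQ.lTensor K) :=
      LinearMap.lTensor_surjective K (Submodule.mkQ_surjective _)
    refine subsingleton_of_forall_eq 0 fun x => ?_
    obtain ⟨y, rfl⟩ := hs x
    obtain ⟨z, rfl⟩ := hK y
    rw [LinearMap.baseChange_eq_ltensor, ← LinearMap.comp_apply, ← LinearMap.lTensor_comp,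
      show (LinearMap.range φ).mkQ ∘ₗ φ = 0 from LinearMap.ext fun a =>
        (Submodule.Quotient.mk_eq_zero _).2 ⟨a, rfl⟩]
    simp
  obtain ⟨f, hfK, hf⟩ := exists_smul_eq_zero hsub
  have : Module.Projective R C := Module.Flat.projective_of_finitePresentation
  let t : C →ₗ[R] LinearMap.range φ := LinearMap.codRestrict _ (f • LinearMap.id) fun c =>
    (Submodule.Quotient.mk_eq_zero _).1 (by
      show Submodule.Quotient.mk (f • c) = _
      rw [Submodule.Quotient.mk_smul, hf])
  obtain ⟨ψ, hψ⟩ := Module.projective_lifting_property φ.rangeRestrict t φ.surjective_rangeRestrict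
  have hφψ : φ ∘ₗ ψ = f • LinearMap.id := LinearMap.ext fun c =>
    congrArg Subtype.val (DFunLike.congr_fun hψ c)
  let D := LinearMap.det (ψ ∘ₗ φ)
  have hD : algebraMap R K D ≠ 0 := by
    rw [show algebraMap R K D = _ from (LinearMap.det_baseChange (A := K) (ψ ∘ₗ φ)).symm]
    refine (LinearMap.isUnit_det _ ?_).ne_zero
    rw [Module.End.isUnit_iff]
    have hinj : Function.Injective ((ψ ∘ₗ φ).baseChange K) := fun x y hxy => by
      have h : (φ.baseChange K) ∘ₗ ((ψ ∘ₗ φ).baseChange K) = algebraMap R K f • φ.baseChange K := by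
        rw [← LinearMap.baseChange_comp, ← LinearMap.comp_assoc, hφψ, LinearMap.smul_comp, LinearMap.id_comp,
          LinearMap.baseChange_smul, algebraMap_smul]
      have h' := congrArg (φ.baseChange K) hxy
      rw [← LinearMap.comp_apply, ← LinearMap.comp_apply, h, LinearMap.smul_apply, LinearMap.smul_apply] at h'
      exact (show Function.Injective (φ.baseChange K) from by rw [hφK]; exact LinearEquiv.injective _)
        (smul_right_injective _ hfK h')
    exact ⟨hinj, LinearMap.surjective_of_injective hinj⟩
  refine ⟨f * D, by rw [map_mul]; exact mul_ne_zero hfK hD, fun A _ _ hu => ?_⟩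
  rw [map_mul, IsUnit.mul_iff] at hu
  have hsur : Function.Surjective (φ.baseChange A) := fun x => by
    refine ⟨(hu.1.unit⁻¹ : Aˣ).val • ψ.baseChange A x, ?_⟩
    rw [map_smul, ← LinearMap.comp_apply, ← LinearMap.baseChange_comp, hφψ, LinearMap.baseChange_smul,
      LinearMap.baseChange_id, LinearMap.smul_apply, ← algebraMap_smul A f, smul_smul,
      IsUnit.val_inv_mul, one_smul, LinearMap.id_apply]
  have hinj : Function.Injective (φ.baseChange A) := fun x y hxy => by
    have hb : Function.Injective ((ψ ∘ₗ φ).baseChange A) :=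
      ((Module.End.isUnit_iff _).1 ((LinearMap.isUnit_iff_isUnit_det _).2 (by
        rw [LinearMap.det_baseChange]; exact hu.2))).1
    refine hb ?_
    rw [LinearMap.baseChange_comp, LinearMap.comp_apply, LinearMap.comp_apply, hxy]
  let eA := LinearEquiv.ofBijective (φ.baseChange A) ⟨hinj, hsur⟩
  refine ⟨(Algebra.TensorProduct.basis A (Pi.basisFun R (Fin d))).map eA, fun i => ?_⟩
  rw [Module.Basis.map_apply, Algebra.TensorProduct.basis_apply]
  show φ.baseChange A _ = _
  rw [LinearMap.baseChange_tmul, hφ]

end Groth.L24.Boot
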