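import Groth.Agent.L24.Boot.LqfFibre
import Groth.Agent.L24.Boot.LqfBasis
import Mathlib.RingTheory.Finiteness.ModuleFinitePresentation

/-!
Field valued points of pieces extend to etale neighbourhoods.
-/

set_option autoImplicit false
set_option backward.isDefEq.respectTransparency false
set_option backward.isDefEq.respectTransparency.types false

universe u

open CategoryTheory CategoryTheory.Limits AlgebraicGeometry Opposite AlgSp TensorProduct

noncomputable section

namespace Groth.L24.Boot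

variable {S : Scheme.{u}} {F : Sp S} {U0 : Over S} {p0 : (yon S).obj U0 ⟶ F} {hp : RepWith LqfFlat p0}
  [IsAffine U0.left]

theorem exists_basic_of_mem {R : CommRingCat.{u}} (O : (Spec R).Opens) {t : ↥(Spec R)} (ht : t ∈ O) :
    ∃ g : R, g ∉ (t : PrimeSpectrum R).asIdeal ∧ ∀ y : PrimeSpectrum R, g ∉ y.asIdeal → (y : ↥(Spec R)) ∈ O := by
  obtain ⟨_, ⟨g, rfl⟩, h1, h2⟩ :=
    PrimeSpectrum.isTopologicalBasis_basic_opens.exists_subset_of_mem_open ht O.isOpen
  exact ⟨g, h1, fun y hy => h2 hy⟩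

/-- The tensor product computes the fibre product. -/
theorem isPullback_spec_includeRight {R C : Type u} [CommRing R] [CommRing C] [Algebra R C] (K : Type u) [CommRing K]
    [Algebra R K] :
    IsPullback (Spec.map (CommRingCat.ofHom
        (Algebra.TensorProduct.includeRight : C →ₐ[R] K ⊗[R] C).toRingHom))
      (Spec.map (CommRingCat.ofHom (algebraMap K (K ⊗[R] C))))
      (Spec.map (CommRingCat.ofHom (algebraMap R C))) (Spec.map (CommRingCat.ofHom (algebraMap R K))) := by
  refine IsPullback.of_iso_pullback ⟨?_⟩ ((pullbackSpecIso R K C).symm ≪≫ pullbackSymmetry _ _) ?_ ?_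
  · rw [← Spec.map_comp, ← Spec.map_comp]
    congr 1
    refine CommRingCat.hom_ext (RingHom.ext fun r => ?_)
    show (1 : K) ⊗ₜ[R] algebraMap R C r = algebraMap R K r ⊗ₜ[R] (1 : C)
    rw [Algebra.algebraMap_eq_smul_one, Algebra.algebraMap_eq_smul_one, TensorProduct.tmul_smul,
      TensorProduct.smul_tmul']
  · simp only [Iso.trans_hom, Iso.symm_hom, Category.assoc, pullbackSymmetry_hom_comp_fst]
    exact pullbackSpecIso_inv_snd R K C
  · simp only [Iso.trans_hom, Iso.symm_hom, Category.assoc, pullbackSymmetry_hom_comp_snd]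
    exact pullbackSpecIso_inv_fst R K C

/-- The fibre of an affine map at a field point, on rings. -/
theorem exists_fibre_hom {R C K CK : Type u} [CommRing R] [CommRing C] [Algebra R C] [CommRing K] [Algebra R K]
    [CommRing CK] [Algebra K CK] (mK : Spec (CommRingCat.of CK) ⟶ Spec (CommRingCat.of C))
    (sq : IsPullback mK (Spec.map (CommRingCat.ofHom (algebraMap K CK)))
      (Spec.map (CommRingCat.ofHom (algebraMap R C))) (Spec.map (CommRingCat.ofHom (algebraMap R K)))) :
    ∃ Θ : K ⊗[R] C ≃ₐ[K] CK, Spec.map (CommRingCat.ofHom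
      (Θ.toAlgHom.toRingHom.comp (Algebra.TensorProduct.includeRight : C →ₐ[R] K ⊗[R] C).toRingHom)) = mK := by
  have sqT := isPullback_spec_includeRight (R := R) (C := C) K
  let i := sq.isoIsPullback _ _ sqT
  let j := (Spec.fullyFaithful.preimageIso (X := op (CommRingCat.of CK)) (Y := op (CommRingCat.of (K ⊗[R] C))) i).unop
  have hj : Spec.map j.hom = i.hom := Spec.fullyFaithful.map_preimage i.hom
  let Θ : K ⊗[R] C ≃ₐ[K] CK := { j.commRingCatIsoToRingEquiv with
    commutes' := fun k => by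
      have e : CommRingCat.ofHom (algebraMap K (K ⊗[R] C)) ≫ j.hom = CommRingCat.ofHom (algebraMap K CK) :=
        Spec.map_injective (by rw [Spec.map_comp, hj]; exact sq.isoIsPullback_hom_snd _ _ sqT)
      exact congr($e k) }
  refine ⟨Θ, ?_⟩
  rw [show CommRingCat.ofHom (Θ.toAlgHom.toRingHom.comp
      (Algebra.TensorProduct.includeRight : C →ₐ[R] K ⊗[R] C).toRingHom) = CommRingCat.ofHom
      (Algebra.TensorProduct.includeRight : C →ₐ[R] K ⊗[R] C).toRingHom ≫ j.hom from rfl, Spec.map_comp, hj]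
  exact sq.isoIsPullback_hom_fst _ _ sqT

set_option maxHeartbeats 800000 in
theorem exists_nbhd {d : ℕ} {b : Fin d → Γ(U0.left, ⊤)} {R' : (rel hp).left.Opens} (pc : Piece hp d b R')
    {T : Over S} [IsAffine T.left] (ξ : (yon S).obj T ⟶ F) {K : Type u} [Field K] [IsAlgClosed K]
    {TK : Over S} (iT : Spec (CommRingCat.of K) ≅ TK.left) (τ : TK ⟶ T) (o : TK ⟶ pc.O)
    (w : (yon S).map o ≫ pc.ξ = (yon S).map τ ≫ ξ) :
    ∃ (T' : Over S) (a : T' ⟶ T) (k : TK ⟶ T') (o' : T' ⟶ pc.O), IsAffine T'.left ∧ Etale a.left ∧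
      k ≫ a = τ ∧ k ≫ o' = o ∧ (yon S).map o' ≫ pc.ξ = (yon S).map a ≫ ξ := by
  classical
  obtain ⟨CK, _, _, bK, γK, PK, iK, pK, l, sql, hK1, hK2, hbK⟩ := pc.basis K TK iT o
  obtain ⟨N⟩ := exists_fibreNhd hp pc ξ iT τ o w l pK sql
  have := N.affine
  have := N.finite
  have := N.flat
  have := N.lfp
  have : IsAffine N.QP.left := isAffine_of_isAffineHom N.p.left
  let R := Γ(N.T1.left, ⊤)
  let C := Γ(N.QP.left, ⊤)
  let iR : Spec R ≅ N.T1.left := N.T1.left.isoSpec.symm
  let iC : Spec C ≅ N.QP.left := N.QP.left.isoSpec.symm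
  obtain ⟨α, hα⟩ := Spec.map_surjective (iC.hom ≫ N.p.left ≫ iR.inv)
  obtain ⟨χ, hχ⟩ := Spec.map_surjective (iT.hom ≫ N.k1.left ≫ iR.inv)
  let := α.hom.toAlgebra
  let := χ.hom.toAlgebra
  have : IsFinite (Spec.map α) := by rw [hα]; infer_instance
  have : Flat (Spec.map α) := by rw [hα]; infer_instance
  have : LocallyOfFinitePresentation (Spec.map α) := by rw [hα]; infer_instance
  have : Module.Finite R C := RingHom.finite_algebraMap.1 ((IsFinite.SpecMap_iff α).1 ‹_›)
  have : Module.Flat R C := RingHom.flat_algebraMap_iff.1 ((Flat.SpecMap_iff (f := α)).1 ‹_›)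
  have : Algebra.FinitePresentation R C := RingHom.finitePresentation_algebraMap.1
    ((HasRingHomProperty.Spec_iff (P := @LocallyOfFinitePresentation)).1 ‹_›)
  have : Module.FinitePresentation R C := Module.FinitePresentation.of_finite_of_finitePresentation R C
  obtain ⟨γ, hγ⟩ := toU_surjective (U0 := U0) (iC.hom ≫ N.uQ.left)
  -- the fibre on rings
  have sqK : IsPullback (iK.hom ≫ N.m.left ≫ iC.inv) (Spec.map (CommRingCat.ofHom (algebraMap K CK)))
      (Spec.map (CommRingCat.ofHom (algebraMap R C))) (Spec.map (CommRingCat.ofHom (algebraMap R K))) := by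
    refine N.sq.of_iso iK.symm iC.symm iT.symm iR.symm ?_ ?_ ?_ ?_
    · simp
    · rw [Iso.symm_hom, Iso.symm_hom, Iso.eq_inv_comp, ← Category.assoc, hK1, Category.assoc, Iso.hom_inv_id,
        Category.comp_id]
    · show N.p.left ≫ iR.inv = iC.inv ≫ Spec.map α
      rw [hα, Iso.inv_hom_id_assoc]
    · show N.k1.left ≫ iR.inv = iT.inv ≫ Spec.map χ
      rw [hχ, Iso.inv_hom_id_assoc]
  obtain ⟨Θ, hΘ⟩ := exists_fibre_hom _ sqK
  have hΘγ : ∀ i, Θ ((1 : K) ⊗ₜ[R] γ (b i)) = γK (b i) := fun i => by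
    have e : Spec.map (CommRingCat.ofHom ((Θ.toAlgHom.toRingHom.comp
        (Algebra.TensorProduct.includeRight : C →ₐ[R] K ⊗[R] C).toRingHom).comp γ)) =
        Spec.map (CommRingCat.ofHom γK) := by
      rw [← cancel_mono U0.left.isoSpec.inv, CommRingCat.ofHom_comp, Spec.map_comp, hΘ, Category.assoc]
      show (iK.hom ≫ N.m.left ≫ iC.inv) ≫ toU γ = toU γK
      rw [hγ, ← hK2]
      simp only [Category.assoc, Iso.inv_hom_id_assoc]
      rw [← Over.comp_left, N.hm]
    exact congr($(Spec.map_injective e) (b i))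
  obtain ⟨f, hfK, hf⟩ := exists_basis_nhd (R := R) (fun i => γ (b i)) (bK.map Θ.toLinearEquiv.symm) fun i => by
    rw [Module.Basis.map_apply, hbK, ← hΘγ]
    exact Θ.symm_apply_apply _
  -- pairs
  obtain ⟨r₂, hr1, hr2, hr₂⟩ := exists_pairs hp N.p N.uQ ((yon S).map N.a1 ≫ ξ) N.w
  let pW := pullback.fst N.p N.p ≫ N.p
  have : IsFinite (pullback.fst N.p N.p).left :=
    MorphismProperty.of_isPullback ((IsPullback.of_hasPullback N.p N.p).map (Over.forget S)).flip N.finite
  have : IsFinite pW.left := inferInstanceAs (IsFinite ((pullback.fst N.p N.p).left ≫ N.p.left))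
  have : IsFinite (pW.left ≫ iR.inv) := inferInstance
  let E : (Spec R).Opens := ⟨((pW.left ≫ iR.inv) '' (r₂.left ⁻¹' (R' : Set (rel hp).left)ᶜ))ᶜ,
    ((pW.left ≫ iR.inv).isClosedMap _ (R'.isOpen.isClosed_compl.preimage r₂.left.continuous)).isOpen_compl⟩
  have hmK : N.m ≫ N.p = pK ≫ N.k1 := Over.OverMorphism.ext N.sq.w
  have htE : (Spec.map χ) default ∈ E := by
    rintro ⟨x, hx, hxt⟩
    obtain ⟨ω, hω, -⟩ := Scheme.exists_preimage_of_isPullback
      ((IsPullback.of_hasPullback pW N.k1).map (Over.forget S)) x (iT.hom default) (by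
        show pW.left x = N.k1.left (iT.hom default)
        rw [hχ] at hxt
        simp only [Scheme.Hom.comp_apply] at hxt
        exact (iR.inv.isOpenEmbedding.injective hxt))
    have sqm : IsPullback N.m pK N.p N.k1 := IsPullback.of_map (Over.forget S) hmK N.sq
    let x₁ := sqm.lift (pullback.fst pW N.k1 ≫ pullback.fst N.p N.p) (pullback.snd pW N.k1)
      (by rw [Category.assoc]; exact pullback.condition)
    let y₁ := sqm.lift (pullback.fst pW N.k1 ≫ pullback.snd N.p N.p) (pullback.snd pW N.k1)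
      (by rw [Category.assoc, ← pullback.condition]; exact pullback.condition)
    refine hx ?_
    have hlw : l ≫ pc.π = pK ≫ o := Over.OverMorphism.ext sql.w
    have := pc.pairs (x₁ ≫ l) (y₁ ≫ l) (pullback.fst pW N.k1 ≫ r₂)
      (by rw [Category.assoc, Category.assoc, hlw, ← Category.assoc, ← Category.assoc, sqm.lift_snd, sqm.lift_snd])
      (by
        have e := congrArg (x₁ ≫ ·) N.hm
        rw [Category.assoc, Category.assoc, hr1, ← e, ← Category.assoc x₁, sqm.lift_fst, Category.assoc])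
      (by
        have e := congrArg (y₁ ≫ ·) N.hm
        rw [Category.assoc, Category.assoc, hr2, ← e, ← Category.assoc y₁, sqm.lift_fst, Category.assoc])
    have h := this ⟨ω, rfl⟩
    rw [Over.comp_left, Scheme.Hom.comp_apply] at h
    rwa [show (pullback.fst pW N.k1).left ω = x from hω] at h
  obtain ⟨g, hg, hgE⟩ := exists_basic_of_mem E htE
  have hgK : algebraMap R K g ≠ 0 := fun h0 => hg (by
    let q : PrimeSpectrum K := (default : ↥(Spec (CommRingCat.of K)))
    show χ.hom g ∈ q.asIdeal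
    rw [show χ.hom g = 0 from h0]
    exact Submodule.zero_mem _)
  let A := Localization.Away (g * f)
  have huA : IsUnit (algebraMap R A (g * f)) := IsLocalization.Away.algebraMap_isUnit _
  rw [map_mul, IsUnit.mul_iff] at huA
  obtain ⟨bA, hbA⟩ := hf A huA.2
  let φA : CommRingCat.of R ⟶ CommRingCat.of A := CommRingCat.ofHom (algebraMap R A)
  let T2 : Over S := Over.mk (Spec.map φA ≫ iR.hom ≫ N.T1.hom)
  let j2 : T2 ⟶ N.T1 := Over.homMk (Spec.map φA ≫ iR.hom) (Category.assoc _ _ _)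
  let incl := CommRingCat.ofHom (Algebra.TensorProduct.includeRight : C →ₐ[R] A ⊗[R] C).toRingHom
  let P2 : Over S := Over.mk (Spec.map incl ≫ iC.hom ≫ N.QP.hom)
  let m2 : P2 ⟶ N.QP := Over.homMk (Spec.map incl ≫ iC.hom) (Category.assoc _ _ _)
  have sqA := isPullback_spec_includeRight (R := R) (C := C) A
  have hsqA : Spec.map incl ≫ iC.hom ≫ N.p.left =
      Spec.map (CommRingCat.ofHom (algebraMap A (A ⊗[R] C))) ≫ Spec.map φA ≫ iR.hom := by
    rw [← reassoc_of% sqA.w]
    show _ = Spec.map _ ≫ Spec.map α ≫ iR.hom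
    rw [hα]; simp [incl]
  let p2 : P2 ⟶ T2 := Over.homMk (Spec.map (CommRingCat.ofHom (algebraMap A (A ⊗[R] C)))) (by
    show Spec.map _ ≫ Spec.map φA ≫ iR.hom ≫ N.T1.hom = Spec.map incl ≫ iC.hom ≫ N.QP.hom
    rw [← Over.w N.p, ← reassoc_of% hsqA])
  have sq2 : IsPullback m2 p2 N.p j2 := by
    refine IsPullback.of_map (Over.forget S) (Over.OverMorphism.ext ?_) ?_
    · show (Spec.map incl ≫ iC.hom) ≫ N.p.left = _
      rw [Category.assoc]; exact hsqA
    · refine sqA.of_iso (Iso.refl _) iC (Iso.refl _) iR ?_ ?_ ?_ ?_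
      · simp [m2, incl]
      · simp [p2]
      · show Spec.map α ≫ iR.hom = iC.hom ≫ N.p.left
        rw [hα]; simp
      · simp [j2, φA]
  let γA := (Algebra.TensorProduct.includeRight : C →ₐ[R] A ⊗[R] C).toRingHom.comp γ
  let uP := m2 ≫ N.uQ
  have hwP : (yon S).map p2 ≫ (yon S).map (j2 ≫ N.a1) ≫ ξ = (yon S).map uP ≫ p0 := by
    rw [Functor.map_comp_assoc, ← Functor.map_comp_assoc, ← sq2.w, Functor.map_comp_assoc, N.w,
      Functor.map_comp_assoc]
  obtain ⟨o2, l2, sqo, hl2, ho2⟩ := pc.exists_hom A (A ⊗[R] C) T2 (Iso.refl _) γA bA (fun i => hbA i)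
    ((yon S).map (j2 ≫ N.a1) ≫ ξ) P2 (Iso.refl _) p2 uP (by simp [p2])
    (by
      show 𝟙 _ ≫ (Spec.map incl ≫ iC.hom) ≫ N.uQ.left = _
      rw [Category.id_comp, Category.assoc, ← hγ, toU, toU, ← Spec.map_comp_assoc]
      rfl) hwP
    (fun z hz1 hz2 => N.openImm j2 m2 p2 sq2 z hz1 hz2)
    fun W x y r hxy hx hy => by
      have hxy' : (x ≫ m2) ≫ N.p = (y ≫ m2) ≫ N.p := by
        rw [Category.assoc, Category.assoc, sq2.w, reassoc_of% hxy]
      rw [← hr₂ (x ≫ m2) (y ≫ m2) r hxy' (by rw [hx, Category.assoc]) (by rw [hy, Category.assoc])]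
      rintro _ ⟨t, rfl⟩
      by_contra hbad
      let m' := pullback.lift (x ≫ m2) (y ≫ m2) hxy'
      have e1 : m'.left ≫ pW.left ≫ iR.inv = (x ≫ p2).left ≫ Spec.map φA := by
        have h : m' ≫ pW = (x ≫ p2) ≫ j2 := by
          rw [← Category.assoc m', pullback.lift_fst, Category.assoc, Category.assoc, sq2.w]
        rw [← Category.assoc, ← Over.comp_left, h]
        simp [j2]
      let y₀ : PrimeSpectrum A := (x ≫ p2).left t
      have hgy : g ∉ ((Spec.map φA) ((x ≫ p2).left t) : PrimeSpectrum R).asIdeal := fun hmem =>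
        y₀.isPrime.ne_top (Ideal.eq_top_of_isUnit_mem _ hmem huA.1)
      refine hgE _ hgy ⟨m'.left t, hbad, ?_⟩
      exact congr($e1 t)
  have huK : IsUnit (algebraMap R K (g * f)) := isUnit_iff_ne_zero.2 (by rw [map_mul]; exact mul_ne_zero hgK hfK)
  let χA : A →+* K := IsLocalization.Away.lift (g * f) huK
  have hχA : φA ≫ CommRingCat.ofHom χA = χ := CommRingCat.hom_ext (RingHom.ext fun r =>
    IsLocalization.Away.lift_eq (g * f) huK r)
  let k2 : TK ⟶ T2 := Over.homMk (iT.inv ≫ Spec.map (CommRingCat.ofHom χA)) (by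
    show (iT.inv ≫ _) ≫ Spec.map φA ≫ iR.hom ≫ N.T1.hom = TK.hom
    rw [Category.assoc, ← Spec.map_comp_assoc, hχA, hχ]
    simp [Over.w N.k1])
  have hk2 : k2 ≫ j2 = N.k1 := Over.OverMorphism.ext (by
    show (iT.inv ≫ Spec.map (CommRingCat.ofHom χA)) ≫ Spec.map φA ≫ iR.hom = N.k1.left
    rw [Category.assoc, ← Spec.map_comp_assoc, hχA, hχ]; simp)
  have sqm : IsPullback N.m pK N.p N.k1 := IsPullback.of_map (Over.forget S) hmK N.sq
  let mK := sq2.lift N.m (pK ≫ k2) (by rw [hmK, Category.assoc, hk2])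
  have sqk : IsPullback mK pK p2 k2 := by
    refine IsPullback.of_right ?_ (sq2.lift_snd _ _ _) sq2
    rw [sq2.lift_fst, hk2]; exact sqm
  have hko : k2 ≫ o2 = o := by
    have : IsAffine TK.left := .of_isIso iT.inv
    refine pc.uniq TK _ _ PK pK (mK ≫ l2) l ((sqk.map (Over.forget S)).paste_horiz sqo) sql ?_
    rw [Category.assoc, hl2, sq2.lift_fst_assoc, N.hm]
  have : IsOpenImmersion (Spec.map φA) := IsOpenImmersion.of_isLocalization (g * f)
  have := N.etale
  exact ⟨T2, j2 ≫ N.a1, k2, o2, inferInstanceAs (IsAffine (Spec (CommRingCat.of A))),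
    inferInstanceAs (Etale ((Spec.map φA ≫ iR.hom) ≫ N.a1.left)), by rw [reassoc_of% hk2, N.hk], hko, ho2⟩

end Groth.L24.Boot
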