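import Groth.Agent.L24.Boot.LqfEq
import Groth.Agent.L24.Boot.LqfShrink
import Mathlib.RingTheory.FiniteType
import Mathlib.FieldTheory.IsAlgClosed.AlgebraicClosure

/-!
Presentations by flat quasi-finite charts give presentations by etale charts.
-/

set_option autoImplicit false
set_option backward.isDefEq.respectTransparency false
set_option backward.isDefEq.respectTransparency.types false

universe u

open CategoryTheory CategoryTheory.Limits AlgebraicGeometry Opposite AlgSp

noncomputable section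

namespace Groth.L24.Boot

variable {S : Scheme.{u}} {F : Sp S} {U : Over S} {p : (yon S).obj U ⟶ F}

/-- A square of sheaves is cartesian if it is so on maps from representable sheaves. -/
theorem isPullback_of_yon {P X Y Z : Sp S} {fst : P ⟶ X} {snd : P ⟶ Y} {f : X ⟶ Z} {g : Y ⟶ Z}
    (w : fst ≫ f = snd ≫ g)
    (huniq : ∀ (T : Over S) (x y : (yon S).obj T ⟶ P), x ≫ fst = y ≫ fst → x ≫ snd = y ≫ snd → x = y)
    (hex : ∀ (T : Over S) (x : (yon S).obj T ⟶ X) (y : (yon S).obj T ⟶ Y), x ≫ f = y ≫ g →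
      ∃ z, z ≫ fst = x ∧ z ≫ snd = y) : IsPullback fst snd f g := by
  let l : P ⟶ pullback f g := pullback.lift fst snd w
  have hbij : ∀ T, Function.Bijective (l.hom.app (op T)) := fun T => by
    have hh : ∀ k, l.hom.app (op T) ((J S).uliftYonedaEquiv.{u + 1} k) = (J S).uliftYonedaEquiv.{u + 1} (k ≫ l) :=
      fun k => ((J S).uliftYonedaEquiv_comp k l).symm
    refine ⟨fun x x' hxx => ?_, fun y => ?_⟩
    · obtain ⟨k, rfl⟩ := (J S).uliftYonedaEquiv.{u + 1}.surjective x
      obtain ⟨k', rfl⟩ := (J S).uliftYonedaEquiv.{u + 1}.surjective x'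
      rw [hh, hh, Equiv.apply_eq_iff_eq] at hxx
      rw [huniq T k k' (by simpa [l] using hxx =≫ pullback.fst f g) (by simpa [l] using hxx =≫ pullback.snd f g)]
    · obtain ⟨y, rfl⟩ := (J S).uliftYonedaEquiv.{u + 1}.surjective y
      obtain ⟨z, hz1, hz2⟩ := hex T (y ≫ pullback.fst f g) (y ≫ pullback.snd f g)
        (by rw [Category.assoc, Category.assoc, pullback.condition])
      exact ⟨_, (hh z).trans (congrArg _ (pullback.hom_ext (by simpa [l] using hz1) (by simpa [l] using hz2)))⟩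
  have : ∀ T, IsIso (l.hom.app T) := fun T => (isIso_iff_bijective _).2 (hbij T.unop)
  have : IsIso l.hom := NatIso.isIso_of_isIso_app _
  have : IsIso ((sheafToPresheaf (J S) (Type (u + 1))).map l) := ‹IsIso l.hom›
  have : IsIso l := isIso_of_reflects_iso l (sheafToPresheaf (J S) _)
  exact IsPullback.of_iso_pullback ⟨w⟩ (asIso l) (pullback.lift_fst _ _ _) (pullback.lift_snd _ _ _)

/-- Maps factor through open immersions containing their image. -/
theorem exists_lift_open {A B W : Over S} (j : A ⟶ W) [IsOpenImmersion j.left] (g : B ⟶ W)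
    (h : Set.range g.left ⊆ Set.range j.left) : ∃ l : B ⟶ A, l ≫ j = g := by
  let l := IsOpenImmersion.lift j.left g.left h
  have hl : l ≫ j.left = g.left := IsOpenImmersion.lift_fac _ _ _
  exact ⟨Over.homMk l (by rw [← Over.w j, reassoc_of% hl, Over.w g]), Over.OverMorphism.ext hl⟩

theorem range_openOverι (W : Over S) (B : W.left.Opens) :
    Set.range (Groth.L23.openOverι W B).left = (B : Set W.left) :=
  Scheme.Opens.range_ι B

theorem range_comp_subset {A B W : Over S} (g : A ⟶ B) (f : B ⟶ W) {s : Set W.left}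
    (h : Set.range f.left ⊆ s) : Set.range (g ≫ f).left ⊆ s := by
  rintro _ ⟨x, rfl⟩
  exact h ⟨g.left x, rfl⟩

/-- Points of a disjoint union with a given composite agree on an open set if this holds for its members. -/
theorem exists_equalizer_sigma {I : Type u} {X : I → Over S} (D : SigmaData X) (η : (yon S).obj D.V ⟶ F)
    (hX : ∀ (i : I) {W : Over S} (o₁ o₂ : W ⟶ X i),
      (yon S).map o₁ ≫ (yon S).map (D.inj i) ≫ η = (yon S).map o₂ ≫ (yon S).map (D.inj i) ≫ η →
      ∃ E : W.left.Opens, Groth.L23.openOverι W E ≫ o₁ = Groth.L23.openOverι W E ≫ o₂ ∧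
        ∀ {W' : Over S} (g : W' ⟶ W), g ≫ o₁ = g ≫ o₂ → Set.range g.left ⊆ E)
    {W : Over S} (o₁ o₂ : W ⟶ D.V) (ho : (yon S).map o₁ ≫ η = (yon S).map o₂ ≫ η) :
    ∃ E : W.left.Opens, Groth.L23.openOverι W E ≫ o₁ = Groth.L23.openOverι W E ≫ o₂ ∧
      ∀ {W' : Over S} (g : W' ⟶ W), g ≫ o₁ = g ≫ o₂ → Set.range g.left ⊆ E := by
  classical
  -- the open sets where both factor through one member
  let B : I → W.left.Opens := fun i =>
    o₁.left ⁻¹ᵁ (D.inj i).left.opensRange ⊓ o₂.left ⁻¹ᵁ (D.inj i).left.opensRange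
  let j : ∀ i, Groth.L23.openOver W (B i) ⟶ W := fun i => Groth.L23.openOverι W (B i)
  have hl₁ : ∀ i, ∃ l, l ≫ D.inj i = j i ≫ o₁ := fun i => exists_lift_open _ _ (by
    rintro _ ⟨s, rfl⟩; exact s.2.1)
  have hl₂ : ∀ i, ∃ l, l ≫ D.inj i = j i ≫ o₂ := fun i => exists_lift_open _ _ (by
    rintro _ ⟨s, rfl⟩; exact s.2.2)
  choose l₁ hl₁ using hl₁
  choose l₂ hl₂ using hl₂
  choose Ei hEi1 hEi2 using fun i => hX i (l₁ i) (l₂ i) (by
    rw [← Functor.map_comp_assoc, ← Functor.map_comp_assoc, hl₁, hl₂, Functor.map_comp_assoc,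
      Functor.map_comp_assoc, ho])
  let E : W.left.Opens := ⨆ i, (j i).left ''ᵁ Ei i
  refine ⟨E, Groth.L23.hom_ext_cover' (fun i : I =>
      Groth.L23.openOverι (Groth.L23.openOver W E) ((Groth.L23.openOverι W E).left ⁻¹ᵁ ((j i).left ''ᵁ Ei i)))
    (fun t => ?_) fun i => ?_, fun {W'} g hg => ?_⟩
  · obtain ⟨i, hi⟩ := TopologicalSpace.Opens.mem_iSup.1 t.2
    exact ⟨i, ⟨t, hi⟩, rfl⟩
  · have : IsOpenImmersion (Groth.L23.openOverι _ (Ei i) ≫ j i).left :=
      inferInstanceAs (IsOpenImmersion ((Groth.L23.openOverι (Groth.L23.openOver W (B i)) (Ei i)).left ≫ (j i).left))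
    obtain ⟨m, hm⟩ := exists_lift_open (Groth.L23.openOverι _ (Ei i) ≫ j i)
      (Groth.L23.openOverι (Groth.L23.openOver W E) ((Groth.L23.openOverι W E).left ⁻¹ᵁ ((j i).left ''ᵁ Ei i)) ≫
        Groth.L23.openOverι W E) (by
        rintro _ ⟨s, rfl⟩
        obtain ⟨x, hx, hxs⟩ := s.2
        exact ⟨⟨x, hx⟩, hxs⟩)
    rw [← Category.assoc, ← Category.assoc, ← hm]
    simp only [Category.assoc, ← hl₁, ← hl₂, reassoc_of% hEi1 i]
  · rintro _ ⟨t, rfl⟩
    obtain ⟨i, u, hu⟩ := D.cover (o₁.left (g.left t))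
    have hu2 : (D.inj i).left u = o₂.left (g.left t) := by
      rw [hu, ← Scheme.Hom.comp_apply, ← Over.comp_left, hg, Over.comp_left, Scheme.Hom.comp_apply]
    let jW := Groth.L23.openOverι W' (g.left ⁻¹ᵁ B i)
    obtain ⟨gB, hgB⟩ := exists_lift_open (j i) (jW ≫ g) (by
      rintro _ ⟨s, rfl⟩; exact ⟨⟨_, s.2⟩, rfl⟩)
    have := mono_inj D i
    have hmem := hEi2 i gB (by
      rw [← cancel_mono (D.inj i), Category.assoc, Category.assoc, hl₁, hl₂, reassoc_of% hgB,
        reassoc_of% hgB, hg])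
    have htB : g.left t ∈ B i := ⟨⟨u, hu⟩, ⟨u, hu2⟩⟩
    refine TopologicalSpace.Opens.mem_iSup.2 ⟨i, gB.left ⟨t, htB⟩, hmem ⟨_, rfl⟩, ?_⟩
    exact congr($(congrArg CommaMorphism.left hgB) ⟨t, htB⟩)

theorem exists_geom_point {W : Over S} (w : ↥W.left) :
    ∃ (K : Type u) (_ : Field K) (_ : IsAlgClosed K) (TK : Over S) (iT : Spec (CommRingCat.of K) ≅ TK.left)
      (g : TK ⟶ W), g.left (iT.hom default) = w := by
  let c := Spec.map (CommRingCat.ofHom (algebraMap (W.left.residueField w)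
    (AlgebraicClosure (W.left.residueField w)))) ≫ W.left.fromSpecResidueField w
  refine ⟨AlgebraicClosure (W.left.residueField w), inferInstance, inferInstance, Over.mk (c ≫ W.hom),
    Iso.refl _, Over.homMk c rfl, ?_⟩
  show c default = w
  rw [Scheme.Hom.comp_apply]
  exact Scheme.fromSpecResidueField_apply _ _

instance isAffine_openOver (X : Over S) (B : X.left.affineOpens) : IsAffine (Groth.L23.openOver X B.1).left :=
  B.2

variable (h : HasCharts (@Flat ⊓ @LocallyQuasiFinite ⊓ @LocallyOfFinitePresentation ⊓ @Surjective) p)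

/-- Indices for the pieces of a presentation. -/
structure PieceIdx : Type u where
  B : U.left.affineOpens
  d : ℕ
  b : Fin (d + 1) → Γ((Groth.L23.openOver U B.1).left, ⊤)
  R' : (rel (repWith_openPiece h B.1 B.2)).left.Opens
  qc : IsCompact (R' : Set (rel (repWith_openPiece h B.1 B.2)).left)

/-- The piece of an index. -/
@[irreducible] def pieceOf (i : PieceIdx h) : Piece (repWith_openPiece h i.B.1 i.B.2) (i.d + 1) i.b i.R' :=
  (exists_piece (repWith_openPiece h i.B.1 i.B.2) i.b i.R' i.qc).some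

variable {V : Over S} (η : (yon S).obj V ⟶ F)

/-- The three facts about the presentation by pieces that the charts need. -/
structure PiecePres : Prop where
  equalizer : ∀ {W : Over S} (o₁ o₂ : W ⟶ V), (yon S).map o₁ ≫ η = (yon S).map o₂ ≫ η →
    ∃ E : W.left.Opens, Groth.L23.openOverι W E ≫ o₁ = Groth.L23.openOverι W E ≫ o₂ ∧
      ∀ {W' : Over S} (g : W' ⟶ W), g ≫ o₁ = g ≫ o₂ → Set.range g.left ⊆ E
  nbhd : ∀ {T : Over S} [IsAffine T.left] (ξ : (yon S).obj T ⟶ F) {K : Type u} [Field K] [IsAlgClosed K]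
    {TK : Over S} (_ : Spec (CommRingCat.of K) ≅ TK.left) (τ : TK ⟶ T) (o : TK ⟶ V),
    (yon S).map o ≫ η = (yon S).map τ ≫ ξ →
    ∃ (T' : Over S) (a : T' ⟶ T) (k : TK ⟶ T') (o' : T' ⟶ V), IsAffine T'.left ∧ Etale a.left ∧
      k ≫ a = τ ∧ k ≫ o' = o ∧ (yon S).map o' ≫ η = (yon S).map a ≫ ξ
  point : ∀ {T : Over S} (ξ : (yon S).obj T ⟶ F) (t : ↥T.left),
    ∃ (K : Type u) (_ : Field K) (_ : IsAlgClosed K) (TK : Over S) (iT : Spec (CommRingCat.of K) ≅ TK.left)
      (τ : TK ⟶ T) (o : TK ⟶ V), τ.left (iT.hom default) = t ∧ (yon S).map o ≫ η = (yon S).map τ ≫ ξ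

/-- A map from the spectrum of a field factors through an open immersion hit by its point. -/
theorem exists_lift_point {A TK W : Over S} {K : Type u} [Field K] (iT : Spec (CommRingCat.of K) ≅ TK.left)
    (j : A ⟶ W) [IsOpenImmersion j.left] (o : TK ⟶ W) (u : ↥A.left)
    (hu : j.left u = o.left (iT.hom default)) : ∃ l : TK ⟶ A, l ≫ j = o := by
  refine exists_lift_open j o ?_
  rintro _ ⟨s, rfl⟩
  obtain ⟨s, rfl⟩ := iT.hom.surjective s
  rw [show s = default from Subsingleton.elim (α := PrimeSpectrum K) _ _]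
  exact ⟨u, hu⟩

include h in
theorem exists_piece_of_point {T : Over S} (ξ : (yon S).obj T ⟶ F) (t : ↥T.left) :
    ∃ (K : Type u) (_ : Field K) (_ : IsAlgClosed K) (TK : Over S) (iT : Spec (CommRingCat.of K) ≅ TK.left)
      (τ : TK ⟶ T) (i : PieceIdx h) (o : TK ⟶ (pieceOf h i).O),
      τ.left (iT.hom default) = t ∧ (yon S).map o ≫ (pieceOf h i).ξ = (yon S).map τ ≫ ξ := by
  refine (h ξ).elim fun c hc => ?_
  have : Surjective c.a.left := hc.2
  obtain ⟨x, hx⟩ := c.a.left.surjective t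
  obtain ⟨_, ⟨B, hB, rfl⟩, hxB, -⟩ := U.left.isBasis_affineOpens.exists_subset_of_mem_open
    (Set.mem_univ (c.α.left x)) isOpen_univ
  obtain ⟨K, _, _, TK, iT, g, hg⟩ := exists_geom_point x
  obtain ⟨s, hs⟩ := exists_lift_point iT (Groth.L23.openOverι U B) (g ≫ c.α) ⟨_, hxB⟩ (by
    rw [Over.comp_left, Scheme.Hom.comp_apply, hg]; rfl)
  have : IsAffine (Groth.L23.openOver U B).left := hB
  obtain ⟨d, b, R', hR', hpc⟩ := exists_piece_point (repWith_openPiece h B hB) iT
    ((yon S).map (g ≫ c.a) ≫ ξ) s (by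
      rw [← Functor.map_comp_assoc, hs, Functor.map_comp_assoc, Functor.map_comp_assoc, c.w])
  obtain ⟨o, ho⟩ := hpc (pieceOf h (⟨⟨B, hB⟩, d, b, R', hR'⟩ : PieceIdx h))
  exact ⟨K, inferInstance, inferInstance, TK, iT, g ≫ c.a, (⟨⟨B, hB⟩, d, b, R', hR'⟩ : PieceIdx h), o,
    by rw [Over.comp_left, Scheme.Hom.comp_apply, hg, hx], ho⟩

theorem exists_equalizer_pieceOf (i : PieceIdx h) {W : Over S} (a b : W ⟶ (pieceOf h i).O)
    (hab : (yon S).map a ≫ (pieceOf h i).ξ = (yon S).map b ≫ (pieceOf h i).ξ) :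
    ∃ E : W.left.Opens, Groth.L23.openOverι W E ≫ a = Groth.L23.openOverι W E ≫ b ∧
      ∀ {W' : Over S} (g : W' ⟶ W), g ≫ a = g ≫ b → Set.range g.left ⊆ E :=
  exists_equalizer (pieceOf h i) a b hab

/-- The presentation by the pieces has the three properties. -/
theorem piecePres_of_sigma (D : SigmaData fun i : PieceIdx h => (pieceOf h i).O)
    (η : (yon S).obj D.V ⟶ F) (hη : ∀ i, (yon S).map (D.inj i) ≫ η = (pieceOf h i).ξ) : PiecePres η := by
  refine ⟨fun {W} o₁ o₂ ho => exists_equalizer_sigma D η (fun i {W} a b hab => ?_) o₁ o₂ ho,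
    fun {T} _ ξ K _ _ TK iT τ o ho => ?_, fun {T} ξ t => ?_⟩
  · rw [hη] at hab
    exact exists_equalizer_pieceOf h i a b hab
  · obtain ⟨i, u, hu⟩ := D.cover (o.left (iT.hom default))
    obtain ⟨lo, hlo⟩ := exists_lift_point iT (D.inj i) o u hu
    obtain ⟨T', a, k, o', h1, h2, h3, h4, h5⟩ := exists_nbhd (pieceOf h i) ξ iT τ lo
      (by rw [← hη, ← Functor.map_comp_assoc, hlo, ho])
    exact ⟨T', a, k, o' ≫ D.inj i, h1, h2, h3, by rw [reassoc_of% h4, hlo],
      by rw [Functor.map_comp_assoc, hη, h5]⟩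
  · obtain ⟨K, _, _, TK, iT, τ, i, o, ht, ho⟩ := exists_piece_of_point h ξ t
    exact ⟨K, inferInstance, inferInstance, TK, iT, τ, o ≫ D.inj i, ht,
      by rw [Functor.map_comp_assoc, hη]; exact ho⟩

include h in
theorem exists_piecePres : ∃ (V : Over S) (η : (yon S).obj V ⟶ F), PiecePres η := by
  obtain ⟨D⟩ := exists_sigma fun i : PieceIdx h => (pieceOf h i).O
  obtain ⟨η, hη⟩ := exists_glue_sigma D fun i => (pieceOf h i).ξ
  exact ⟨D.V, η, piecePres_of_sigma h D η hη⟩

variable {η}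

/-- A standard affine scheme over an affine scheme. -/
def chartObj (TB : Over S) [IsAffine TB.left] (n : ℕ) (I : Ideal (MvPolynomial (Fin n) Γ(TB.left, ⊤))) : Over S :=
  Over.mk (Spec.map (CommRingCat.ofHom ((Ideal.Quotient.mk I).comp MvPolynomial.C)) ≫
    TB.left.isoSpec.inv ≫ TB.hom)

/-- The structure map of a standard affine scheme. -/
def chartHom (TB : Over S) [IsAffine TB.left] (n : ℕ) (I : Ideal (MvPolynomial (Fin n) Γ(TB.left, ⊤))) :
    chartObj TB n I ⟶ TB :=
  Over.homMk (Spec.map (CommRingCat.ofHom ((Ideal.Quotient.mk I).comp MvPolynomial.C)) ≫ TB.left.isoSpec.inv)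
    (Category.assoc _ _ _)

/-- Affine schemes of finite type over an affine scheme are standard. -/
theorem exists_chartObj_iso {TB T' : Over S} [IsAffine TB.left] [IsAffine T'.left] (a : T' ⟶ TB)
    [LocallyOfFiniteType a.left] :
    ∃ (n : ℕ) (I : Ideal (MvPolynomial (Fin n) Γ(TB.left, ⊤))) (φ : T' ≅ chartObj TB n I),
      φ.hom ≫ chartHom TB n I = a := by
  obtain ⟨α, hα⟩ := Spec.map_surjective (T'.left.isoSpec.inv ≫ a.left ≫ TB.left.isoSpec.hom)
  let := α.hom.toAlgebra
  have : LocallyOfFiniteType (Spec.map α) := by rw [hα]; infer_instance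
  have : Algebra.FiniteType Γ(TB.left, ⊤) Γ(T'.left, ⊤) :=
    RingHom.finiteType_algebraMap.1 ((HasRingHomProperty.Spec_iff (P := @LocallyOfFiniteType)).1 this)
  obtain ⟨n, f, hf⟩ := Algebra.FiniteType.iff_quotient_mvPolynomial''.1 this
  let I := RingHom.ker f.toRingHom
  let e : _ ≃+* Γ(T'.left, ⊤) := RingHom.quotientKerEquivOfSurjective (f := f.toRingHom) hf
  let i₁ : T'.left ≅ Spec (CommRingCat.of (MvPolynomial (Fin n) Γ(TB.left, ⊤) ⧸ I)) :=
    T'.left.isoSpec ≪≫ Scheme.Spec.mapIso e.toCommRingCatIso.op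
  have hi : i₁.hom ≫ Spec.map (CommRingCat.ofHom ((Ideal.Quotient.mk I).comp MvPolynomial.C)) ≫
      TB.left.isoSpec.inv = a.left := by
    show (T'.left.isoSpec.hom ≫ Spec.map e.toCommRingCatIso.hom) ≫ _ ≫ _ = _
    rw [Category.assoc, ← Spec.map_comp_assoc,
      show CommRingCat.ofHom ((Ideal.Quotient.mk I).comp MvPolynomial.C) ≫ e.toCommRingCatIso.hom = α from
        CommRingCat.hom_ext (RingHom.ext fun r => f.commutes r), hα]
    simp
  refine ⟨n, I, Over.isoMk i₁ ?_, Over.OverMorphism.ext hi⟩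
  show i₁.hom ≫ Spec.map _ ≫ TB.left.isoSpec.inv ≫ TB.hom = T'.hom
  rw [reassoc_of% hi, Over.w a]

/-- Indices of the etale charts. -/
structure ChartIdx {T : Over S} (ξ : (yon S).obj T ⟶ F) (η : (yon S).obj V ⟶ F) : Type u where
  B : T.left.affineOpens
  n : ℕ
  I : Ideal (MvPolynomial (Fin n) Γ((Groth.L23.openOver T B.1).left, ⊤))
  o : chartObj (Groth.L23.openOver T B.1) n I ⟶ V
  et : Etale (chartHom (Groth.L23.openOver T B.1) n I).left
  comp : (yon S).map o ≫ η =
    (yon S).map (chartHom (Groth.L23.openOver T B.1) n I ≫ Groth.L23.openOverι T B.1) ≫ ξ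

/-- The source of a chart. -/
def ChartIdx.src {T : Over S} {ξ : (yon S).obj T ⟶ F} {η : (yon S).obj V ⟶ F} (j : ChartIdx ξ η) : Over S :=
  chartObj (Groth.L23.openOver T j.B.1) j.n j.I

/-- The map of a chart to the base. -/
def chartBase {T : Over S} {ξ : (yon S).obj T ⟶ F} {η : (yon S).obj V ⟶ F} (j : ChartIdx ξ η) : j.src ⟶ T :=
  chartHom _ _ _ ≫ Groth.L23.openOverι T j.B.1

theorem chartBase_etale {T : Over S} {ξ : (yon S).obj T ⟶ F} {η : (yon S).obj V ⟶ F} (j : ChartIdx ξ η) :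
    Etale (chartBase j).left := by
  have := j.et
  exact MorphismProperty.comp_mem @Etale _ _ this (inferInstanceAs (Etale j.B.1.ι))

theorem exists_chartIdx (hP : PiecePres η) {T : Over S} (ξ : (yon S).obj T ⟶ F) {K : Type u} [Field K]
    [IsAlgClosed K] {TK : Over S} (iT : Spec (CommRingCat.of K) ≅ TK.left) (τ : TK ⟶ T) (o : TK ⟶ V)
    (ho : (yon S).map o ≫ η = (yon S).map τ ≫ ξ) :
    ∃ (j : ChartIdx ξ η) (k : TK ⟶ j.src), k ≫ chartBase j = τ ∧ k ≫ j.o = o := by
  obtain ⟨_, ⟨B, hB, rfl⟩, hB', -⟩ := T.left.isBasis_affineOpens.exists_subset_of_mem_open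
    (Set.mem_univ (τ.left (iT.hom default))) isOpen_univ
  obtain ⟨τB, hτB⟩ := exists_lift_point iT (Groth.L23.openOverι T B) τ ⟨_, hB'⟩ rfl
  let TB := Groth.L23.openOver T B
  have : IsAffine TB.left := hB
  obtain ⟨T', a, k, o', hT', ha, hka, hko, hoξ⟩ := hP.nbhd ((yon S).map (Groth.L23.openOverι T B) ≫ ξ) iT τB o
    (by rw [← Functor.map_comp_assoc, hτB, ho])
  have := ha
  obtain ⟨n, I, φ, hφ⟩ := exists_chartObj_iso a
  have hφ' : chartHom TB n I = φ.inv ≫ a := by rw [← hφ, Iso.inv_hom_id_assoc]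
  refine ⟨{ B := ⟨B, hB⟩, n := n, I := I, o := φ.inv ≫ o', et := ?_, comp := ?_ }, k ≫ φ.hom, ?_, ?_⟩
  · show Etale (chartHom TB n I).left
    rw [hφ']; exact inferInstanceAs (Etale (φ.inv.left ≫ a.left))
  · show _ = (yon S).map (chartHom TB n I ≫ Groth.L23.openOverι T B) ≫ ξ
    rw [hφ', Functor.map_comp_assoc, hoξ, Category.assoc, Functor.map_comp_assoc, Functor.map_comp_assoc]
  · show (k ≫ φ.hom) ≫ chartHom TB n I ≫ Groth.L23.openOverι T B = τ
    simp only [hφ', Category.assoc, Iso.hom_inv_id_assoc]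
    rw [reassoc_of% hka, hτB]
  · show (k ≫ φ.hom) ≫ φ.inv ≫ o' = o
    rw [Category.assoc, Iso.hom_inv_id_assoc, hko]

theorem hasCharts_of_piecePres (hP : PiecePres η) : HasCharts (@Etale ⊓ @Surjective) η := by
  intro T ξ
  obtain ⟨D⟩ := exists_sigma (ChartIdx.src (ξ := ξ) (η := η))
  obtain ⟨a, ha⟩ := D.desc T fun j => chartBase j
  obtain ⟨α, hα⟩ := D.desc V fun j => j.o
  have hae : Etale a.left := D.etale_of a fun j => by
    rw [ha]
    exact chartBase_etale j
  have hw : (yon S).map a ≫ ξ = (yon S).map α ≫ η := Groth.L23.hom_ext_cover D.inj D.cover fun j => by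
    rw [← Functor.map_comp_assoc, ha, ← Functor.map_comp_assoc, hα]; exact j.comp.symm
  have key : ∀ {W : Over S} (τ : W ⟶ T) (o : W ⟶ V), (yon S).map o ≫ η = (yon S).map τ ≫ ξ → ∀ w : ↥W.left,
      ∃ (TK : Over S) (g : TK ⟶ W) (k : TK ⟶ D.V) (x : ↥TK.left),
        g.left x = w ∧ k ≫ a = g ≫ τ ∧ k ≫ α = g ≫ o := by
    intro W τ o ho w
    obtain ⟨K, _, _, TK, iT, g, hg⟩ := exists_geom_point w
    obtain ⟨j, k, hk1, hk2⟩ := exists_chartIdx hP ξ iT (g ≫ τ) (g ≫ o)
      (by rw [Functor.map_comp_assoc, ho, Functor.map_comp_assoc])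
    exact ⟨TK, g, k ≫ D.inj j, iT.hom default, hg, by rw [Category.assoc, ha]; exact hk1,
      by rw [Category.assoc, hα]; exact hk2⟩
  let a₃ : (yon S).obj D.V ⟶ pullback ξ η := pullback.lift ((yon S).map a) ((yon S).map α) hw
  have main : RepWith (@Etale ⊓ @Surjective) a₃ := Groth.L23.repWith_of_exists fun W g => by
    obtain ⟨τ, hτ⟩ := (yon S).map_surjective (g ≫ pullback.fst ξ η)
    obtain ⟨o, ho⟩ := (yon S).map_surjective (g ≫ pullback.snd ξ η)
    have hoτ : (yon S).map o ≫ η = (yon S).map τ ≫ ξ := by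
      rw [ho, hτ, Category.assoc, Category.assoc, pullback.condition]
    obtain ⟨E, hE1, hE2⟩ := hP.equalizer (pullback.fst a τ ≫ α) (pullback.snd a τ ≫ o) (by
      rw [Functor.map_comp_assoc, Functor.map_comp_assoc, ← hw, hoτ, ← Functor.map_comp_assoc,
        ← Functor.map_comp_assoc, pullback.condition])
    let ιE := Groth.L23.openOverι (pullback a τ) E
    refine ⟨Groth.L23.openOver (pullback a τ) E, (yon S).map (ιE ≫ pullback.fst a τ), ιE ≫ pullback.snd a τ,
      isPullback_of_yon ?_ (fun X x y h1 h2 => ?_) fun X x y e => ?_, ?_, ?_⟩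
    · apply pullback.hom_ext
      · rw [Category.assoc, Category.assoc, pullback.lift_fst, ← hτ, ← Functor.map_comp, ← Functor.map_comp,
          Category.assoc, Category.assoc, pullback.condition]
      · rw [Category.assoc, Category.assoc, pullback.lift_snd, ← ho, ← Functor.map_comp, ← Functor.map_comp,
          Category.assoc, Category.assoc, hE1]
    · obtain ⟨x, rfl⟩ := (yon S).map_surjective x
      obtain ⟨y, rfl⟩ := (yon S).map_surjective y
      rw [← Functor.map_comp, ← Functor.map_comp] at h1 h2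
      have := Over.mono_of_mono_left ιE
      congr 1
      rw [← cancel_mono ιE]
      refine pullback.hom_ext ?_ ?_
      · rw [Category.assoc, Category.assoc]; exact (yon S).map_injective h1
      · rw [Category.assoc, Category.assoc]; exact (yon S).map_injective h2
    · obtain ⟨x, rfl⟩ := (yon S).map_surjective x
      obtain ⟨y, rfl⟩ := (yon S).map_surjective y
      have e1 := e =≫ pullback.fst ξ η
      have e2 := e =≫ pullback.snd ξ η
      rw [Category.assoc, Category.assoc, pullback.lift_fst, ← hτ, ← Functor.map_comp, ← Functor.map_comp] at e1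
      rw [Category.assoc, Category.assoc, pullback.lift_snd, ← ho, ← Functor.map_comp, ← Functor.map_comp] at e2
      let m : X ⟶ pullback a τ := pullback.lift x y ((yon S).map_injective e1)
      have hm := hE2 m (by rw [pullback.lift_fst_assoc, pullback.lift_snd_assoc, (yon S).map_injective e2])
      let l := IsOpenImmersion.lift ιE.left m.left (by
        rintro _ hq
        exact ⟨⟨_, hm hq⟩, rfl⟩)
      have hl : l ≫ ιE.left = m.left := IsOpenImmersion.lift_fac _ _ _
      let lo : X ⟶ Groth.L23.openOver (pullback a τ) E := Over.homMk l (by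
        rw [← Over.w ιE, reassoc_of% hl, Over.w m])
      have hlo : lo ≫ ιE = m := Over.OverMorphism.ext hl
      exact ⟨(yon S).map lo, by rw [← Functor.map_comp, reassoc_of% hlo, pullback.lift_fst],
        by rw [← Functor.map_comp, reassoc_of% hlo, pullback.lift_snd]⟩
    · show Etale (ιE.left ≫ (pullback.snd a τ).left)
      have : Etale (pullback.snd a τ).left :=
        MorphismProperty.of_isPullback ((IsPullback.of_hasPullback a τ).map (Over.forget S)) hae
      infer_instance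
    · refine ⟨fun w => ?_⟩
      obtain ⟨TK, g', k, x, hx, hk1, hk2⟩ := key τ o hoτ w
      let m : TK ⟶ pullback a τ := pullback.lift k g' hk1
      have hm := hE2 m (by rw [pullback.lift_fst_assoc, pullback.lift_snd_assoc, hk2]) ⟨x, rfl⟩
      refine ⟨⟨m.left x, hm⟩, ?_⟩
      show (pullback.snd a τ).left (m.left x) = w
      rw [← Scheme.Hom.comp_apply, ← Over.comp_left, pullback.lift_snd, hx]
  refine ⟨⟨D.V, a, α, hw, (Groth.L23.repWith_inf_iff.1 main).1, (Groth.L23.repWith_inf_iff.1 main).2⟩, hae,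
    ⟨fun t => ?_⟩⟩
  obtain ⟨K, _, _, TK, iT, τ, o, ht, ho⟩ := hP.point ξ t
  obtain ⟨j, k, hk, -⟩ := exists_chartIdx hP ξ iT τ o ho
  refine ⟨(k ≫ D.inj j).left (iT.hom default), ?_⟩
  rw [← Scheme.Hom.comp_apply, ← Over.comp_left, Category.assoc, ha, hk, ht]

end Groth.L24.Boot
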