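import Mathlib.RingTheory.Smooth.StandardSmoothOfFree
import Mathlib.RingTheory.Kaehler.Polynomial
import Mathlib.RingTheory.Kaehler.JacobiZariski
import Mathlib.RingTheory.Etale.Locus
import Mathlib.RingTheory.RingHom.Etale
import Mathlib.RingTheory.LocalRing.Module

/-!
Etale coordinates of a smooth algebra taken in a given subset spanning the differentials.
-/

set_option autoImplicit false

universe u

open TensorProduct KaehlerDifferential

namespace Groth.L24.Boot

variable {A C : Type u} [CommRing A] [CommRing C] [Algebra A C]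

theorem etale_of_basis_differentials [Algebra.Smooth A C] {κ : Type u} [Finite κ]
    (a : κ → C) (b : Module.Basis κ C Ω[C⁄A]) (hb : ∀ i, b i = D A C (a i)) :
    (MvPolynomial.aeval a : MvPolynomial κ A →ₐ[A] C).toRingHom.Etale := by
  let P := MvPolynomial κ A
  let : Algebra P C := (MvPolynomial.aeval a : P →ₐ[A] C).toRingHom.toAlgebra
  have : IsScalarTower A P C := IsScalarTower.of_algebraMap_eq' (MvPolynomial.aeval a).comp_algebraMap.symm
  let e := ((mvPolynomialBasis A κ).baseChange C).equiv b (Equiv.refl κ)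
  have he : mapBaseChange A P C = e.toLinearMap := by
    refine ((mvPolynomialBasis A κ).baseChange C).ext fun i => ?_
    rw [LinearEquiv.coe_coe, Module.Basis.equiv_apply, Module.Basis.baseChange_apply, mapBaseChange_tmul,
      one_smul, mvPolynomialBasis_apply, map_D]
    rw [Equiv.refl_apply, hb]
    congr 1
    exact MvPolynomial.aeval_X a i
  have hinj : Function.Injective (mapBaseChange A P C) := by rw [he]; exact e.injective
  have hΩ : Subsingleton Ω[C⁄P] := by
    refine ⟨fun x y => ?_⟩
    have h : ∀ z, z = (0 : Ω[C⁄P]) := fun z => by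
      obtain ⟨w, rfl⟩ := KaehlerDifferential.map_surjective A P C z
      exact (KaehlerDifferential.exact_mapBaseChange_map A P C w).2
        ⟨e.symm w, by rw [he]; exact e.apply_symm_apply w⟩
    rw [h x, h y]
  have hH : Subsingleton (Algebra.H1Cotangent P C) := by
    refine ⟨fun x y => ?_⟩
    have h : ∀ z : Algebra.H1Cotangent P C, z = 0 := fun z => by
      have hd : Algebra.H1Cotangent.δ A P C z = 0 := hinj (by
        rw [(Algebra.H1Cotangent.exact_δ_mapBaseChange A P C _).2 ⟨z, rfl⟩, map_zero])
      obtain ⟨w, hw⟩ := (Algebra.H1Cotangent.exact_map_δ A P C z).1 hd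
      rw [← hw, Subsingleton.elim w 0, map_zero]
    rw [h x, h y]
  have : Algebra.FinitePresentation P C := .of_restrict_scalars_finitePresentation A P C
  show Algebra.Etale P C
  exact { formallyEtale := (Algebra.formallyEtale_iff _ _).2 ⟨hΩ, hH⟩, finitePresentation := inferInstance }

/-- Near every prime of a smooth algebra there are etale coordinates in any family spanning the
differentials. -/
theorem exists_coords [Algebra.Smooth A C] {B : Type u} (β : B → C)
    (hβ : Submodule.span C (Set.range (D A C ∘ β)) = ⊤) (p : Ideal C) [p.IsPrime] :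
    ∃ g ∉ p, ∃ (κ : Type u) (_ : Finite κ) (b : κ → B),
      (MvPolynomial.aeval (fun i => algebraMap C (Localization.Away g) (β (b i))) :
        MvPolynomial κ A →ₐ[A] Localization.Away g).toRingHom.Etale := by
  have hsp : Submodule.span (Localization.AtPrime p)
      (Set.range (map A A C (Localization.AtPrime p) ∘ D A C ∘ β)) = ⊤ := by
    rw [Set.range_comp]
    exact span_eq_top_of_isLocalizedModule _ p.primeCompl (map A A C (Localization.AtPrime p)) hβ
  obtain ⟨κ, a, b, hb⟩ := Module.exists_basis_of_span_of_flat _ hsp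
  let e : (κ →₀ C) →ₗ[C] Ω[C⁄A] :=
    Finsupp.linearCombination C fun i : κ ↦ D A C (β (a i))
  let l₁ : (κ →₀ C) →ₗ[C] (κ →₀ Localization.AtPrime p) :=
    Finsupp.mapRange.linearMap (Algebra.linearMap C (Localization.AtPrime p))
  let l₂ : Ω[C⁄A] →ₗ[C] Ω[Localization.AtPrime p⁄A] := map A A C (Localization.AtPrime p)
  let eₚ : (κ →₀ Localization.AtPrime p) →ₗ[Localization.AtPrime p] Ω[Localization.AtPrime p⁄A] :=
    IsLocalizedModule.mapExtendScalars p.primeCompl l₁ l₂ (Localization.AtPrime p) e
  have : eₚ = b.repr.symm := by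
    ext i
    trans IsLocalizedModule.map p.primeCompl l₁ l₂ e <| l₁ <| Finsupp.single i 1
    · simp [eₚ, -IsLocalizedModule.map_apply, l₁]
    · simp [l₂, e, hb]
  have heₚ : Function.Bijective eₚ := this ▸ b.repr.symm.bijective
  have : Finite κ := Module.Finite.finite_basis b
  obtain ⟨g, hg, h⟩ := Module.FinitePresentation.exists_notMem_bijective e p l₁ l₂ heₚ
  let l₁ₜ : (κ →₀ C) →ₗ[C] (κ →₀ Localization.Away g) :=
    Finsupp.mapRange.linearMap (Algebra.linearMap C _)
  let l₂ₜ : Ω[C⁄A] →ₗ[C] Ω[Localization.Away g⁄A] :=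
    map A A C (Localization.Away g)
  rw [← IsLocalizedModule.map_bijective_iff_localizedModuleMap_bijective l₁ₜ l₂ₜ] at h
  let eₜ' : (κ →₀ Localization.Away g) →ₗ[Localization.Away g] Ω[Localization.Away g⁄A] :=
    IsLocalizedModule.mapExtendScalars (Submonoid.powers g) l₁ₜ l₂ₜ (Localization.Away g) e
  have : Algebra.Etale C (Localization.Away g) := Algebra.Etale.of_isLocalizationAway g
  have : Algebra.Smooth A (Localization.Away g) := Algebra.Smooth.comp A C _
  refine ⟨g, hg, κ, inferInstance, a, etale_of_basis_differentials _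
    (.ofRepr (LinearEquiv.ofBijective eₜ' h).symm) fun i => ?_⟩
  show eₜ' (Finsupp.single i 1) = _
  rw [show (Finsupp.single i 1 : κ →₀ Localization.Away g) = l₁ₜ (Finsupp.single i 1) by simp [l₁ₜ]]
  show IsLocalizedModule.map (Submonoid.powers g) l₁ₜ l₂ₜ e (l₁ₜ _) = _
  rw [IsLocalizedModule.map_apply]
  simp [l₂ₜ, e]

end Groth.L24.Boot
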