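import Groth.Agent.L24.Boot.EtaleAt
import Groth.Agent.L20.FibreScheme
import Mathlib.AlgebraicGeometry.AffineSpace

/-!
Maps to relative affine space and their etale locus under base change.
-/

set_option autoImplicit false
set_option backward.isDefEq.respectTransparency false
set_option backward.isDefEq.respectTransparency.types false

universe u

open CategoryTheory CategoryTheory.Limits AlgebraicGeometry

noncomputable section

namespace Groth.L24.Boot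

/-- `Spec ℤ[σ]`. -/
abbrev AffZ (σ : Type u) : Scheme.{u} := Spec (CommRingCat.of (MvPolynomial σ (ULift.{u} ℤ)))

variable {σ : Type u} {X X' T T' Y Y' U : Scheme.{u}}

/-- The map to relative affine space with the two given components. -/
def affLift (f : X ⟶ T) (g : X ⟶ AffZ σ) : X ⟶ 𝔸(σ; T) :=
  pullback.lift f g (terminal.hom_ext _ _)

@[reassoc (attr := simp)]
theorem affLift_over (f : X ⟶ T) (g : X ⟶ AffZ σ) : affLift f g ≫ 𝔸(σ; T) ↘ T = f :=
  pullback.lift_fst _ _ _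

@[reassoc (attr := simp)]
theorem affLift_toSpec (f : X ⟶ T) (g : X ⟶ AffZ σ) :
    affLift f g ≫ AffineSpace.toSpecMvPoly σ T = g :=
  pullback.lift_snd _ _ _

theorem aff_hom_ext {a b : X ⟶ 𝔸(σ; T)} (h₁ : a ≫ 𝔸(σ; T) ↘ T = b ≫ 𝔸(σ; T) ↘ T)
    (h₂ : a ≫ AffineSpace.toSpecMvPoly σ T = b ≫ AffineSpace.toSpecMvPoly σ T) : a = b :=
  pullback.hom_ext h₁ h₂

theorem comp_affLift (q : X' ⟶ X) (f : X ⟶ T) (g : X ⟶ AffZ σ) :
    q ≫ affLift f g = affLift (q ≫ f) (q ≫ g) :=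
  aff_hom_ext (by simp) (by simp)

theorem isPullback_affLift {q : X' ⟶ X} {f' : X' ⟶ T'} {f : X ⟶ T} {h : T' ⟶ T}
    (sq : IsPullback q f' f h) (g : X ⟶ AffZ σ) :
    IsPullback q (affLift f' (q ≫ g)) (affLift f g) (AffineSpace.map σ h) := by
  refine IsPullback.of_bot ?_ ?_ (AffineSpace.isPullback_map h)
  · simpa using sq
  · exact aff_hom_ext (by simpa using sq.w) (by simp)

instance lfp_affLift [Finite σ] (f : X ⟶ T) [LocallyOfFinitePresentation f] (g : X ⟶ AffZ σ) :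
    LocallyOfFinitePresentation (affLift f g) := by
  have : LocallyOfFinitePresentation (affLift f g ≫ 𝔸(σ; T) ↘ T) := by
    rw [affLift_over]; infer_instance
  exact Groth.L20.locallyOfFinitePresentation_of_comp _ (𝔸(σ; T) ↘ T)

theorem flat_affMap (h : T' ⟶ T) [Flat h] : Flat (AffineSpace.map σ h) :=
  MorphismProperty.of_isPullback (AffineSpace.isPullback_map h).flip (inferInstance : Flat h)

theorem isOpenImmersion_affMap (h : T' ⟶ T) [IsOpenImmersion h] :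
    IsOpenImmersion (AffineSpace.map σ h) :=
  MorphismProperty.of_isPullback (AffineSpace.isPullback_map h).flip (inferInstance : IsOpenImmersion h)

/-- Etaleness at a point is stable under base change. -/
theorem mem_etaleSet_baseChange {q : X' ⟶ X} {φ' : X' ⟶ Y'} {φ : X ⟶ Y} {g : Y' ⟶ Y}
    (sq : IsPullback q φ' φ g) {z : X'} (h : q z ∈ etaleSet φ) : z ∈ etaleSet φ' := by
  refine le_etaleSet (V := q ⁻¹ᵁ etaleSet φ) ?_ h
  exact MorphismProperty.of_isPullback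
    ((isPullback_morphismRestrict q (etaleSet φ)).flip.flip.paste_vert sq) (etale_etaleSet φ)

variable {V : U.Opens} (G : V.toScheme ⟶ AffZ σ)

/-- The map to affine space given by a map to the base and coordinates pulled back from `V`. -/
def psi (f : Y ⟶ T) (y : Y ⟶ U) : (y ⁻¹ᵁ V).toScheme ⟶ 𝔸(σ; T) :=
  affLift ((y ⁻¹ᵁ V).ι ≫ f) ((y ∣_ V) ≫ G)

/-- The coordinates are etale at a point. -/
def Good (f : Y ⟶ T) (y : Y ⟶ U) (x : Y) : Prop :=
  ∃ h : x ∈ y ⁻¹ᵁ V, (⟨x, h⟩ : (y ⁻¹ᵁ V).toScheme) ∈ etaleSet (psi G f y)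

theorem restrict_apply (q : Y' ⟶ Y) (O : Y.Opens) (x : Y') (h : x ∈ q ⁻¹ᵁ O) :
    (q ∣_ O) ⟨x, h⟩ = ⟨q x, h⟩ :=
  O.ι.isOpenEmbedding.injective (by
    rw [← Scheme.Hom.comp_apply, morphismRestrict_ι]; rfl)

theorem restrict_psi (q : Y' ⟶ Y) (f : Y ⟶ T) (y : Y ⟶ U) :
    (q ∣_ (y ⁻¹ᵁ V)) ≫ psi G f y = psi G (q ≫ f) (q ≫ y) := by
  unfold psi
  rw [comp_affLift, morphismRestrict_ι_assoc, morphismRestrict_comp, Category.assoc]
  rfl

theorem good_comp (q : Y' ⟶ Y) [Etale q] (f : Y ⟶ T) (y : Y ⟶ U) (x : Y') :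
    Good G f y (q x) ↔ Good G (q ≫ f) (q ≫ y) x := by
  constructor
  · rintro ⟨h, h'⟩
    refine ⟨h, ?_⟩
    rw [← restrict_apply q (y ⁻¹ᵁ V) x h, mem_etaleSet_comp_iff, restrict_psi] at h'
    exact h'
  · rintro ⟨h, h'⟩
    refine ⟨h, ?_⟩
    rw [← restrict_apply q (y ⁻¹ᵁ V) x h, mem_etaleSet_comp_iff, restrict_psi]
    exact h'

theorem isPullback_psi {q : Y' ⟶ Y} {f' : Y' ⟶ T'} {f : Y ⟶ T} {h : T' ⟶ T}
    (sq : IsPullback q f' f h) (y : Y ⟶ U) :
    IsPullback (q ∣_ (y ⁻¹ᵁ V)) (psi G f' (q ≫ y)) (psi G f y) (AffineSpace.map σ h) := by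
  have := isPullback_affLift ((isPullback_morphismRestrict q (y ⁻¹ᵁ V)).paste_vert sq) ((y ∣_ V) ≫ G)
  rw [← Category.assoc] at this
  unfold psi
  rw [morphismRestrict_comp, Category.assoc]
  exact this

theorem good_baseChange {q : Y' ⟶ Y} {f' : Y' ⟶ T'} {f : Y ⟶ T} {h : T' ⟶ T}
    (sq : IsPullback q f' f h) (y : Y ⟶ U) {x : Y'} (hx : Good G f y (q x)) :
    Good G f' (q ≫ y) x := by
  obtain ⟨h, h'⟩ := hx
  refine ⟨h, ?_⟩
  rw [← restrict_apply q (y ⁻¹ᵁ V) x h] at h'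
  exact mem_etaleSet_baseChange (isPullback_psi G sq y) h'

theorem good_of_baseChange [Finite σ] {q : Y' ⟶ Y} {f' : Y' ⟶ T'} {f : Y ⟶ T} {h : T' ⟶ T}
    (sq : IsPullback q f' f h) [Flat h] [LocallyOfFinitePresentation f] (y : Y ⟶ U) {x : Y'}
    (hx : Good G f' (q ≫ y) x) : Good G f y (q x) := by
  obtain ⟨hm, h'⟩ := hx
  refine ⟨hm, ?_⟩
  rw [← restrict_apply q (y ⁻¹ᵁ V) x hm]
  have : Flat (AffineSpace.map σ h) := flat_affMap h
  have : LocallyOfFinitePresentation (psi G f y) := by unfold psi; infer_instance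
  exact mem_etaleSet_of_isPullback (isPullback_psi G sq y) h'

theorem etale_affLift_of_good {U0 : U.Opens} (hle : U0 ≤ V) (f : Y ⟶ T) (y : Y ⟶ U)
    (h : ∀ x, y x ∈ U0 → Good G f y x) :
    Etale (affLift ((y ⁻¹ᵁ U0).ι ≫ f) ((y ∣_ U0) ≫ U.homOfLE hle ≫ G)) := by
  have hle' : y ⁻¹ᵁ U0 ≤ y ⁻¹ᵁ V := fun x hx => hle hx
  have e : Y.homOfLE hle' ≫ psi G f y = affLift ((y ⁻¹ᵁ U0).ι ≫ f) ((y ∣_ U0) ≫ U.homOfLE hle ≫ G) := by
    rw [psi, comp_affLift, Scheme.homOfLE_ι_assoc]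
    congr 1
    rw [← Category.assoc, ← Category.assoc]
    congr 1
    rw [← cancel_mono V.ι]
    simp [morphismRestrict_ι]
  rw [← e]
  refine etale_of_mem_etaleSet _ _ fun w => ?_
  obtain ⟨h1, h2⟩ := h w.1 w.2
  have : Y.homOfLE hle' w = ⟨w.1, h1⟩ := (y ⁻¹ᵁ V).ι.isOpenEmbedding.injective (by
    rw [← Scheme.Hom.comp_apply, Scheme.homOfLE_ι]; rfl)
  rw [this]
  exact h2

end Groth.L24.Boot
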