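import Mathlib.RingTheory.Unramified.LocalStructure
import Mathlib.RingTheory.Flat.Equalizer
import Mathlib.RingTheory.RingHom.Etale
import Mathlib.RingTheory.Ideal.IdempotentFG

/-!
Algebras `C` over `A` with etale projections `C → C ⊗[A] C` are etale over the equalizer of the two
projections.
-/

set_option autoImplicit false

universe u

open TensorProduct Algebra.TensorProduct

namespace Groth.L24.Boot

theorem exists_idem_ker_of_etale {C B Q : Type u} [CommRing C] [CommRing B] [CommRing Q]
    (a : C →+* B) (b : B →+* Q) (ha : a.Etale) (hba : (b.comp a).Etale) (hb : Function.Surjective b) :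
    ∃ e, IsIdempotentElem e ∧ RingHom.ker b = Ideal.span {e} := by
  let : Algebra C B := a.toAlgebra
  let : Algebra C Q := (b.comp a).toAlgebra
  let : Algebra B Q := b.toAlgebra
  have : IsScalarTower C B Q := IsScalarTower.of_algebraMap_eq' rfl
  have : Algebra.Etale C B := ha
  have : Algebra.Etale C Q := hba
  have : Algebra.Etale B Q := Algebra.Etale.of_restrictScalars C B Q
  have hi : IsIdempotentElem (RingHom.ker (algebraMap B Q)) :=
    (Algebra.FormallyEtale.iff_of_surjective hb).1 inferInstance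
  have hfg : (RingHom.ker (algebraMap B Q)).FG :=
    Algebra.FinitePresentation.ker_fG_of_surjective (Algebra.ofId B Q) hb
  exact (Ideal.isIdempotentElem_iff_of_fg _ hfg).1 hi

theorem eq_of_span_eq_span {R : Type u} [CommRing R] {a b : R} (ha : IsIdempotentElem a)
    (hb : IsIdempotentElem b) (h : Ideal.span {a} = Ideal.span {b}) : a = b := by
  obtain ⟨c, hc⟩ := Ideal.mem_span_singleton'.1 (h ▸ Ideal.mem_span_singleton_self a)
  obtain ⟨d, hd⟩ := Ideal.mem_span_singleton'.1 (h.symm ▸ Ideal.mem_span_singleton_self b)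
  calc a = a * b := by rw [← hc, mul_assoc, hb.eq]
    _ = b := by rw [← hd, mul_comm a, mul_assoc, ha.eq]

variable (A C : Type u) [CommRing A] [CommRing C] [Algebra A C]

/-- The equalizer of the two projections `C → C ⊗[A] C`. -/
abbrev amitsur : Subalgebra A C :=
  AlgHom.equalizer (includeLeft : C →ₐ[A] C ⊗[A] C) includeRight

theorem etale_includeRight [h : Algebra.Etale C (C ⊗[A] C)] :
    (includeRight : C →ₐ[A] C ⊗[A] C).toRingHom.Etale := by
  have : (includeRight : C →ₐ[A] C ⊗[A] C).toRingHom =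
      (Algebra.TensorProduct.comm A C C).toAlgHom.toRingHom.comp (algebraMap C (C ⊗[A] C)) := by
    ext c; simp
  rw [this]
  exact RingHom.Etale.stableUnderComposition _ _ (RingHom.etale_algebraMap.2 h)
    (RingHom.Etale.of_bijective (Algebra.TensorProduct.comm A C C).bijective)

theorem formallyUnramified_of_etale [Algebra.Etale C (C ⊗[A] C)] : Algebra.FormallyUnramified A C := by
  obtain ⟨e, he, hker⟩ := exists_idem_ker_of_etale (algebraMap C (C ⊗[A] C))
    (lmul' A (S := C)).toRingHom (RingHom.etale_algebraMap.2 ‹_›)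
    (RingHom.Etale.of_bijective (by
      convert Function.bijective_id using 1
      ext c; simp))
    (fun c => ⟨c ⊗ₜ 1, by simp⟩)
  refine ⟨(Ideal.cotangent_subsingleton_iff _).2 ?_⟩
  change IsIdempotentElem (RingHom.ker (lmul' A (S := C)).toRingHom)
  rw [hker, IsIdempotentElem, Ideal.span_singleton_mul_span_singleton, he.eq]

/-- Near every prime, `C` is etale over the equalizer. -/
theorem exists_etale_away [Algebra.FiniteType A C] [Algebra.Etale C (C ⊗[A] C)]
    (q : Ideal C) [q.IsPrime] :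
    ∃ g ∉ q, ((algebraMap C (Localization.Away g)).comp (amitsur A C).val.toRingHom).Etale := by
  have := formallyUnramified_of_etale A C
  have : Algebra.IsUnramifiedAt A q := inferInstance
  obtain ⟨g, hgq, P, φ, hφ⟩ := Algebra.IsUnramifiedAt.exists_hasStandardEtaleSurjectionOn (R := A) q
  refine ⟨g, hgq, ?_⟩
  let R := P.Ring
  let fI : C →ₐ[A] C ⊗[A] C := includeLeft
  let gI : C →ₐ[A] C ⊗[A] C := includeRight
  let D := amitsur A C
  let loc : C →ₐ[A] Localization.Away g := IsScalarTower.toAlgHom A C _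
  let Q := Localization.Away (g ⊗ₜ[A] (1 : C) : C ⊗[A] C)
  let ιQ : C ⊗[A] C →ₐ[A] Q := IsScalarTower.toAlgHom A (C ⊗[A] C) _
  have hgu : IsUnit (ιQ (g ⊗ₜ[A] (1 : C))) := IsLocalization.Away.algebraMap_isUnit _
  let θ : Localization.Away g →ₐ[A] Q :=
    IsLocalization.Away.liftAlgHom g (f := ιQ.comp fI) hgu
  have hθ : ∀ c, θ (loc c) = ιQ (c ⊗ₜ 1) := fun c => IsLocalization.Away.lift_eq (g := (ιQ.comp fI).toRingHom) g hgu c
  let η : R ⊗[A] C →ₐ[A] Q := productMap (θ.comp φ) (ιQ.comp gI)
  let δ : R ⊗[A] C →ₐ[A] Localization.Away g := productMap φ loc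
  have hμu : IsUnit (((loc).comp (lmul' A (S := C))) (g ⊗ₜ[A] (1 : C))) := by
    simpa [loc] using IsLocalization.Away.algebraMap_isUnit (S := Localization.Away g) g
  let μ : Q →ₐ[A] Localization.Away g :=
    IsLocalization.Away.liftAlgHom (g ⊗ₜ[A] (1 : C)) (f := loc.comp (lmul' A)) hμu
  have hμ : ∀ t, μ (ιQ t) = loc (lmul' A t) := fun t => IsLocalization.Away.lift_eq (g := (loc.comp (lmul' A (S := C))).toRingHom) _ hμu t
  have hμθ : μ.comp θ = AlgHom.id A _ := by
    apply AlgHom.coe_ringHom_injective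
    refine IsLocalization.ringHom_ext (Submonoid.powers g) (RingHom.ext fun c => ?_)
    show μ (θ (loc c)) = loc c
    rw [hθ, hμ]; simp
  have hμη : μ.comp η = δ := by
    refine Algebra.TensorProduct.ext (AlgHom.ext fun x => ?_) (AlgHom.ext fun x => ?_)
    · show μ (η (x ⊗ₜ 1)) = δ (x ⊗ₜ 1)
      simpa [η, δ] using AlgHom.congr_fun hμθ (φ x)
    · show μ (η (1 ⊗ₜ x)) = δ (1 ⊗ₜ x)
      simp [η, δ, gI, hμ]
  -- `η` is surjective
  have hη : Function.Surjective η := by
    have h1 : ∀ c, θ (loc c) ∈ η.range := fun c => by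
      obtain ⟨r, hr⟩ := hφ (loc c)
      exact ⟨r ⊗ₜ 1, by simp [η, hr]⟩
    have h2 : ∀ t, ιQ t ∈ η.range := fun t => by
      induction t with
      | zero => simp
      | add a b ha hb => rw [map_add]; exact add_mem ha hb
      | tmul a b =>
        have : a ⊗ₜ[A] b = (a ⊗ₜ 1) * (1 ⊗ₜ b) := by simp
        rw [this, map_mul, ← hθ]
        exact mul_mem (h1 a) ⟨1 ⊗ₜ b, by simp [η, gI]⟩
    intro z
    obtain ⟨n, t, ht⟩ := IsLocalization.Away.surj (g ⊗ₜ[A] (1 : C)) z
    obtain ⟨r, hr⟩ := hφ (IsLocalization.Away.invSelf g)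
    have h3 : ιQ (g ⊗ₜ[A] (1 : C)) * θ (IsLocalization.Away.invSelf g) = 1 := by
      rw [← hθ, ← map_mul]
      show θ (algebraMap C _ g * IsLocalization.Away.invSelf g) = 1
      rw [IsLocalization.Away.mul_invSelf, map_one]
    have : z = ιQ t * θ (IsLocalization.Away.invSelf g) ^ n := by
      rw [show ιQ t = z * ιQ (g ⊗ₜ[A] (1 : C)) ^ n from ht.symm, mul_assoc, ← mul_pow, h3, one_pow, mul_one]
    show z ∈ η.range
    rw [this]
    have h4 : θ (IsLocalization.Away.invSelf g) ∈ η.range := ⟨r ⊗ₜ 1, by simp [η, hr]⟩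
    exact mul_mem (h2 t) (pow_mem h4 n)
  -- the kernel of `η` comes from `R`
  let J : Ideal (R ⊗[A] C) := (RingHom.ker φ).map (includeLeft : R →ₐ[A] R ⊗[A] C)
  have hJ : RingHom.ker η = J := by
    refine le_antisymm ?_ (Ideal.map_le_iff_le_comap.2 fun r hr => ?_)
    · let mk := Ideal.Quotient.mkₐ A J
      let θ' : Localization.Away g →ₐ[A] _ ⧸ J :=
        φ.liftOfSurjective hφ (mk.comp includeLeft) (fun r hr =>
          Ideal.Quotient.eq_zero_iff_mem.2 (Ideal.mem_map_of_mem _ hr))
      let Λ0 : C ⊗[A] C →ₐ[A] _ ⧸ J := productMap (θ'.comp loc) (mk.comp includeRight)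
      have hΛu : IsUnit (Λ0 (g ⊗ₜ[A] (1 : C))) := by
        have := (IsLocalization.Away.algebraMap_isUnit (S := Localization.Away g) g).map θ'
        simpa [Λ0, loc, ← Algebra.TensorProduct.one_def] using this
      let Λ : Q →ₐ[A] _ ⧸ J := IsLocalization.Away.liftAlgHom (g ⊗ₜ[A] (1 : C)) (f := Λ0) hΛu
      have hΛ : ∀ t, Λ (ιQ t) = Λ0 t := fun t => IsLocalization.Away.lift_eq (g := Λ0.toRingHom) _ hΛu t
      have hΛθ : Λ.comp θ = θ' := by
        apply AlgHom.coe_ringHom_injective
        refine IsLocalization.ringHom_ext (Submonoid.powers g) (RingHom.ext fun c => ?_)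
        show Λ (θ (loc c)) = θ' (loc c)
        rw [hθ, hΛ]; simp [Λ0, ← Algebra.TensorProduct.one_def]
      have hΛη : Λ.comp η = mk := by
        refine Algebra.TensorProduct.ext (AlgHom.ext fun x => ?_) (AlgHom.ext fun x => ?_)
        · show Λ (η (x ⊗ₜ 1)) = mk (x ⊗ₜ 1)
          have := (AlgHom.congr_fun hΛθ (φ x)).trans (AlgHom.liftOfSurjective_apply φ hφ (mk.comp includeLeft) _ x)
          simpa [η, ← Algebra.TensorProduct.one_def] using this
        · show Λ (η (1 ⊗ₜ x)) = mk (1 ⊗ₜ x)
          simp [η, gI, hΛ, Λ0]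
      intro x hx
      apply Ideal.Quotient.eq_zero_iff_mem.1
      show mk x = 0
      rw [← hΛη, AlgHom.comp_apply, RingHom.mem_ker.1 hx, map_zero]
    · show η (r ⊗ₜ 1) = 0
      simp [η, RingHom.mem_ker.1 hr]
  -- so it is generated by an idempotent
  have hR : Algebra.Etale A R := inferInstance
  have hgI := etale_includeRight A C
  obtain ⟨e, he, hK⟩ : ∃ e, IsIdempotentElem e ∧ RingHom.ker η = Ideal.span {e} := by
    refine exists_idem_ker_of_etale (includeRight : C →ₐ[A] R ⊗[A] C).toRingHom η.toRingHom ?_ ?_ hη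
    · rw [show (includeRight : C →ₐ[A] R ⊗[A] C).toRingHom =
        (Algebra.TensorProduct.comm A C R).toAlgHom.toRingHom.comp (algebraMap C (C ⊗[A] R)) by ext c; simp]
      exact RingHom.Etale.stableUnderComposition _ _ (RingHom.etale_algebraMap.2 inferInstance)
        (RingHom.Etale.of_bijective (Algebra.TensorProduct.comm A C R).bijective)
    · rw [show η.toRingHom.comp (includeRight : C →ₐ[A] R ⊗[A] C).toRingHom =
        ιQ.toRingHom.comp gI.toRingHom by ext c; simp [η]]
      exact RingHom.Etale.stableUnderComposition _ _ hgI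
        (RingHom.etale_algebraMap.2 (Algebra.Etale.of_isLocalizationAway (g ⊗ₜ[A] (1 : C))))
  -- which is invariant
  let f' := Algebra.TensorProduct.map (AlgHom.id A R) fI
  let g' := Algebra.TensorProduct.map (AlgHom.id A R) gI
  have hfe : f' e = g' e := by
    refine eq_of_span_eq_span (he.map f') (he.map g') ?_
    have hm : J.map f' = J.map g' := by
      rw [Ideal.map_mapₐ, Ideal.map_mapₐ]
      congr 1
    rw [← hJ, hK, Ideal.map_span, Ideal.map_span] at hm
    simpa using hm
  let ι := Algebra.TensorProduct.map (AlgHom.id A R) D.val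
  have hιi : Function.Injective ι :=
    Module.Flat.lTensor_preserves_injective_linearMap (M := R) D.val.toLinearMap Subtype.val_injective
  have hιeq : ∀ x, f' (ι x) = g' (ι x) := fun x => by
    have := (AlgHom.tensorEqualizerEquiv A R fI gI x).2
    rwa [AlgHom.tensorEqualizerEquiv_apply, AlgHom.mem_equalizer, AlgHom.coe_tensorEqualizer] at this
  obtain ⟨ea, hea⟩ : ∃ x, ι x = 1 - e := by
    obtain ⟨x, hx⟩ := (AlgHom.tensorEqualizerEquiv A R fI gI).surjective
      ⟨1 - e, show f' (1 - e) = g' (1 - e) by rw [map_sub, map_sub, hfe, map_one, map_one]⟩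
    refine ⟨x, ?_⟩
    have := congrArg Subtype.val hx
    rwa [AlgHom.tensorEqualizerEquiv_apply, AlgHom.coe_tensorEqualizer] at this
  let ψ := δ.comp ι
  have hδe : δ e = 0 := by
    have h : e ∈ RingHom.ker η := by rw [hK]; exact Ideal.mem_span_singleton_self e
    rw [← hμη, AlgHom.comp_apply, RingHom.mem_ker.1 h, map_zero]
  have hidem : IsIdempotentElem ea := hιi (by rw [map_mul, hea, he.one_sub.eq])
  have hker : RingHom.ker ψ.toRingHom = Ideal.span {1 - ea} := by
    refine le_antisymm (fun x hx => ?_) ((Ideal.span_singleton_le_iff_mem _).2 ?_)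
    · let Δ : R ⊗[A] (C ⊗[A] C) →ₐ[A] Q := productMap (θ.comp φ) ιQ
      have hΔg : Δ.comp g' = η := by
        refine Algebra.TensorProduct.ext (AlgHom.ext fun y => ?_) (AlgHom.ext fun y => ?_) <;> simp [Δ, η, g', gI, ← Algebra.TensorProduct.one_def]
      have hΔf : Δ.comp f' = θ.comp δ := by
        refine Algebra.TensorProduct.ext (AlgHom.ext fun y => ?_) (AlgHom.ext fun y => ?_) <;> simp [Δ, δ, f', fI, hθ, ← Algebra.TensorProduct.one_def]
      have h0 : ι x ∈ RingHom.ker η := by
        rw [RingHom.mem_ker, ← hΔg, AlgHom.comp_apply, ← hιeq, ← AlgHom.comp_apply, hΔf, AlgHom.comp_apply,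
          show δ (ι x) = 0 from hx, map_zero]
      obtain ⟨b, hb⟩ := Ideal.mem_span_singleton'.1 (hK ▸ h0)
      refine Ideal.mem_span_singleton'.2 ⟨x, hιi ?_⟩
      rw [map_mul, map_sub, map_one, hea, sub_sub_cancel, ← hb, mul_assoc, he.eq]
    · show δ (ι (1 - ea)) = 0
      rw [map_sub, map_one, hea, sub_sub_cancel, hδe]
  have hψs : Function.Surjective ψ := fun z => by
    obtain ⟨r, rfl⟩ := hφ z
    exact ⟨r ⊗ₜ 1, by simp [ψ, δ, ι]⟩
  have hψ : ψ.toRingHom.Etale := by
    let := ψ.toRingHom.toAlgebra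
    have := IsLocalization.away_of_isIdempotentElem (S := Localization.Away g) hidem hker hψs
    exact Algebra.Etale.of_isLocalizationAway ea
  have hD : (includeRight : D →ₐ[A] R ⊗[A] D).toRingHom.Etale := by
    rw [show (includeRight : D →ₐ[A] R ⊗[A] D).toRingHom =
      (Algebra.TensorProduct.comm A D R).toAlgHom.toRingHom.comp (algebraMap D (D ⊗[A] R)) by ext c; simp]
    exact RingHom.Etale.stableUnderComposition _ _ (RingHom.etale_algebraMap.2 inferInstance)
      (RingHom.Etale.of_bijective (Algebra.TensorProduct.comm A D R).bijective)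
  rw [show (algebraMap C (Localization.Away g)).comp D.val.toRingHom =
    ψ.toRingHom.comp (includeRight : D →ₐ[A] R ⊗[A] D).toRingHom by ext c; simp [ψ, δ, ι, loc]]
  exact RingHom.Etale.stableUnderComposition _ _ hD hψ

/-- `C` is etale over the equalizer of its two projections. -/
theorem etale_amitsur [Algebra.FiniteType A C] [Algebra.Etale C (C ⊗[A] C)] :
    (amitsur A C).val.toRingHom.Etale := by
  refine RingHom.Etale.ofLocalizationSpanTarget _
    {g : C | ((algebraMap C (Localization.Away g)).comp (amitsur A C).val.toRingHom).Etale} ?_ (fun g => g.2)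
  by_contra h
  obtain ⟨m, hm, hle⟩ := Ideal.exists_le_maximal _ h
  obtain ⟨g, hg, hg'⟩ := exists_etale_away A C m
  exact hg (hle (Ideal.subset_span hg'))

theorem includeLeft_eq_includeRight (c : amitsur A C) :
    (c : C) ⊗ₜ[A] (1 : C) = (1 : C) ⊗ₜ[A] (c : C) := c.2

end Groth.L24.Boot
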