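import Groth.Agent.L24.Boot.QuotRep
import Groth.Agent.L24.Boot.SmoothSection
import Groth.Agent.L23.Cover
import Groth.Agent.L23.LocP
import Groth.Agent.L23.Compact
import Groth.Prelude.Def_AlgSpRep
import Groth.Prelude.Def_BigSite

/-!
An etale sheaf with a smooth surjective chart by a scheme is an algebraic space.
-/

set_option autoImplicit false
set_option backward.isDefEq.respectTransparency.types false

universe u

open CategoryTheory CategoryTheory.Limits AlgebraicGeometry Opposite AlgSp

noncomputable section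

namespace Groth.L24.Boot

variable {S : Scheme.{u}}

/-- The big etale topology. -/
abbrev JE (S : Scheme.{u}) : GrothendieckTopology (Over S) := QuotSh.J Scheme.etalePrecoverage S

theorem generate_etale_mem {T' T : Over S} (g : T' ⟶ T) [Etale g.left] [Surjective g.left] :
    Sieve.generate (Presieve.singleton g) ∈ JE S T := by
  rw [GrothendieckTopology.mem_over_iff, Sieve.overEquiv_generate]
  refine GrothendieckTopology.superset_covering _ ?_
    (Precoverage.generate_mem_toGrothendieck
      ((Scheme.singleton_mem_precoverage_iff (P := @Etale) g.left).2 ⟨g.left.surjective, inferInstance⟩))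
  apply Sieve.generate_mono
  rintro W v ⟨⟩
  exact ⟨_, g, 𝟙 _, Presieve.singleton_self g, by simp⟩

theorem isSheaf_etale_of_fppf {F : PSp S} (h : Presheaf.IsSheaf (J S) F) : Presheaf.IsSheaf (JE S) F :=
  Presheaf.IsSheaf.of_le (BigSite.J_mono BigSite.etalePrecoverage_le_fppfPrecoverage S) h

/-- A smooth surjective morphism has a section over an etale surjective morphism. -/
theorem exists_etale_refinement {W T : Over S} (g : W ⟶ T) [Smooth g.left] [Surjective g.left] :
    ∃ (T' : Over S) (e : T' ⟶ T) (h : T' ⟶ W), Etale e.left ∧ Surjective e.left ∧ h ≫ g = e := by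
  have H : ∀ t : T.left, ∃ (S' : Scheme.{u}) (e : S' ⟶ T.left) (s' : S') (h : S' ⟶ W.left),
      Etale e ∧ e s' = t ∧ h ≫ g.left = e := fun t => by
    obtain ⟨w, rfl⟩ := g.left.surjective t
    exact exists_etale_nhd_section g.left w
  choose S' e s' h he hs hh using H
  let d : (∐ S') ⟶ T.left := Sigma.desc e
  refine ⟨Over.mk (d ≫ T.hom), Over.homMk d rfl, Over.homMk (Sigma.desc h) ?_, ?_, ⟨fun t => ?_⟩, ?_⟩
  · apply Sigma.hom_ext
    intro t
    simp only [d, Over.mk_hom, Sigma.ι_desc_assoc]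
    rw [← Over.w g, ← Category.assoc, hh]
  · refine IsZariskiLocalAtSource.of_openCover (P := @Etale) (sigmaOpenCover S') fun t => ?_
    change Etale (Sigma.ι S' t ≫ d)
    rw [Sigma.ι_desc]; exact he t
  · refine ⟨Sigma.ι S' t (s' t), ?_⟩
    show d _ = t
    rw [← Scheme.Hom.comp_apply, Sigma.ι_desc]; exact hs t
  · apply Over.OverMorphism.ext
    apply Sigma.hom_ext
    intro t
    simp [d, hh]

/-- Lifting after a smooth surjective morphism of test schemes gives local surjectivity for the etale topology. -/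
theorem isLocallySurjective_etale {F G : PSp S} (a : F ⟶ G)
    (h : ∀ (T : Over S) (x : (pyon S).obj T ⟶ G), ∃ (W : Over S) (g : W ⟶ T) (y : (pyon S).obj W ⟶ F),
      Smooth g.left ∧ Surjective g.left ∧ y ≫ a = (pyon S).map g ≫ x) :
    Presheaf.IsLocallySurjective (JE S) a where
  imageSieve_mem {T} x := by
    obtain ⟨W, g, y, hg, hg', hy⟩ := h T (uliftYonedaEquiv.{u + 1}.symm x)
    obtain ⟨T', e, k, he, he', hk⟩ := exists_etale_refinement g
    refine GrothendieckTopology.superset_covering _ ?_ (generate_etale_mem e)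
    rw [Sieve.generate_le_iff]
    rintro Z v ⟨⟩
    refine ⟨uliftYonedaEquiv.{u + 1} ((pyon S).map k ≫ y), ?_⟩
    change a.app _ _ = G.map e.op x
    rw [← uliftYonedaEquiv_comp, Category.assoc, hy, ← Functor.map_comp_assoc, hk]
    conv_rhs => rw [← uliftYonedaEquiv.{u + 1}.apply_symm_apply x]
    exact (uliftYonedaEquiv_naturality (uliftYonedaEquiv.{u + 1}.symm x) e.op).symm

/-- Two locally surjective images of one presheaf with the same relation are isomorphic. -/
theorem nonempty_iso_of_locallySurjective {P G₁ G₂ : PSp S} (hP : Presheaf.IsSheaf (JE S) P)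
    (h₁ : Presheaf.IsSheaf (JE S) G₁) (h₂ : Presheaf.IsSheaf (JE S) G₂) (a : P ⟶ G₁) (b : P ⟶ G₂)
    [Presheaf.IsLocallySurjective (JE S) a] [Presheaf.IsLocallySurjective (JE S) b]
    (hab : ∀ (T : Over S) (x y : (pyon S).obj T ⟶ P), x ≫ a = y ≫ a ↔ x ≫ b = y ≫ b) :
    Nonempty (G₁ ≅ G₂) := by
  let P' : Sheaf (JE S) (Type (u + 1)) := ⟨P, hP⟩
  let G₁' : Sheaf (JE S) (Type (u + 1)) := ⟨G₁, h₁⟩
  let G₂' : Sheaf (JE S) (Type (u + 1)) := ⟨G₂, h₂⟩
  let a' : P' ⟶ G₁' := ObjectProperty.homMk a
  let b' : P' ⟶ G₂' := ObjectProperty.homMk b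
  have : Sheaf.IsLocallySurjective a' := (inferInstance : Presheaf.IsLocallySurjective (JE S) a)
  have : Sheaf.IsLocallySurjective b' := (inferInstance : Presheaf.IsLocallySurjective (JE S) b)
  have : Epi a' := (Sheaf.isLocallySurjective_iff_epi a').1 inferInstance
  have : Epi b' := (Sheaf.isLocallySurjective_iff_epi b').1 inferInstance
  have : EffectiveEpi a' := by
    have := IsRegularEpiCategory.regularEpiOfEpi a'
    infer_instance
  have : EffectiveEpi b' := by
    have := IsRegularEpiCategory.regularEpiOfEpi b'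
    infer_instance
  have key : ∀ {Z : Sheaf (JE S) (Type (u + 1))} (g₁ g₂ : Z ⟶ P'),
      g₁ ≫ a' = g₂ ≫ a' ↔ g₁ ≫ b' = g₂ ≫ b' := fun g₁ g₂ => by
    constructor
    · intro e
      apply Sheaf.hom_ext
      refine hom_ext_uliftYoneda.{u + 1} fun T z => ?_
      show z ≫ g₁.hom ≫ b = z ≫ g₂.hom ≫ b
      rw [← Category.assoc, ← Category.assoc, ← hab, Category.assoc, Category.assoc]
      exact congrArg (fun f => z ≫ f.hom) e
    · intro e
      apply Sheaf.hom_ext
      refine hom_ext_uliftYoneda.{u + 1} fun T z => ?_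
      show z ≫ g₁.hom ≫ a = z ≫ g₂.hom ≫ a
      rw [← Category.assoc, ← Category.assoc, hab, Category.assoc, Category.assoc]
      exact congrArg (fun f => z ≫ f.hom) e
  let i : G₁' ⟶ G₂' := EffectiveEpi.desc a' b' fun g₁ g₂ e => (key g₁ g₂).1 e
  let j : G₂' ⟶ G₁' := EffectiveEpi.desc b' a' fun g₁ g₂ e => (key g₁ g₂).2 e
  have hij : i ≫ j = 𝟙 _ := by
    rw [← cancel_epi a', ← Category.assoc, EffectiveEpi.fac, EffectiveEpi.fac, Category.comp_id]
  have hji : j ≫ i = 𝟙 _ := by
    rw [← cancel_epi b', ← Category.assoc, EffectiveEpi.fac, EffectiveEpi.fac, Category.comp_id]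
  exact ⟨⟨i.hom, j.hom, congrArg (fun f => f.hom) hij, congrArg (fun f => f.hom) hji⟩⟩

set_option maxHeartbeats 800000 in
/-- An etale sheaf with a chart by a scheme, having smooth-local lifts, whose relation is a smooth algebraic
space, is an algebraic space. -/
theorem isAlgSpaceP_of_smooth_chart {F : PSp S} (hF : Presheaf.IsSheaf (JE S) F) {V : Over S}
    (p : (pyon S).obj V ⟶ F)
    (hp : ∀ (T : Over S) (x : (pyon S).obj T ⟶ F), ∃ (W : Over S) (g : W ⟶ T) (y : (pyon S).obj W ⟶ (pyon S).obj V),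
      Smooth g.left ∧ Surjective g.left ∧ y ≫ p = (pyon S).map g ≫ x)
    {R : Sp S} (hR : IsAlgSpace R) (t s : R ⟶ (yon S).obj V)
    (sq : IsPullback t.hom s.hom p p) (ht : LocP @Smooth t) : IsAlgSpaceP F := by
  have hrel : ∀ (T : Over S) (a b : (yon S).obj T ⟶ (yon S).obj V),
      (∃ r : (yon S).obj T ⟶ R, r ≫ t = a ∧ r ≫ s = b) ↔ a.hom ≫ p = b.hom ≫ p := fun T a b => by
    constructor
    · rintro ⟨r, rfl, rfl⟩
      show (r.hom ≫ t.hom) ≫ p = (r.hom ≫ s.hom) ≫ p
      rw [Category.assoc, Category.assoc, sq.w]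
    · intro e
      exact ⟨ObjectProperty.homMk (sq.lift a.hom b.hom e), Sheaf.hom_ext (sq.lift_fst _ _ _),
        Sheaf.hom_ext (sq.lift_snd _ _ _)⟩
  have h : IsEqvRelSp s t := by
    refine ⟨fun T r r' h₁ h₂ => Sheaf.hom_ext (sq.hom_ext (congrArg (fun f => f.hom) h₁)
      (congrArg (fun f => f.hom) h₂)), fun T => ⟨fun a => (hrel T a a).2 rfl, fun {a b} e => ?_,
      fun {a b c} e e' => ?_⟩⟩
    · exact (hrel T b a).2 ((hrel T a b).1 e).symm
    · exact (hrel T a c).2 (((hrel T a b).1 e).trans ((hrel T b c).1 e'))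
  let π := quotSpπ s t
  have sqQ : IsPullback t s π π := isPullback_quotSpπ h
  have hV := IsAlgSpace.yon_obj V
  have hQ : IsAlgSpace (quotSp s t) := isAlgSpace_of_kernelPair sqQ hR hV
    (Groth.L23.locP_mono (fun φ (hφ : Smooth φ) => by infer_instance) ht)
    (Groth.L23.locP_mono (fun φ (hφ : Smooth φ) => by infer_instance) ht)
  have hπ : Representable π := hQ.representable_from_yon π
  have : Sheaf.IsLocallySurjective π := (Sheaf.isLocallySurjective_iff_epi' _ π).2 inferInstance
  -- the relation of the quotient is the scheme pullback of `π` along itself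
  have sq' := hπ.isPullback π
  let e := sq'.isoIsPullback _ _ sqQ.flip
  have het : e.hom ≫ t = (yon S).map (hπ.snd π) := sq'.isoIsPullback_hom_snd _ _ sqQ.flip
  have hsm : Smooth (hπ.snd π).left :=
    ht e.hom (𝟙 _) (hπ.snd π) (Groth.L23.repWith_of_isIso _) (Groth.L23.repWith_of_isIso _)
      (by rw [het, Category.comp_id])
  have := Groth.L23.etLocal_smooth.{u}.target
  have hπs : RepWith @Smooth π := (Groth.L23.repWith_iff_of_chart hπ sq').2 hsm
  have hlift : ∀ (T : Over S) (x : (pyon S).obj T ⟶ (quotSp s t).obj),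
      ∃ (W : Over S) (g : W ⟶ T) (y : (pyon S).obj W ⟶ (pyon S).obj V),
        Smooth g.left ∧ Surjective g.left ∧ y ≫ π.hom = (pyon S).map g ≫ x := fun T x => by
    let ξ : (yon S).obj T ⟶ quotSp s t := ObjectProperty.homMk x
    obtain ⟨T', g, u, -, -, hgs, hu⟩ := exists_lift_of_epi π ξ
    obtain ⟨k, hk⟩ := (yon S).map_surjective ((hπ.isPullback ξ).lift u ((yon S).map g) hu)
    have hk' : k ≫ hπ.snd ξ = g := (yon S).map_injective (by
      rw [Functor.map_comp, hk]; exact (hπ.isPullback ξ).lift_snd _ _ _)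
    refine ⟨_, hπ.snd ξ, (hπ.fst ξ).hom, Groth.L23.repWith_prop hπs (hπ.isPullback ξ), ?_,
      congrArg (fun f => f.hom) (hπ.isPullback ξ).w⟩
    have : Surjective (k.left ≫ (hπ.snd ξ).left) := by rw [← Over.comp_left, hk']; exact hgs
    exact Surjective.of_comp k.left _
  obtain ⟨i⟩ := @nonempty_iso_of_locallySurjective S ((pyon S).obj V) _ _ (isSheaf_etale_of_fppf ((yon S).obj V).property)
    (isSheaf_etale_of_fppf (quotSp s t).property) hF π.hom p (isLocallySurjective_etale π.hom hlift) (isLocallySurjective_etale p hp) fun T x y => by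
      let a : (yon S).obj T ⟶ (yon S).obj V := ObjectProperty.homMk x
      let b : (yon S).obj T ⟶ (yon S).obj V := ObjectProperty.homMk y
      refine ⟨fun e => (hrel T a b).1 ?_, fun e => ?_⟩
      · exact ⟨sqQ.lift a b (Sheaf.hom_ext e), sqQ.lift_fst _ _ _, sqQ.lift_snd _ _ _⟩
      · obtain ⟨r, hr, hr'⟩ := (hrel T a b).2 e
        have : a ≫ π = b ≫ π := by rw [← hr, ← hr', Category.assoc, Category.assoc, sqQ.w]
        exact congrArg (fun f => f.hom) this
  exact ((isAlgSpaceP_obj_iff _).2 hQ).of_iso i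

end Groth.L24.Boot
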