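import Groth.Agent.L20.FibreScheme
import Groth.Agent.L23.QFDescent
import Mathlib.AlgebraicGeometry.ZariskisMainTheorem
import Mathlib.AlgebraicGeometry.Morphisms.UniversallyOpen
import Mathlib.AlgebraicGeometry.Morphisms.Etale

/-!
Points at which a morphism is flat and quasi-finite, and their behaviour under base change.
-/

set_option autoImplicit false
set_option backward.isDefEq.respectTransparency false
set_option backward.isDefEq.respectTransparency.types false

universe u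

open CategoryTheory CategoryTheory.Limits AlgebraicGeometry

noncomputable section

namespace Groth.L24.Boot

variable {X Y X' Y' T T' : Scheme.{u}}

/-- The morphism is flat and quasi-finite at the point. -/
def FQ (φ : X ⟶ Y) (x : X) : Prop := (φ.stalkMap x).hom.Flat ∧ φ.QuasiFiniteAt x

/-- The locus of flat quasi-finite points. -/
def fqSet (φ : X ⟶ Y) [LocallyOfFinitePresentation φ] : X.Opens :=
  ⟨{x | FQ φ x}, (Groth.L20.isOpen_flat_stalkMap φ).inter φ.isOpen_quasiFiniteAt⟩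

theorem mem_fqSet {φ : X ⟶ Y} [LocallyOfFinitePresentation φ] {x : X} : x ∈ fqSet φ ↔ FQ φ x := Iff.rfl

theorem fq_of_flat_lqf (φ : X ⟶ Y) [Flat φ] [LocallyQuasiFinite φ] (x : X) : FQ φ x :=
  ⟨Flat.stalkMap φ x, φ.quasiFiniteAt x⟩

theorem flat_lqf_of_forall_fq (φ : X ⟶ Y) [LocallyOfFiniteType φ] (h : ∀ x, FQ φ x) :
    Flat φ ∧ LocallyQuasiFinite φ :=
  ⟨Flat.iff_flat_stalkMap φ |>.2 fun x => (h x).1,
    φ.quasiFiniteLocus_eq_top_iff.1 (top_le_iff.1 fun x _ => (h x).2)⟩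

theorem quasiFiniteAt_of_isOpen_point (φ : X ⟶ Y) [LocallyOfFiniteType φ] {y : Y} (p : φ.fiber y)
    (hp : IsOpen {p}) : φ.QuasiFiniteAt (φ.fiberι y p) := by
  obtain ⟨x, hx⟩ : ∃ x, x = φ.fiberι y p := ⟨_, rfl⟩
  rw [← hx]
  obtain rfl : φ x = y := (φ.range_fiberι y).le ⟨p, hx.symm⟩
  rw [Scheme.Hom.quasiFiniteAt_iff_isOpen_singleton_asFiber]
  have : φ.asFiber x = p := (φ.fiberι _).isEmbedding.injective ((φ.fiberι_asFiber x).trans hx)
  rw [this]
  exact hp

theorem flat_of_flat_fiberMap_point (f : X ⟶ Y) (g : Y ⟶ T) [LocallyOfFinitePresentation (f ≫ g)]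
    [LocallyOfFiniteType g] {t : T} (p : (f ≫ g).fiber t)
    (h₁ : ((f ≫ g).stalkMap ((f ≫ g).fiberι t p)).hom.Flat)
    (h₂ : ((MoreMor.fiberMap f g t).stalkMap p).hom.Flat) :
    (f.stalkMap ((f ≫ g).fiberι t p)).hom.Flat := by
  obtain ⟨x, hx⟩ : ∃ x, x = (f ≫ g).fiberι t p := ⟨_, rfl⟩
  rw [← hx] at h₁ ⊢
  obtain rfl : g (f x) = t := ((f ≫ g).range_fiberι t).le ⟨p, hx.symm⟩
  refine Groth.L20.flat_stalkMap_of_fiberMap f g _ h₁ ?_
  have : (f ≫ g).asFiber x = p :=
    ((f ≫ g).fiberι _).isEmbedding.injective (((f ≫ g).fiberι_asFiber x).trans hx)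
  rw [this]
  exact h₂

theorem quasiFiniteAt_comp_etale (q : X' ⟶ X) [Etale q] (φ : X ⟶ Y) [LocallyOfFiniteType φ] (z : X') :
    φ.QuasiFiniteAt (q z) ↔ (q ≫ φ).QuasiFiniteAt z := by
  constructor
  · intro h
    have : LocallyQuasiFinite q := Groth.L23.locallyQuasiFinite_of_unramified q
    show RingHom.QuasiFinite ((q ≫ φ).stalkMap z).hom
    rw [Scheme.Hom.stalkMap_comp, CommRingCat.hom_comp]
    exact (q.quasiFiniteAt z).comp h
  · intro h
    rw [Scheme.Hom.quasiFiniteAt_iff_isOpen_singleton_asFiber] at h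
    let y := (q ≫ φ) z
    let m := MoreMor.fiberMap q φ y
    have hm : IsPullback ((q ≫ φ).fiberι y) m q (φ.fiberι y) := by
      refine IsPullback.of_bot (v₂₁ := φ.fiberToSpecResidueField y) (v₂₂ := φ) (h₃₁ := Y.fromSpecResidueField y) ?_
        (pullback.lift_fst _ _ _).symm (IsPullback.of_hasPullback φ (Y.fromSpecResidueField y))
      rw [show m ≫ φ.fiberToSpecResidueField y = (q ≫ φ).fiberToSpecResidueField y from pullback.lift_snd _ _ _]
      exact IsPullback.of_hasPullback (q ≫ φ) (Y.fromSpecResidueField y)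
    have : Etale m := MorphismProperty.of_isPullback hm ‹_›
    have ho : IsOpen {m ((q ≫ φ).asFiber z)} := by
      rw [← Set.image_singleton]
      exact m.isOpenMap _ h
    have e : φ.fiberι y (m ((q ≫ φ).asFiber z)) = q z := by
      rw [← Scheme.Hom.comp_apply, ← hm.w, Scheme.Hom.comp_apply, Scheme.Hom.fiberι_asFiber]
    rw [← e]
    exact quasiFiniteAt_of_isOpen_point φ _ ho

theorem fq_comp_etale (q : X' ⟶ X) [Etale q] (φ : X ⟶ Y) [LocallyOfFiniteType φ] (z : X') :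
    FQ φ (q z) ↔ FQ (q ≫ φ) z := by
  refine and_congr ⟨fun h => ?_, fun h => ?_⟩ (quasiFiniteAt_comp_etale q φ z)
  · rw [Scheme.Hom.stalkMap_comp, CommRingCat.hom_comp]
    exact RingHom.Flat.comp h (Flat.stalkMap q z)
  · exact Groth.L20.flat_stalkMap_of_comp q φ z h (Flat.stalkMap q z)

theorem fq_baseChange {q : X' ⟶ X} {φ' : X' ⟶ Y'} {φ : X ⟶ Y} {g : Y' ⟶ Y}
    (sq : IsPullback q φ' φ g) [LocallyOfFinitePresentation φ] {z : X'} (h : FQ φ (q z)) : FQ φ' z := by
  let O := fqSet φ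
  obtain ⟨hf, hq⟩ : Flat (O.ι ≫ φ) ∧ LocallyQuasiFinite (O.ι ≫ φ) := flat_lqf_of_forall_fq _ fun x =>
    (fq_comp_etale O.ι φ x).1 x.2
  have sq' := (isPullback_morphismRestrict q O).flip.flip.paste_vert sq
  have : Flat ((q ⁻¹ᵁ O).ι ≫ φ') := MorphismProperty.of_isPullback sq' hf
  have : LocallyQuasiFinite ((q ⁻¹ᵁ O).ι ≫ φ') := MorphismProperty.of_isPullback sq' hq
  have : LocallyOfFiniteType φ' := MorphismProperty.of_isPullback sq (inferInstance : LocallyOfFiniteType φ)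
  exact (fq_comp_etale (q ⁻¹ᵁ O).ι φ' ⟨z, h⟩).2 (fq_of_flat_lqf _ _)

theorem quasiFiniteAt_descend {q : X' ⟶ X} {φ' : X' ⟶ Y'} {φ : X ⟶ Y} {g : Y' ⟶ Y}
    (sq : IsPullback q φ' φ g) [LocallyOfFiniteType φ] {z : X'} (h : φ'.QuasiFiniteAt z) :
    φ.QuasiFiniteAt (q z) := by
  have : LocallyOfFiniteType φ' := MorphismProperty.of_isPullback sq (inferInstance : LocallyOfFiniteType φ)
  rw [Scheme.Hom.quasiFiniteAt_iff_isOpen_singleton_asFiber] at h
  have sqΦ := isPullback_fiberToSpecResidueField_of_isPullback sq (φ' z)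
  let Φ := pullback.map φ' (Y'.fromSpecResidueField (φ' z)) φ (Y.fromSpecResidueField (g (φ' z))) q
    (Spec.map (g.residueFieldMap (φ' z))) g sq.w.symm (by simp)
  have : UniversallyOpen Φ :=
    MorphismProperty.of_isPullback sqΦ.flip (inferInstance : UniversallyOpen (Spec.map (g.residueFieldMap (φ' z))))
  have ho : IsOpen {Φ (φ'.asFiber z)} := by
    rw [← Set.image_singleton]
    exact Φ.isOpenMap _ h
  have e : φ.fiberι _ (Φ (φ'.asFiber z)) = q z := by
    show (Φ ≫ pullback.fst _ _) (φ'.asFiber z) = _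
    rw [pullback.lift_fst, Scheme.Hom.comp_apply]
    exact congrArg q (φ'.fiberι_asFiber z)
  rw [← e]
  exact quasiFiniteAt_of_isOpen_point φ _ ho

/-- Flatness and quasi-finiteness of a map of flat families descend along any base change. -/
theorem fq_descend {q : X' ⟶ X} {φ' : X' ⟶ Y'} {φ : X ⟶ Y} {g : Y' ⟶ Y}
    (sq : IsPullback q φ' φ g) {π : Y ⟶ T} {π' : Y' ⟶ T'} {h : T' ⟶ T} (sqY : IsPullback g π' π h)
    [LocallyOfFiniteType π] [Flat (φ ≫ π)] [LocallyOfFinitePresentation (φ ≫ π)]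
    [LocallyOfFiniteType φ] {z : X'} (hz : FQ φ' z) : FQ φ (q z) := by
  refine ⟨?_, quasiFiniteAt_descend sq hz.2⟩
  let t' : T' := π' (φ' z)
  have sqX := sq.paste_vert sqY
  have sΦX := isPullback_fiberToSpecResidueField_of_isPullback sqX t'
  have sΦA := isPullback_fiberToSpecResidueField_of_isPullback sqY t'
  let ΦX := pullback.map (φ' ≫ π') (T'.fromSpecResidueField t') (φ ≫ π) (T.fromSpecResidueField (h t')) q
    (Spec.map (h.residueFieldMap t')) h sqX.w.symm (by simp)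
  let ΦA := pullback.map π' (T'.fromSpecResidueField t') π (T.fromSpecResidueField (h t')) g
    (Spec.map (h.residueFieldMap t')) h sqY.w.symm (by simp)
  have hk : Flat (Spec.map (h.residueFieldMap t')) := by
    rw [Flat.SpecMap_iff]
    let := (h.residueFieldMap t').hom.toAlgebra
    exact (inferInstance : Module.Flat (T.residueField (h t')) (T'.residueField t'))
  have : Flat ΦX := MorphismProperty.of_isPullback sΦX.flip hk
  have : Flat ΦA := MorphismProperty.of_isPullback sΦA.flip hk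
  have hc : MoreMor.fiberMap φ' π' t' ≫ ΦA = ΦX ≫ MoreMor.fiberMap φ π (h t') := by
    apply pullback.hom_ext <;>
      simp [MoreMor.fiberMap, ΦX, ΦA, Scheme.Hom.fiberι, Scheme.Hom.fiberToSpecResidueField, sq.w]
  let p := (φ' ≫ π').asFiber z
  have h1 := Groth.L20.flat_stalkMap_fiberMap_of_flat φ' π' z hz.1
  have h2 : ((MoreMor.fiberMap φ' π' t' ≫ ΦA).stalkMap p).hom.Flat := by
    rw [Scheme.Hom.stalkMap_comp, CommRingCat.hom_comp]
    exact RingHom.Flat.comp (Flat.stalkMap ΦA _) h1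
  rw [hc] at h2
  have h3 := Groth.L20.flat_stalkMap_of_comp ΦX _ p h2 (Flat.stalkMap ΦX p)
  have e : (φ ≫ π).fiberι (h t') (ΦX p) = q z := by
    show (ΦX ≫ pullback.fst _ _) p = _
    rw [pullback.lift_fst, Scheme.Hom.comp_apply]
    exact congrArg q ((φ' ≫ π').fiberι_asFiber z)
  rw [← e]
  exact flat_of_flat_fiberMap_point φ π (ΦX p) (Flat.stalkMap (φ ≫ π) _) h3

end Groth.L24.Boot
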