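import Groth.Agent.L24.Boot.SliceCoords
import Mathlib.RingTheory.QuasiFinite.Basic
import Mathlib.RingTheory.AlgebraicIndependent.AlgebraicClosure
import Mathlib.RingTheory.Finiteness.NilpotentKer
import Mathlib.RingTheory.Unramified.Field
import Mathlib.FieldTheory.FinTrdeg

/-!
Generic points of unramified families have coordinates that are flat and quasi-finite.
-/

set_option autoImplicit false

universe u

open TensorProduct

noncomputable section

namespace Groth.L24.Boot

variable {k B C : Type u} [Field k] [CommRing B] [CommRing C] [Algebra k C]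

/-- A field unramified over a subfield generated by `β` has a finite transcendence basis in the image of `β`. -/
theorem exists_basis_of_formallyUnramified {L : Type u} [Field L] [Algebra k L] [Algebra.EssFiniteType k L]
    (β : B →+* L) (h : (pairMap (A := k) β).toRingHom.FormallyUnramified) :
    ∃ (d : ℕ) (b : ULift.{u} (Fin d) → B), IsTranscendenceBasis k (β ∘ b) := by
  let K0 := IntermediateField.adjoin k (Set.range β)
  let β0 : B →+* K0 :=
    β.codRestrict K0 fun b => IntermediateField.subset_adjoin k _ ⟨b, rfl⟩
  have e : (pairMap (A := k) β).toRingHom = (algebraMap K0 L).comp (pairMap (A := k) β0).toRingHom := by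
    refine RingHom.ext fun x => ?_
    induction x with
    | zero => simp
    | tmul a b => simp [pairMap, β0]
    | add a b ha hb => simp only [map_add, ha, hb]
  have hK : Algebra.FormallyUnramified K0 L := by
    rw [e] at h
    algebraize [(pairMap (A := k) β0).toRingHom, (algebraMap K0 L).comp (pairMap (A := k) β0).toRingHom]
    have : IsScalarTower (k ⊗[ℤ] B) K0 L := IsScalarTower.of_algebraMap_eq fun _ => rfl
    exact Algebra.FormallyUnramified.of_restrictScalars (k ⊗[ℤ] B) K0 L
  have : Algebra.EssFiniteType K0 L := Algebra.EssFiniteType.of_comp k K0 L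
  have : Algebra.IsSeparable K0 L := Algebra.FormallyUnramified.isSeparable K0 L
  have halg : Algebra.IsAlgebraic (Algebra.adjoin k (Set.range β)) L :=
    IntermediateField.isAlgebraic_adjoin_iff_top.1 (inferInstance : Algebra.IsAlgebraic K0 L)
  obtain ⟨s, hs, hb⟩ := exists_isTranscendenceBasis_subset (R := k) (Set.range β)
  have hfin : s.Finite := Cardinal.lt_aleph0_iff_set_finite.1
    (hb.cardinalMk_eq_trdeg.trans_lt (finTrdeg_iff_trdeg.1 inferInstance))
  have := hfin.fintype
  let e' := (Fintype.equivFin s).trans Equiv.ulift.{u, 0}.symm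
  have hs' : ∀ i, ∃ b, β b = (e'.symm i : L) := fun i => hs (e'.symm i).2
  choose b hb' using hs'
  refine ⟨_, b, ?_⟩
  rw [show β ∘ b = (fun x : s => (x : L)) ∘ e'.symm from funext hb']
  exact hb.comp_equiv e'.symm

/-- Coordinates from `β` make an algebra unramified over `k ⊗ B` flat and quasi-finite at a minimal prime. -/
theorem exists_fqCoords [Algebra.FiniteType k C] [Nontrivial C] (β : B →+* C)
    (h : (pairMap (A := k) β).toRingHom.FormallyUnramified) :
    ∃ (P : Ideal C) (_ : P.IsPrime) (d : ℕ) (b : ULift.{u} (Fin d) → B),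
      letI := (MvPolynomial.aeval (R := k) (β ∘ b)).toRingHom.toAlgebra
      Module.Flat (MvPolynomial (ULift.{u} (Fin d)) k) (Localization.AtPrime P) ∧
        Algebra.QuasiFinite (MvPolynomial (ULift.{u} (Fin d)) k) (Localization.AtPrime P) := by
  obtain ⟨M, hM⟩ := Ideal.exists_maximal C
  obtain ⟨P, hP, -⟩ := Ideal.exists_minimalPrimes_le (bot_le : ⊥ ≤ M)
  have hPp : P.IsPrime := Ideal.IsMinimalPrime.isPrime hP
  have : IsNoetherianRing C := Algebra.FiniteType.isNoetherianRing k C
  let Cp := Localization.AtPrime P
  have : Algebra.EssFiniteType C Cp := Algebra.EssFiniteType.of_isLocalization Cp P.primeCompl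
  have : Algebra.EssFiniteType k Cp := Algebra.EssFiniteType.comp k C Cp
  let L := IsLocalRing.ResidueField Cp
  let res : Cp →ₐ[k] L := IsScalarTower.toAlgHom k Cp L
  have hres : Function.Surjective res := IsLocalRing.residue_surjective
  have : Algebra.FiniteType Cp L := Algebra.FiniteType.of_surjective (Algebra.ofId Cp L) hres
  have : Algebra.EssFiniteType k L := Algebra.EssFiniteType.comp k Cp L
  let q : C →ₐ[k] L := res.comp (IsScalarTower.toAlgHom k C Cp)
  have hq : (pairMap (A := k) (q.toRingHom.comp β)).toRingHom.FormallyUnramified := by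
    have e : (pairMap (A := k) (q.toRingHom.comp β)).toRingHom = q.toRingHom.comp (pairMap (A := k) β).toRingHom := by
      refine RingHom.ext fun x => ?_
      induction x with
      | zero => simp
      | tmul a b => simp [pairMap]
      | add a b ha hb => simp only [map_add, ha, hb]
    rw [e]
    have h1 : (algebraMap C Cp).FormallyUnramified :=
      RingHom.formallyUnramified_algebraMap.2 (Algebra.FormallyUnramified.of_isLocalization P.primeCompl)
    have h2 : (algebraMap Cp L).FormallyUnramified := RingHom.formallyUnramified_algebraMap.2 inferInstance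
    exact RingHom.FormallyUnramified.stableUnderComposition _ _ h
      (RingHom.FormallyUnramified.stableUnderComposition _ _ h1 h2)
  obtain ⟨d, b, hb⟩ := exists_basis_of_formallyUnramified (q.toRingHom.comp β) hq
  refine ⟨P, hPp, d, b, ?_⟩
  let := (MvPolynomial.aeval (R := k) (β ∘ b)).toRingHom.toAlgebra
  let R := MvPolynomial (ULift.{u} (Fin d)) k
  let F := FractionRing R
  let ev : R →ₐ[k] Cp := (IsScalarTower.toAlgHom k C Cp).comp (MvPolynomial.aeval (β ∘ b))
  have hev : res.comp ev = MvPolynomial.aeval ((q.toRingHom.comp β) ∘ b) := by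
    ext i; simp [ev, q]
  have hunit : ∀ y : nonZeroDivisors R, IsUnit (ev y) := fun y => by
    rw [← IsLocalRing.residue_ne_zero_iff_isUnit]
    show (res.comp ev) y ≠ 0
    rw [hev]
    exact (map_ne_zero_iff _ hb.1).2 (nonZeroDivisors.ne_zero y.2)
  let ψ : F →ₐ[k] Cp := IsLocalization.liftAlgHom hunit
  let := ψ.toRingHom.toAlgebra
  have htR : IsScalarTower R F Cp := IsScalarTower.of_algebraMap_eq fun x => by
    show ev x = ψ _
    exact (IsLocalization.lift_eq hunit x).symm
  have htk : IsScalarTower k F Cp := IsScalarTower.of_algebraMap_eq fun x => (ψ.commutes x).symm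
  have htL : IsScalarTower k F L := IsScalarTower.of_algebraMap_eq fun x => by
    show _ = res (ψ _)
    rw [ψ.commutes, res.commutes]
  have : Algebra.EssFiniteType F L := Algebra.EssFiniteType.of_comp k F L
  have : Algebra.IsAlgebraic R L := by
    refine ⟨fun x => ?_⟩
    have := hb.isAlgebraic.isAlgebraic x
    obtain ⟨p, hp0, hp⟩ := this
    let e := hb.1.aevalEquiv
    refine ⟨p.map e.symm.toRingHom, (Polynomial.map_ne_zero_iff e.symm.injective).2 hp0, ?_⟩
    have key : (algebraMap R L).comp e.symm.toRingHom = algebraMap (Algebra.adjoin k (Set.range ((q.toRingHom.comp β) ∘ b))) L := by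
      refine RingHom.ext fun y => ?_
      obtain ⟨z, rfl⟩ := e.surjective y
      show (algebraMap R L) (e.symm (e z)) = ((e z : Algebra.adjoin k _) : L)
      rw [e.symm_apply_apply]
      refine Eq.trans ?_ (hb.1.algebraMap_aevalEquiv z).symm
      exact DFunLike.congr_fun hev z
    rw [Polynomial.aeval_def, Polynomial.eval₂_map]
    exact (congrArg (fun f => Polynomial.eval₂ f x p) key).trans hp
  have : IsScalarTower R F L := IsScalarTower.of_algebraMap_eq fun x => by
    show res _ = res (ψ _)
    exact congrArg res (IsLocalization.lift_eq hunit x).symm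
  have : Algebra.IsAlgebraic F L := Algebra.IsAlgebraic.extendScalars (IsFractionRing.injective R F)
  have : Module.Finite F L := Algebra.finite_of_essFiniteType_of_isAlgebraic
  have : Ring.KrullDimLE 0 Cp := .of_isLocalization _ hP _
  have : Module.Finite F Cp := by
    refine Module.finite_of_surjective_of_ker_le_nilradical (IsScalarTower.toAlgHom F Cp L) hres ?_
      (IsNoetherian.noetherian _)
    rw [Ring.KrullDimLE.nilradical_eq_maximalIdeal]
    exact IsLocalRing.ker_residue.le
  exact ⟨Module.Flat.trans R F Cp, Algebra.QuasiFinite.trans R F Cp⟩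

end Groth.L24.Boot
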