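import Groth.Agent.L24.Boot.FQ
import Groth.Agent.L24.Boot.FQAlg
import Groth.Agent.L24.Boot.AffMap

/-!
Coordinates making a family flat and quasi-finite over affine space.
-/

set_option autoImplicit false
set_option backward.isDefEq.respectTransparency false
set_option backward.isDefEq.respectTransparency.types false

universe u

open CategoryTheory CategoryTheory.Limits AlgebraicGeometry TensorProduct

noncomputable section

namespace Groth.L24.Boot

variable {σ : Type u} {X X' T T' Y Y' U : Scheme.{u}} {V : U.Opens} (G : V.toScheme ⟶ AffZ σ)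

/-- The coordinates are flat and quasi-finite at a point. -/
def FGood (f : Y ⟶ T) (y : Y ⟶ U) (x : Y) : Prop :=
  ∃ h : x ∈ y ⁻¹ᵁ V, FQ (psi G f y) ⟨x, h⟩

variable [Finite σ]

instance lfp_psi (f : Y ⟶ T) [LocallyOfFinitePresentation f] (y : Y ⟶ U) :
    LocallyOfFinitePresentation (psi G f y) := by
  unfold psi; infer_instance

theorem isOpen_fgood (f : Y ⟶ T) [LocallyOfFinitePresentation f] (y : Y ⟶ U) :
    IsOpen {x | FGood G f y x} := by
  have : {x | FGood G f y x} = (y ⁻¹ᵁ V).ι '' (fqSet (psi G f y) : Set (y ⁻¹ᵁ V).toScheme) := by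
    ext x
    constructor
    · rintro ⟨h, h'⟩; exact ⟨⟨x, h⟩, h', rfl⟩
    · rintro ⟨⟨z, hz⟩, h', rfl⟩; exact ⟨hz, h'⟩
  rw [this]
  exact (y ⁻¹ᵁ V).ι.isOpenEmbedding.isOpenMap _ (fqSet _).2

theorem fgood_comp (q : Y' ⟶ Y) [Etale q] (f : Y ⟶ T) [LocallyOfFinitePresentation f] (y : Y ⟶ U) (x : Y') :
    FGood G f y (q x) ↔ FGood G (q ≫ f) (q ≫ y) x := by
  constructor
  · rintro ⟨h, h'⟩
    refine ⟨h, ?_⟩
    rw [← restrict_apply q (y ⁻¹ᵁ V) x h, fq_comp_etale, restrict_psi] at h'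
    exact h'
  · rintro ⟨h, h'⟩
    refine ⟨h, ?_⟩
    rw [← restrict_apply q (y ⁻¹ᵁ V) x h, fq_comp_etale, restrict_psi]
    exact h'

theorem fgood_baseChange {q : Y' ⟶ Y} {f' : Y' ⟶ T'} {f : Y ⟶ T} {h : T' ⟶ T}
    (sq : IsPullback q f' f h) [LocallyOfFinitePresentation f] (y : Y ⟶ U) {x : Y'}
    (hx : FGood G f y (q x)) : FGood G f' (q ≫ y) x := by
  obtain ⟨hm, h'⟩ := hx
  refine ⟨hm, ?_⟩
  rw [← restrict_apply q (y ⁻¹ᵁ V) x hm] at h'
  exact fq_baseChange (isPullback_psi G sq y) h'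

theorem fgood_descend {q : Y' ⟶ Y} {f' : Y' ⟶ T'} {f : Y ⟶ T} {h : T' ⟶ T}
    (sq : IsPullback q f' f h) [Flat f] [LocallyOfFinitePresentation f] (y : Y ⟶ U) {x : Y'}
    (hx : FGood G f' (q ≫ y) x) : FGood G f y (q x) := by
  obtain ⟨hm, h'⟩ := hx
  refine ⟨hm, ?_⟩
  rw [← restrict_apply q (y ⁻¹ᵁ V) x hm]
  have e : psi G f y ≫ 𝔸(σ; T) ↘ T = (y ⁻¹ᵁ V).ι ≫ f := by simp [psi]
  have : Flat (psi G f y ≫ 𝔸(σ; T) ↘ T) := by rw [e]; infer_instance
  have : LocallyOfFinitePresentation (psi G f y ≫ 𝔸(σ; T) ↘ T) := by rw [e]; infer_instance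
  exact fq_descend (isPullback_psi G sq y) (AffineSpace.isPullback_map (n := σ) h) h'

theorem flat_lqf_affLift_of_fgood {U0 : U.Opens} (hle : U0 ≤ V) (f : Y ⟶ T)
    [LocallyOfFinitePresentation f] (y : Y ⟶ U) (h : ∀ x, y x ∈ U0 → FGood G f y x) :
    Flat (affLift ((y ⁻¹ᵁ U0).ι ≫ f) ((y ∣_ U0) ≫ U.homOfLE hle ≫ G)) ∧
      LocallyQuasiFinite (affLift ((y ⁻¹ᵁ U0).ι ≫ f) ((y ∣_ U0) ≫ U.homOfLE hle ≫ G)) := by
  have hle' : y ⁻¹ᵁ U0 ≤ y ⁻¹ᵁ V := fun x hx => hle hx
  have e : Y.homOfLE hle' ≫ psi G f y = affLift ((y ⁻¹ᵁ U0).ι ≫ f) ((y ∣_ U0) ≫ U.homOfLE hle ≫ G) := by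
    rw [psi, comp_affLift, Scheme.homOfLE_ι_assoc]
    congr 1
    rw [← Category.assoc, ← Category.assoc]
    congr 1
    rw [← cancel_mono V.ι]
    simp [morphismRestrict_ι]
  rw [← e]
  refine flat_lqf_of_forall_fq _ fun w => (fq_comp_etale _ _ w).1 ?_
  obtain ⟨h1, h2⟩ := h w.1 w.2
  have : Y.homOfLE hle' w = ⟨w.1, h1⟩ := (y ⁻¹ᵁ V).ι.isOpenEmbedding.injective (by
    rw [← Scheme.Hom.comp_apply, Scheme.homOfLE_ι]; rfl)
  rw [this]
  exact h2

theorem fq_specMap {R C : CommRingCat.{u}} (φ : R ⟶ C) [LocallyOfFiniteType (Spec.map φ)] (P : Spec C)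
    (hf : letI := φ.hom.toAlgebra; Module.Flat R (Localization.AtPrime P.asIdeal))
    (hq : letI := φ.hom.toAlgebra; Algebra.QuasiFinite R (Localization.AtPrime P.asIdeal))
    {Z : Scheme.{u}} (e : Spec R ⟶ Z) [IsIso e] : FQ (Spec.map φ ≫ e) P := by
  algebraize [φ.hom]
  constructor
  · rw [Scheme.Hom.stalkMap_comp, CommRingCat.hom_comp]
    refine RingHom.Flat.comp (Flat.stalkMap e _) ?_
    have hR := (RingHom.toMorphismProperty_respectsIso_iff (P := fun f => RingHom.Flat f)).mp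
      RingHom.Flat.respectsIso
    refine ((RingHom.toMorphismProperty fun f => RingHom.Flat f).arrow_mk_iso_iff
      (Scheme.arrowStalkMapSpecIso φ P)).2 ?_
    exact (Groth.L20.flat_localRingHom_iff _ P.asIdeal rfl).2 hf
  · rw [Scheme.Hom.quasiFiniteAt_comp_iff]
    refine (RingHom.QuasiFinite.respectsIso.arrow_mk_iso_iff (Scheme.arrowStalkMapSpecIso φ P)).2 ?_
    let := Localization.AtPrime.algebraOfLiesOver (P.asIdeal.under R) P.asIdeal
    show RingHom.QuasiFinite (algebraMap (Localization.AtPrime (P.asIdeal.under R)) (Localization.AtPrime P.asIdeal))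
    rw [RingHom.quasiFinite_algebraMap]
    exact .of_restrictScalars R _ _

/-- The coordinates given by functions on an affine open. -/
def coordMap (V : U.Opens) {d : ℕ} (b : ULift.{u} (Fin d) → Γ(U, V)) : V.toScheme ⟶ AffZ (ULift.{u} (Fin d)) :=
  (AffineSpace.toSpecMvPolyIntEquiv _).symm fun i => V.topIso.inv (b i)

/-- A nonempty family over a field, unramified over its product with `U`, has a good point. -/
theorem exists_fgood {k : Type u} [Field k] (f : Y ⟶ Spec (CommRingCat.of k)) [LocallyOfFinitePresentation f]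
    (y : Y ⟶ U) (hfu : FormallyUnramified
      (pullback.lift f y (terminal.hom_ext _ _) : Y ⟶ pullback (terminal.from (Spec (CommRingCat.of k))) (terminal.from U)))
    (x : Y) :
    ∃ (V : U.Opens) (_ : IsAffineOpen V) (d : ℕ) (b : ULift.{u} (Fin d) → Γ(U, V)) (x' : Y),
      FGood (coordMap V b) f y x' := by
  obtain ⟨V, hV, hxV, -⟩ := exists_affine_mem (y x) ⊤ trivial
  obtain ⟨W, hW, hxW, hWV⟩ := exists_affine_mem x (y ⁻¹ᵁ V) hxV
  obtain ⟨φ, hφ⟩ := Spec.map_surjective (hW.fromSpec ≫ f)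
  have hft : φ.hom.FiniteType := by
    rw [← HasRingHomProperty.Spec_iff (P := @LocallyOfFiniteType), hφ]
    infer_instance
  algebraize [φ.hom]
  let C := Γ(Y, W)
  let β := (y.appLE V W hWV).hom
  have hne : Nonempty (Spec C) := ⟨hW.primeIdealOf ⟨x, hxW⟩⟩
  have : Nontrivial C := PrimeSpectrum.nonempty_iff_nontrivial.1 hne
  have hfu' : (pairMap (A := k) β).toRingHom.FormallyUnramified := by
    let φ2 := CommRingCat.ofHom (pairMap (A := k) β).toRingHom
    let J : Spec (CommRingCat.of (k ⊗[ℤ] Γ(U, V))) ⟶ pullback (terminal.from (Spec (CommRingCat.of k))) (terminal.from U) :=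
      pullback.lift
        (Spec.map (CommRingCat.ofHom (Algebra.TensorProduct.includeLeftRingHom)))
        (Spec.map (CommRingCat.ofHom (Algebra.TensorProduct.includeRight :
          Γ(U, V) →ₐ[ℤ] k ⊗[ℤ] Γ(U, V)).toRingHom) ≫ hV.fromSpec) (terminal.hom_ext _ _)
    have e : Spec.map φ2 ≫ J = hW.fromSpec ≫ pullback.lift f y (terminal.hom_ext _ _) := by
      apply pullback.hom_ext
      · simp only [J, Category.assoc, pullback.lift_fst]
        rw [← hφ, ← Spec.map_comp]
        congr 1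
        ext a
        show pairMap β (a ⊗ₜ 1) = φ.hom a
        simp [pairMap, RingHom.algebraMap_toAlgebra]
      · simp only [J, Category.assoc, pullback.lift_snd]
        rw [← Category.assoc, ← Spec.map_comp, ← IsAffineOpen.SpecMap_appLE_fromSpec y hV hW hWV]
        congr 2
        ext b
        show pairMap β ((1 : k) ⊗ₜ b) = _
        simp [pairMap, β]
    have : FormallyUnramified (hW.fromSpec ≫ pullback.lift f y (terminal.hom_ext _ _)) :=
      MorphismProperty.comp_mem _ _ _ (inferInstance : FormallyUnramified hW.fromSpec) hfu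
    rw [← e] at this
    have : FormallyUnramified (Spec.map φ2) := FormallyUnramified.of_comp (Spec.map φ2) J
    exact HasRingHomProperty.Spec_iff.1 this
  obtain ⟨P, hP, d, b, hflat, hqf⟩ := exists_fqCoords (k := k) β hfu'
  refine ⟨V, hV, d, b, hW.fromSpec ⟨P, hP⟩, ?_⟩
  let ae := (MvPolynomial.aeval (R := k) (β ∘ b)).toRingHom
  let j : Spec C ⟶ (y ⁻¹ᵁ V).toScheme :=
    IsOpenImmersion.lift (y ⁻¹ᵁ V).ι hW.fromSpec (by rw [Scheme.Opens.range_ι, hW.range_fromSpec]; exact hWV)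
  have hj : j ≫ (y ⁻¹ᵁ V).ι = hW.fromSpec := IsOpenImmersion.lift_fac _ _ _
  have : IsOpenImmersion j := by
    have : IsOpenImmersion (j ≫ (y ⁻¹ᵁ V).ι) := by rw [hj]; infer_instance
    exact IsOpenImmersion.of_comp j (y ⁻¹ᵁ V).ι
  have he : j ≫ psi (coordMap V b) f y =
      Spec.map (CommRingCat.ofHom ae) ≫ (AffineSpace.SpecIso _ (CommRingCat.of k)).inv := by
    apply aff_hom_ext
    · simp only [psi, Category.assoc, affLift_over, reassoc_of% hj]
      rw [AffineSpace.SpecIso_inv_over, ← Spec.map_comp, ← CommRingCat.ofHom_comp, ← hφ]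
      congr 1
      ext a
      show φ.hom a = ae (MvPolynomial.C a)
      simp [ae, RingHom.algebraMap_toAlgebra]
    · simp only [psi, Category.assoc, affLift_toSpec]
      apply (AffineSpace.toSpecMvPolyIntEquiv _).injective
      ext i
      have e1 : j ≫ (y ∣_ V) = Spec.map (y.appLE V W hWV) ≫ hV.isoSpec.inv := by
        rw [← cancel_mono V.ι]
        simp only [Category.assoc, morphismRestrict_ι, reassoc_of% hj, IsAffineOpen.isoSpec_inv_ι]
        exact (IsAffineOpen.SpecMap_appLE_fromSpec y hV hW hWV).symm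
      rw [← Category.assoc, e1, AffineSpace.toSpecMvPolyIntEquiv_comp,
        AffineSpace.toSpecMvPolyIntEquiv_comp]
      change _ = (Spec.map _).appTop ((AffineSpace.SpecIso _ (CommRingCat.of k)).inv.appTop (AffineSpace.coord _ i))
      rw [AffineSpace.SpecIso_inv_appTop_coord]
      simp only [coordMap, Equiv.apply_symm_apply]
      rw [Scheme.Hom.comp_appTop, CommRingCat.comp_apply, IsAffineOpen.isoSpec_inv_appTop,
        CommRingCat.comp_apply]
      rw [← CommRingCat.comp_apply V.topIso.inv, Iso.inv_hom_id, CommRingCat.id_apply,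
        ← CommRingCat.comp_apply, ← Scheme.ΓSpecIso_inv_naturality, CommRingCat.comp_apply,
        ← CommRingCat.comp_apply _ ((Spec.map _).appTop), ← Scheme.ΓSpecIso_inv_naturality,
        CommRingCat.comp_apply]
      exact congrArg (Scheme.ΓSpecIso C).inv
        (MvPolynomial.aeval_X (R := k) (fun i => β (b i)) i).symm
  have : LocallyOfFiniteType (Spec.map (CommRingCat.ofHom ae)) := by
    have : LocallyOfFiniteType (Spec.map (CommRingCat.ofHom ae) ≫ Spec.map (CommRingCat.ofHom (MvPolynomial.C (σ := ULift.{u} (Fin d)) (R := k)))) := by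
      rw [← Spec.map_comp, HasRingHomProperty.Spec_iff (P := @LocallyOfFiniteType)]
      have hcomp : ae.comp (MvPolynomial.C (σ := ULift.{u} (Fin d)) (R := k)) = φ.hom := by
        ext a
        simp [ae, RingHom.algebraMap_toAlgebra]
      show (ae.comp (MvPolynomial.C (σ := ULift.{u} (Fin d)) (R := k))).FiniteType
      rw [hcomp]
      exact hft
    exact locallyOfFiniteType_of_comp _ (Spec.map (CommRingCat.ofHom (MvPolynomial.C (σ := ULift.{u} (Fin d)) (R := k))))
  have hfq := fq_specMap (CommRingCat.ofHom ae) ⟨P, hP⟩ hflat hqf (AffineSpace.SpecIso _ (CommRingCat.of k)).inv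
  rw [← he] at hfq
  have hx := (fq_comp_etale j (psi (coordMap V b) f y) ⟨P, hP⟩).2 hfq
  have hm : hW.fromSpec ⟨P, hP⟩ = (j ⟨P, hP⟩).1 := by
    rw [← hj, Scheme.Hom.comp_apply]; rfl
  refine ⟨by rw [hm]; exact (j ⟨P, hP⟩).2, ?_⟩
  convert hx using 2
  exact Subtype.ext hm

end Groth.L24.Boot
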