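import Groth.Agent.L24.Boot.FQCoord
import Groth.Agent.L24.Boot.SliceRel
import Groth.Agent.L23.SourceDescent

/-!
The relation of a sheaf with flat charts of finite presentation, and transfer of flat quasi-finite
coordinates between charts.
-/

set_option autoImplicit false
set_option backward.isDefEq.respectTransparency false
set_option backward.isDefEq.respectTransparency.types false

universe u

open CategoryTheory CategoryTheory.Limits AlgebraicGeometry Opposite AlgSp

noncomputable section

namespace Groth.L24.Boot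

variable {S : Scheme.{u}} {F : Sp S} {U : Over S} {p : (yon S).obj U ⟶ F}

theorem flat_relation (c : Chart p p) [Flat c.a.left] [LocallyOfFinitePresentation c.a.left]
    [Surjective c.a.left] :
    Flat c.α.left ∧ LocallyOfFinitePresentation c.α.left ∧ Surjective c.α.left := by
  let a₃ : (yon S).obj c.A ⟶ pullback p p := pullback.lift ((yon S).map c.a) ((yon S).map c.α) c.w
  let a₃' : (yon S).obj c.A ⟶ pullback p p := pullback.lift ((yon S).map c.α) ((yon S).map c.a) c.w.symm
  have hswap : a₃ ≫ (pullbackSymmetry p p).hom = a₃' := by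
    apply pullback.hom_ext <;> simp [a₃, a₃']
  have he' : RepWith @Etale a₃' := by
    rw [← hswap]; exact (MorphismProperty.cancel_right_of_respectsIso (RepWith @Etale) _ _).2 c.etale
  have sqD := c.etale.1.isPullback a₃'
  let k2 := c.etale.1.snd a₃'
  obtain ⟨k1, hk1⟩ := (yon S).map_surjective (c.etale.1.fst a₃')
  have hk2e : Etale k2.left := c.etale.2 a₃' (c.etale.1.fst a₃') k2 sqD
  have hk2s : Surjective k2.left := c.surj.2 a₃' (c.etale.1.fst a₃') k2 sqD
  have hk1e : Etale k1.left := he'.2 a₃ ((yon S).map k2) k1 (by rw [hk1]; exact sqD.flip)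
  have hk : k1 ≫ c.a = k2 ≫ c.α := (yon S).map_injective (by
    have := sqD.w =≫ pullback.fst p p
    simpa [a₃, a₃', hk1, k2] using this)
  have hkl : k1.left ≫ c.a.left = k2.left ≫ c.α.left := congrArg CommaMorphism.left hk
  have hfl : Flat c.α.left := Groth.L23.flat_of_etale_comp' k2.left _ (by
    rw [← hkl]
    exact MorphismProperty.comp_mem _ _ _ (inferInstance : Flat k1.left) inferInstance)
  have hfp : LocallyOfFinitePresentation c.α.left := Groth.L23.locallyOfFinitePresentation_of_etale_comp' k2.left _ (by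
    rw [← hkl]
    exact MorphismProperty.comp_mem _ _ _ (inferInstance : LocallyOfFinitePresentation k1.left) inferInstance)
  have hk' : k1 ≫ c.α = k2 ≫ c.a := (yon S).map_injective (by
    have := sqD.w =≫ pullback.snd p p
    simpa [a₃, a₃', hk1, k2] using this)
  have hsu : Surjective c.α.left := by
    have hk1s : Surjective k1.left := by
      have hs' : RepWith @Surjective a₃' := by
        rw [← hswap]; exact (MorphismProperty.cancel_right_of_respectsIso (RepWith @Surjective) _ _).2 c.surj
      exact hs'.2 a₃ ((yon S).map k2) k1 (by rw [hk1]; exact sqD.flip)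
    have : Surjective (k2.left ≫ c.α.left) := by rw [← hkl]; infer_instance
    exact Surjective.of_comp k2.left _
  exact ⟨hfl, hfp, hsu⟩

/-- The two projections of a chart are jointly unramified. -/
theorem fu_pair {T : Over S} {ξ : (yon S).obj T ⟶ F} (c : Chart p ξ) [LocallyOfFiniteType c.a.left] :
    FormallyUnramified (pullback.lift c.a.left c.α.left (terminal.hom_ext _ _) :
      c.A.left ⟶ pullback (terminal.from T.left) (terminal.from U.left)) := by
  let a₃ : (yon S).obj c.A ⟶ pullback ξ p := pullback.lift ((yon S).map c.a) ((yon S).map c.α) c.w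
  obtain ⟨δ, hδ⟩ : ∃ δ : c.A.left ⟶ pullback (terminal.from T.left) (terminal.from U.left),
      δ = pullback.lift c.a.left c.α.left (terminal.hom_ext _ _) := ⟨_, rfl⟩
  rw [← hδ]
  have : LocallyOfFiniteType δ := by
    have : LocallyOfFiniteType (δ ≫ pullback.fst _ _) := by
      rw [hδ, pullback.lift_fst]; infer_instance
    exact locallyOfFiniteType_of_comp δ (pullback.fst _ _)
  have sqS := c.etale.1.isPullback a₃
  let m2 := c.etale.1.snd a₃
  obtain ⟨m1, hm1⟩ := (yon S).map_surjective (c.etale.1.fst a₃)
  have hm2 : Etale m2.left := c.etale.2 a₃ (c.etale.1.fst a₃) m2 sqS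
  rw [← hm1] at sqS
  have hm : m1 ≫ c.a = m2 ≫ c.a ∧ m1 ≫ c.α = m2 ≫ c.α := by
    constructor
    · refine (yon S).map_injective ?_
      have := sqS.w =≫ pullback.fst ξ p
      simpa [a₃, m2] using this
    · refine (yon S).map_injective ?_
      have := sqS.w =≫ pullback.snd ξ p
      simpa [a₃, m2] using this
  have sq : IsPullback m1.left m2.left δ δ := by
    refine IsPullback.mk' ?_ (fun Z φ φ' h1 h2 => ?_) ?_
    · subst hδ
      apply pullback.hom_ext
      · simpa using congrArg CommaMorphism.left hm.1
      · simpa using congrArg CommaMorphism.left hm.2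
    · let ZO : Over S := Over.mk (φ ≫ (c.etale.1.pullback a₃).hom)
      have e' : φ' ≫ (c.etale.1.pullback a₃).hom = φ ≫ (c.etale.1.pullback a₃).hom := by
        rw [← Over.w m2, reassoc_of% h2]
      let φO : ZO ⟶ c.etale.1.pullback a₃ := Over.homMk φ rfl
      let φO' : ZO ⟶ c.etale.1.pullback a₃ := Over.homMk φ' e'
      refine congrArg CommaMorphism.left ((yon S).map_injective (sqS.hom_ext ?_ ?_) : φO = φO')
      · rw [← Functor.map_comp, ← Functor.map_comp]; congr 1; exact Over.OverMorphism.ext h1
      · rw [← Functor.map_comp, ← Functor.map_comp]; congr 1; exact Over.OverMorphism.ext h2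
    · intro Z z1 z2 hz
      subst hδ
      have h1 : z1 ≫ c.a.left = z2 ≫ c.a.left := by simpa using hz =≫ pullback.fst _ _
      have h2 : z1 ≫ c.α.left = z2 ≫ c.α.left := by simpa using hz =≫ pullback.snd _ _
      let ZO : Over S := Over.mk (z1 ≫ c.A.hom)
      let z1O : ZO ⟶ c.A := Over.homMk z1 rfl
      let z2O : ZO ⟶ c.A := Over.homMk z2 (by
        show z2 ≫ c.A.hom = z1 ≫ c.A.hom
        rw [← Over.w c.a, reassoc_of% h1])
      have e1 : z1O ≫ c.a = z2O ≫ c.a := Over.OverMorphism.ext h1
      have e2 : z1O ≫ c.α = z2O ≫ c.α := Over.OverMorphism.ext h2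
      obtain ⟨l, hl⟩ := (yon S).map_surjective (sqS.lift ((yon S).map z1O) ((yon S).map z2O) (by
        apply pullback.hom_ext
        · simp only [a₃, Category.assoc, pullback.lift_fst, ← Functor.map_comp, e1]
        · simp only [a₃, Category.assoc, pullback.lift_snd, ← Functor.map_comp, e2]))
      exact ⟨l.left, congrArg CommaMorphism.left
        ((yon S).map_injective (by rw [Functor.map_comp, hl, sqS.lift_fst]) : l ≫ m1 = z1O),
        congrArg CommaMorphism.left
        ((yon S).map_injective (by rw [Functor.map_comp, hl, sqS.lift_snd]) : l ≫ m2 = z2O)⟩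
  refine Groth.L24.St.fu_of_pullback_self δ ?_
  rw [← sq.isoPullback_inv_snd]
  exact MorphismProperty.comp_mem _ _ _ inferInstance (inferInstance : FormallyUnramified m2.left)

variable {σ : Type u} [Finite σ] {V : U.left.Opens} (G : V.toScheme ⟶ AffZ σ)

set_option maxHeartbeats 1000000 in
theorem fgood_transfer (c₀ : Chart p p) [Flat c₀.a.left] [LocallyOfFinitePresentation c₀.a.left]
    {T : Over S} {ξ : (yon S).obj T ⟶ F} (c : Chart p ξ) [Flat c.a.left] [LocallyOfFinitePresentation c.a.left]
    (x : c.A.left) (r : c₀.A.left) (hxr : c₀.α.left r = c.α.left x) :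
    FGood G c₀.a.left c₀.α.left r ↔ FGood G c.a.left c.α.left x := by
  let s := c₀.a
  let t := c₀.α
  let a₃ : (yon S).obj c.A ⟶ pullback ξ p := pullback.lift ((yon S).map c.a) ((yon S).map c.α) c.w
  let b₃ : (yon S).obj c₀.A ⟶ pullback p p := pullback.lift ((yon S).map s) ((yon S).map t) c₀.w
  have hst : (yon S).map s ≫ p = (yon S).map t ≫ p := c₀.w
  -- a point over `s r`
  let K₀ := pullback c.α t
  obtain ⟨y, hy1, hy2⟩ := exists_point
    ((IsPullback.of_hasPullback c.α t).map (Over.forget S)) x r hxr.symm
  let g₀ : (yon S).obj K₀ ⟶ pullback ξ p :=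
    pullback.lift ((yon S).map (pullback.fst c.α t ≫ c.a)) ((yon S).map (pullback.snd c.α t ≫ s)) (by
      rw [Functor.map_comp, Category.assoc, c.w, Functor.map_comp, Category.assoc, hst,
        ← Functor.map_comp_assoc, ← Functor.map_comp_assoc, pullback.condition])
  have sqL := c.etale.1.isPullback g₀
  let l₀ := c.etale.1.snd g₀
  obtain ⟨l₁, hl₁⟩ := (yon S).map_surjective (c.etale.1.fst g₀)
  have hl₀s : Surjective l₀.left := c.surj.2 g₀ (c.etale.1.fst g₀) l₀ sqL
  rw [← hl₁] at sqL
  have hla : l₁ ≫ c.a = l₀ ≫ pullback.fst c.α t ≫ c.a := (yon S).map_injective (by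
    have := sqL.w =≫ pullback.fst ξ p
    simpa [g₀, l₀] using this)
  have hlα : l₁ ≫ c.α = l₀ ≫ pullback.snd c.α t ≫ s := (yon S).map_injective (by
    have := sqL.w =≫ pullback.snd ξ p
    simpa [g₀, l₀] using this)
  obtain ⟨z, hz⟩ := l₀.left.surjective y
  -- `X₂ = A ×_U R₀`
  let X₂ := pullback c.α s
  let q₂ := pullback.snd c.α s
  let g₂ : (yon S).obj X₂ ⟶ pullback ξ p :=
    pullback.lift ((yon S).map (pullback.fst c.α s ≫ c.a)) ((yon S).map (q₂ ≫ t)) (by
      rw [Functor.map_comp, Category.assoc, c.w, Functor.map_comp, Category.assoc, ← hst,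
        ← Functor.map_comp_assoc, ← Functor.map_comp_assoc, pullback.condition])
  have sqM := c.etale.1.isPullback g₂
  let M := c.etale.1.pullback g₂
  let m₂ := c.etale.1.snd g₂
  obtain ⟨n₂, hn₂⟩ := (yon S).map_surjective (c.etale.1.fst g₂)
  have hm₂e : Etale m₂.left := c.etale.2 g₂ (c.etale.1.fst g₂) m₂ sqM
  rw [← hn₂] at sqM
  have hna : n₂ ≫ c.a = m₂ ≫ pullback.fst c.α s ≫ c.a := (yon S).map_injective (by
    have := sqM.w =≫ pullback.fst ξ p
    simpa [g₂, m₂] using this)
  have hnα : n₂ ≫ c.α = m₂ ≫ q₂ ≫ t := (yon S).map_injective (by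
    have := sqM.w =≫ pullback.snd ξ p
    simpa [g₂, m₂] using this)
  -- `X₁ = A ×_T A`
  let μ : M ⟶ pullback c.a c.a :=
    pullback.lift (m₂ ≫ pullback.fst c.α s) n₂ (by rw [Category.assoc, hna])
  let g₁ : (yon S).obj (pullback c.a c.a) ⟶ pullback p p :=
    pullback.lift ((yon S).map (pullback.fst c.a c.a ≫ c.α)) ((yon S).map (pullback.snd c.a c.a ≫ c.α)) (by
      rw [Functor.map_comp, Category.assoc, ← c.w, Functor.map_comp, Category.assoc, ← c.w,
        ← Functor.map_comp_assoc, ← Functor.map_comp_assoc, pullback.condition])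
  have sqμ : IsPullback ((yon S).map (m₂ ≫ q₂)) ((yon S).map μ) b₃ g₁ := by
    have hX₂ := (IsPullback.of_hasPullback c.α s).map (yon S)
    have hX₁ := (IsPullback.of_hasPullback c.a c.a).map (yon S)
    refine IsPullback.mk' ?_ (fun Z φ φ' h1 h2 => ?_) ?_
    · apply pullback.hom_ext
      · simp only [b₃, g₁, μ, Category.assoc, pullback.lift_fst, ← Functor.map_comp, pullback.lift_fst_assoc]
        rw [pullback.condition]
      · simp only [b₃, g₁, μ, Category.assoc, pullback.lift_snd, ← Functor.map_comp, pullback.lift_snd_assoc]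
        rw [hnα]
    · have e1 := h2 =≫ (yon S).map (pullback.fst c.a c.a)
      have e2 := h2 =≫ (yon S).map (pullback.snd c.a c.a)
      simp only [μ, Category.assoc, ← Functor.map_comp, pullback.lift_fst, pullback.lift_snd] at e1 e2
      refine sqM.hom_ext e2 (hX₂.hom_ext ?_ ?_)
      · simpa only [Category.assoc, ← Functor.map_comp] using e1
      · simpa only [Category.assoc, ← Functor.map_comp] using h1
    · intro Z z0 z1 hz
      have e1 := hz =≫ pullback.fst p p
      have e2 := hz =≫ pullback.snd p p
      simp only [b₃, g₁, Category.assoc, pullback.lift_fst, pullback.lift_snd] at e1 e2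
      let w := hX₂.lift (z1 ≫ (yon S).map (pullback.fst c.a c.a)) z0 (by
        rw [Category.assoc, ← Functor.map_comp]; exact e1.symm)
      refine ⟨sqM.lift (z1 ≫ (yon S).map (pullback.snd c.a c.a)) w ?_, ?_, ?_⟩
      · apply pullback.hom_ext
        · simp only [g₂, Category.assoc, pullback.lift_fst, Functor.map_comp, w, IsPullback.lift_fst_assoc]
          rw [← Functor.map_comp, ← Functor.map_comp, pullback.condition]
        · simp only [g₂, Category.assoc, pullback.lift_snd, Functor.map_comp, w, IsPullback.lift_snd_assoc, q₂]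
          simpa only [Functor.map_comp] using e2.symm
      · rw [(yon S).map_comp m₂ q₂, ← Category.assoc, sqM.lift_snd, hX₂.lift_snd]
      · refine hX₁.hom_ext ?_ ?_
        · simp only [μ, Category.assoc, ← Functor.map_comp, pullback.lift_fst]
          rw [(yon S).map_comp m₂ (pullback.fst c.α s), ← Category.assoc, sqM.lift_snd, hX₂.lift_fst]
        · simp only [μ, Category.assoc, ← Functor.map_comp, pullback.lift_snd]
          rw [sqM.lift_fst]
  have hμe : Etale μ.left := c₀.etale.2 g₁ ((yon S).map (m₂ ≫ q₂)) μ sqμ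
  -- the point of `M`
  let v : c.etale.1.pullback g₀ ⟶ X₂ := pullback.lift l₁ (l₀ ≫ pullback.snd c.α t) (by rw [hlα, Category.assoc])
  obtain ⟨e, he⟩ := (yon S).map_surjective (sqM.lift ((yon S).map (l₀ ≫ pullback.fst c.α t)) ((yon S).map v) (by
    apply pullback.hom_ext
    · simp only [g₂, Category.assoc, pullback.lift_fst, ← Functor.map_comp, v, pullback.lift_fst_assoc]
      rw [hla]
    · simp only [g₂, Category.assoc, pullback.lift_snd, ← Functor.map_comp, v, q₂, pullback.lift_snd_assoc]
      rw [pullback.condition]))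
  have hen : e ≫ n₂ = l₀ ≫ pullback.fst c.α t := (yon S).map_injective (by
    rw [Functor.map_comp, he, sqM.lift_fst])
  have hem : e ≫ m₂ = v := (yon S).map_injective (by rw [Functor.map_comp, he, sqM.lift_snd])
  let m := e.left z
  have hqm : q₂.left (m₂.left m) = r := by
    rw [← Scheme.Hom.comp_apply, ← Scheme.Hom.comp_apply, ← Over.comp_left, ← Over.comp_left, reassoc_of% hem]
    simp only [v, q₂, pullback.lift_snd, Over.comp_left, Scheme.Hom.comp_apply]
    rw [hz]
    exact hy2
  have hnm : n₂.left m = x := by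
    rw [← Scheme.Hom.comp_apply, ← Over.comp_left, hen, Over.comp_left, Scheme.Hom.comp_apply, hz]
    exact hy1
  -- transfer
  have sq₂ : IsPullback q₂.left (pullback.fst c.α s).left s.left c.α.left :=
    ((IsPullback.of_hasPullback c.α s).map (Over.forget S)).flip
  have : LocallyOfFinitePresentation (pullback.fst c.α s).left :=
    MorphismProperty.of_isPullback sq₂ (inferInstance : LocallyOfFinitePresentation c₀.a.left)
  have sqa : IsPullback (pullback.snd c.a c.a).left (pullback.fst c.a c.a).left c.a.left c.a.left :=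
    ((IsPullback.of_hasPullback c.a c.a).map (Over.forget S)).flip
  have : LocallyOfFinitePresentation (pullback.fst c.a c.a).left :=
    MorphismProperty.of_isPullback sqa (inferInstance : LocallyOfFinitePresentation c.a.left)
  have eμ : m₂.left ≫ (pullback.fst c.α s).left = μ.left ≫ (pullback.fst c.a c.a).left ∧
      m₂.left ≫ q₂.left ≫ t.left = μ.left ≫ (pullback.snd c.a c.a).left ≫ c.α.left := by
    constructor
    · simp only [← Over.comp_left, μ, pullback.lift_fst]
    · simp only [← Over.comp_left, μ, pullback.lift_snd_assoc]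
      rw [hnα]
  have hsnd : (pullback.snd c.a c.a).left (μ.left m) = x := by
    rw [← Scheme.Hom.comp_apply, ← Over.comp_left, pullback.lift_snd, hnm]
  constructor
  · intro hr
    have h2 : FGood G (pullback.fst c.α s).left (q₂.left ≫ t.left) (m₂.left m) :=
      fgood_baseChange G sq₂ t.left (by rw [hqm]; exact hr)
    rw [fgood_comp] at h2
    rw [eμ.1, eμ.2, ← fgood_comp] at h2
    have h3 := fgood_descend G sqa c.α.left h2
    rwa [hsnd] at h3
  · intro hx
    have h2 : FGood G (pullback.fst c.a c.a).left ((pullback.snd c.a c.a).left ≫ c.α.left) (μ.left m) :=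
      fgood_baseChange G sqa c.α.left (by rw [hsnd]; exact hx)
    rw [fgood_comp] at h2
    rw [← eμ.1, ← eμ.2, ← fgood_comp] at h2
    have h3 := fgood_descend G sq₂ t.left h2
    rwa [hqm] at h3

end Groth.L24.Boot
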