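import Groth.Agent.L27.AlgebraMisc
import Mathlib.Combinatorics.Nullstellensatz
import Mathlib.RingTheory.TensorProduct.Maps
import Mathlib.RingTheory.Etale.Basic
import Mathlib.FieldTheory.IsAlgClosed.Basic

/-!
Roots of unity as etale families of points of affine space avoiding hypersurfaces.
-/

set_option autoImplicit false

universe u

open TensorProduct

namespace Groth.L24.Boot

/-- An `n`-th root of unity is given by an etale algebra over any ring. -/
theorem exists_root1 (R : Type u) [CommRing R] (n : ℕ) (hn : 1 ≤ n) :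
    ∃ (E : Type u) (_ : CommRing E) (_ : Algebra R E) (_ : Algebra.Etale R E)
      (r : E), ∀ (K : Type u) [Field K] [Algebra R K] (x : K),
        (n : K) ≠ 0 → x ^ n = 1 → ∃ ψ : E →ₐ[R] K, ψ r = x := by
  let A0 := Localization.Away ((n : ℕ) : R)
  let E1 := AdjoinRoot ((Polynomial.X : Polynomial A0) ^ n - 1)
  have h1 : Algebra.Etale A0 E1 := (Groth.L27.AlgebraMisc.rootsOfUnity_etale_iff A0 n hn).2 (by
    simpa using IsLocalization.Away.algebraMap_isUnit (S := A0) ((n : ℕ) : R))
  have h0 : Algebra.Etale R A0 := Algebra.Etale.of_isLocalizationAway ((n : ℕ) : R)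
  have : Algebra.Etale R E1 := Algebra.Etale.comp R A0 E1
  refine ⟨E1, inferInstance, inferInstance, this, AdjoinRoot.root _, fun K _ _ x hK hx => ?_⟩
  let c : A0 →ₐ[R] K := IsLocalization.Away.liftAlgHom ((n : ℕ) : R) (f := Algebra.ofId R K)
    (by rw [map_natCast]; exact isUnit_iff_ne_zero.2 hK)
  exact ⟨AdjoinRoot.liftAlgHom _ c x (by
    rw [Polynomial.eval₂_sub, Polynomial.eval₂_X_pow, Polynomial.eval₂_one, hx, sub_self]),
    AdjoinRoot.liftAlgHom_root _ _ _ _⟩

/-- Finitely many `n`-th roots of unity are given by an etale algebra over any ring. -/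
theorem exists_rootsAlgebra (R : Type u) [CommRing R] (n : ℕ) (hn : 1 ≤ n) (d : ℕ) :
    ∃ (E : Type u) (_ : CommRing E) (_ : Algebra R E) (_ : Algebra.Etale R E)
      (r : Fin d → E), ∀ (K : Type u) [Field K] [Algebra R K] (x : Fin d → K),
        (n : K) ≠ 0 → (∀ i, x i ^ n = 1) → ∃ ψ : E →ₐ[R] K, ∀ i, ψ (r i) = x i := by
  induction d with
  | zero => exact ⟨R, inferInstance, inferInstance, inferInstance, Fin.elim0, fun K _ _ _ _ _ =>
      ⟨Algebra.ofId R K, fun i => i.elim0⟩⟩
  | succ d ih =>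
    obtain ⟨E, _, _, _, r, hr⟩ := ih
    obtain ⟨E1, _, _, _, r1, hr1⟩ := exists_root1 R n hn
    have : Algebra.Etale R (E ⊗[R] E1) := Algebra.Etale.comp R E _
    refine ⟨E ⊗[R] E1, inferInstance, inferInstance, inferInstance,
      Fin.snoc (fun i => r i ⊗ₜ 1) (1 ⊗ₜ r1), fun K _ _ x hK hx => ?_⟩
    obtain ⟨ψ, hψ⟩ := hr K (fun i => x i.castSucc) hK (fun i => hx _)
    obtain ⟨ψ1, hψ1⟩ := hr1 K (x (Fin.last d)) hK (hx _)
    refine ⟨Algebra.TensorProduct.productMap ψ ψ1, Fin.lastCases ?_ fun i => ?_⟩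
    · simp [hψ1]
    · simp [hψ]

/-- A nonzero polynomial is nonzero at some tuple of roots of unity of a common order. -/
theorem exists_roots_avoid {K : Type u} [Field K] [IsAlgClosed K] {σ : Type*} [Finite σ]
    (f : MvPolynomial σ K) (hf : f ≠ 0) :
    ∃ n : ℕ, 1 ≤ n ∧ (n : K) ≠ 0 ∧ ∃ x : σ → K, (∀ i, x i ^ n = 1) ∧ MvPolynomial.eval x f ≠ 0 := by
  classical
  obtain ⟨n, hn, hp⟩ := Nat.exists_infinite_primes (f.totalDegree + ringChar K + 1)
  have hnK : (n : K) ≠ 0 := fun h => by
    have hd : ringChar K ∣ n := (ringChar.spec K n).1 h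
    rcases (Nat.dvd_prime hp).1 hd with h1 | h1
    · exact absurd h1 (CharP.ringChar_ne_one)
    · omega
  refine ⟨n, hp.one_le, hnK, ?_⟩
  let q : Polynomial K := Polynomial.X ^ n - Polynomial.C 1
  have hsep : q.Separable := Polynomial.separable_X_pow_sub_C 1 hnK one_ne_zero
  have hcard : q.roots.toFinset.card = n := by
    rw [Multiset.toFinset_card_of_nodup (Polynomial.nodup_roots hsep), IsAlgClosed.card_roots_eq_natDegree,
      Polynomial.natDegree_X_pow_sub_C]
  by_contra h
  push Not at h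
  refine hf (MvPolynomial.eq_zero_of_eval_zero_at_prod_finset f (fun _ => q.roots.toFinset) (fun i => ?_)
    fun x hx => h x fun i => ?_)
  · rw [hcard]
    exact lt_of_le_of_lt (MvPolynomial.degreeOf_le_totalDegree f i) (by omega)
  · have := hx i
    rw [Multiset.mem_toFinset, Polynomial.mem_roots (hsep.ne_zero), Polynomial.IsRoot,
      Polynomial.eval_sub, Polynomial.eval_X_pow, Polynomial.eval_C, sub_eq_zero] at this
    exact this

end Groth.L24.Boot
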