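import Groth.Agent.L24.Boot.SliceRel
import Groth.Agent.L24.Boot.RootsUnity
import Mathlib.AlgebraicGeometry.Limits
import Mathlib.FieldTheory.IsAlgClosed.AlgebraicClosure

/-!
A sheaf with smooth surjective charts is an algebraic space.
-/

set_option autoImplicit false
set_option backward.isDefEq.respectTransparency false
set_option backward.isDefEq.respectTransparency.types false

universe u

open CategoryTheory CategoryTheory.Limits AlgebraicGeometry Opposite AlgSp

noncomputable section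

namespace Groth.L24.Boot

variable {σ : Type u}

theorem specMap_toSpec_eq {K : Type u} [CommRing K] (k : σ → K)
    (h : MvPolynomial σ (ULift.{u} ℤ) →+* K) (hk : ∀ i, h (.X i) = k i) :
    Spec.map (CommRingCat.ofHom h) =
      Spec.map (CommRingCat.ofHom (MvPolynomial.eval k)) ≫
        (AffineSpace.SpecIso σ (CommRingCat.of K)).inv ≫ AffineSpace.toSpecMvPoly σ _ := by
  apply (AffineSpace.toSpecMvPolyIntEquiv σ).injective
  ext i
  rw [toSpecMvPolyIntEquiv_specMap, AffineSpace.toSpecMvPolyIntEquiv_comp,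
    AffineSpace.toSpecMvPolyIntEquiv_comp]
  change _ = (Spec.map _).appTop ((AffineSpace.SpecIso σ (CommRingCat.of K)).inv.appTop (AffineSpace.coord _ i))
  rw [AffineSpace.SpecIso_inv_appTop_coord, ← CommRingCat.comp_apply _ ((Spec.map _).appTop),
    ← Scheme.ΓSpecIso_inv_naturality, CommRingCat.comp_apply]
  exact congrArg (Scheme.ΓSpecIso (CommRingCat.of K)).inv ((hk i).trans (MvPolynomial.eval_X i).symm)

/-- An etale map to relative affine space makes the fibre over an etale point family etale over the base. -/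
theorem etale_fst_comp {X T : Scheme.{u}} (f : X ⟶ T) (g : X ⟶ AffZ σ) [Etale (affLift f g)]
    {E : Scheme.{u}} (φ : E ⟶ AffZ σ) (hE : Etale (terminal.from E)) :
    Etale (pullback.fst g φ ≫ f) := by
  let toZ := AffineSpace.toSpecMvPoly σ T
  have sq1 : IsPullback (pullback.fst toZ φ ≫ 𝔸(σ; T) ↘ T) (pullback.snd toZ φ) (terminal.from T)
      (terminal.from E) := by
    rw [← terminal.comp_from φ]
    exact (IsPullback.of_hasPullback toZ φ).paste_horiz
      (show IsPullback (𝔸(σ; T) ↘ T) toZ (terminal.from T) (terminal.from (AffZ σ)) from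
        IsPullback.of_hasPullback _ _)
  have h1 : Etale (pullback.fst toZ φ ≫ 𝔸(σ; T) ↘ T) :=
    MorphismProperty.of_isPullback sq1.flip hE
  let k : pullback g φ ⟶ pullback toZ φ :=
    pullback.lift (pullback.fst g φ ≫ affLift f g) (pullback.snd g φ)
      (by rw [Category.assoc, affLift_toSpec, pullback.condition])
  have sq2 : IsPullback k (pullback.fst g φ) (pullback.fst toZ φ) (affLift f g) := by
    refine IsPullback.of_right ?_ (pullback.lift_fst _ _ _) (IsPullback.of_hasPullback toZ φ).flip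
    rw [pullback.lift_snd, affLift_toSpec]
    exact (IsPullback.of_hasPullback g φ).flip
  have hk : Etale k := MorphismProperty.of_isPullback sq2.flip (inferInstance : Etale (affLift f g))
  have e : pullback.fst g φ ≫ f = k ≫ pullback.fst toZ φ ≫ 𝔸(σ; T) ↘ T := by
    rw [← Category.assoc, pullback.lift_fst, Category.assoc, affLift_over]
  rw [e]
  exact MorphismProperty.comp_mem _ _ _ hk h1

/-- An open map to affine space hits a point of roots of unity over every point of the base in its image. -/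
theorem exists_rootPoint [Finite σ] {X T : Scheme.{u}} (f : X ⟶ T) (g : X ⟶ AffZ σ)
    [UniversallyOpen (affLift f g)] (x : X) :
    ∃ n : ℕ, 1 ≤ n ∧ ∃ (K : Type u) (_ : Field K) (_ : Algebra (ULift.{u} ℤ) K) (k : σ → K),
      (n : K) ≠ 0 ∧ (∀ i, k i ^ n = 1) ∧
      ∀ (h : MvPolynomial σ (ULift.{u} ℤ) →+* K), (∀ i, h (.X i) = k i) →
        ∃ (x' : X) (q : Spec (CommRingCat.of K)), f x' = f x ∧ g x' = Spec.map (CommRingCat.ofHom h) q := by
  let K := AlgebraicClosure (T.residueField (f x))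
  let : Algebra (ULift.{u} ℤ) K := ((Int.castRingHom K).comp ULift.ringEquiv.toRingHom).toAlgebra
  let st : Spec (CommRingCat.of K) ⟶ T :=
    Spec.map (CommRingCat.ofHom (algebraMap (T.residueField (f x)) K)) ≫ T.fromSpecResidueField (f x)
  have hst : ∀ q, st q = f x := fun q => by
    rw [Scheme.Hom.comp_apply]
    exact Scheme.fromSpecResidueField_apply _ _
  let e : Spec (CommRingCat.of (MvPolynomial σ K)) ⟶ 𝔸(σ; T) :=
    (AffineSpace.SpecIso σ (CommRingCat.of K)).inv ≫ AffineSpace.map σ st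
  let O : 𝔸(σ; T).Opens := ⟨Set.range (affLift f g), (affLift f g).isOpenMap.isOpen_range⟩
  obtain ⟨w, hw, -⟩ := exists_point (AffineSpace.isPullback_map (n := σ) st) (affLift f g x)
    (default : Spec (CommRingCat.of K)) (by
      rw [hst, ← Scheme.Hom.comp_apply, affLift_over])
  obtain ⟨P, hP⟩ : ∃ P, e P = affLift f g x := ⟨(AffineSpace.SpecIso σ (CommRingCat.of K)).hom w, by
    rw [← Scheme.Hom.comp_apply, Iso.hom_inv_id_assoc]; exact hw⟩
  obtain ⟨_, ⟨_, ⟨F, rfl⟩, rfl⟩, hPF, hF⟩ := PrimeSpectrum.isBasis_basic_opens.exists_subset_of_mem_open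
    (show P ∈ e ⁻¹' (O : Set 𝔸(σ; T)) from ⟨x, hP.symm⟩) (O.2.preimage e.continuous)
  have hF0 : F ≠ 0 := fun h => hPF (by rw [h]; exact P.asIdeal.zero_mem)
  obtain ⟨n, hn, hnK, k, hk, hkF⟩ := exists_roots_avoid F hF0
  refine ⟨n, hn, K, inferInstance, inferInstance, k, hnK, hk, fun h hh => ?_⟩
  let q : Spec (CommRingCat.of K) := default
  obtain ⟨x', hx'⟩ : e (Spec.map (CommRingCat.ofHom (MvPolynomial.eval k)) q) ∈ O := hF (by
    show F ∉ Ideal.comap (MvPolynomial.eval k) q.asIdeal
    rw [Ideal.mem_comap]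
    exact fun hm => q.isPrime.ne_top (Ideal.eq_top_of_isUnit_mem _ hm (isUnit_iff_ne_zero.2 hkF)))
  refine ⟨x', q, ?_, ?_⟩
  · have := congrArg (fun z => (𝔸(σ; T) ↘ T) z) hx'
    simp only [← Scheme.Hom.comp_apply, affLift_over, e, Category.assoc, AffineSpace.map_over] at this
    rw [this]
    simp only [Scheme.Hom.comp_apply]
    exact hst _
  · rw [specMap_toSpec_eq k h hh]
    have := congrArg (fun z => (AffineSpace.toSpecMvPoly σ T) z) hx'
    simpa only [← Scheme.Hom.comp_apply, affLift_toSpec, e, Category.assoc,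
      AffineSpace.map_toSpecMvPoly] using this

theorem etale_terminal_specEtale (E : Type u) [CommRing E] [Algebra (ULift.{u} ℤ) E]
    [Algebra.Etale (ULift.{u} ℤ) E] : Etale (terminal.from (Spec (CommRingCat.of E))) := by
  have := isIso_of_isTerminal specULiftZIsTerminal.{u} terminalIsTerminal (terminal.from _)
  rw [← terminal.comp_from (Spec.map (CommRingCat.ofHom (algebraMap (ULift.{u} ℤ) E)))]
  refine (MorphismProperty.cancel_right_of_respectsIso (P := @Etale) _ _).2 ?_
  exact HasRingHomProperty.Spec_iff.2 (RingHom.etale_algebraMap.2 inferInstance)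

variable {S : Scheme.{u}} {F : Sp S} {U : Over S} {p : (yon S).obj U ⟶ F}

/-- Charts restrict along any map to the source of the presentation. -/
def Chart.restrict {T : Over S} {ξ : (yon S).obj T ⟶ F} (c : Chart p ξ) {W : Over S} (w : W ⟶ U) :
    Chart ((yon S).map w ≫ p) ξ := by
  let a' := pullback.fst c.α w ≫ c.a
  let α' := pullback.snd c.α w
  have hw : (yon S).map a' ≫ ξ = (yon S).map α' ≫ (yon S).map w ≫ p := by
    simp only [a', α', Functor.map_comp, Category.assoc, c.w]
    rw [← Functor.map_comp_assoc, ← Functor.map_comp_assoc, pullback.condition]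
  let k : pullback ξ ((yon S).map w ≫ p) ⟶ pullback ξ p :=
    pullback.lift (pullback.fst _ _) (pullback.snd _ _ ≫ (yon S).map w)
      (by rw [Category.assoc, pullback.condition])
  have sqk : IsPullback (pullback.snd ξ ((yon S).map w ≫ p)) k ((yon S).map w) (pullback.snd ξ p) := by
    refine IsPullback.of_bot ?_ (by simp [k]) (IsPullback.of_hasPullback ξ p).flip
    simpa [k] using (IsPullback.of_hasPullback ξ ((yon S).map w ≫ p)).flip
  have sq : IsPullback ((yon S).map (pullback.fst c.α w))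
      (pullback.lift ((yon S).map a') ((yon S).map α') hw)
      (pullback.lift ((yon S).map c.a) ((yon S).map c.α) c.w) k := by
    refine IsPullback.of_bot ?_ ?_ sqk.flip
    · simp only [pullback.lift_snd]
      exact (IsPullback.of_hasPullback c.α w).map (yon S)
    · apply pullback.hom_ext
      · simp only [k, a', Category.assoc, pullback.lift_fst, Functor.map_comp]
      · simp only [k, α', Category.assoc, pullback.lift_snd, pullback.lift_snd_assoc]
        rw [← Functor.map_comp, ← Functor.map_comp, pullback.condition]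
  exact ⟨pullback c.α w, a', α', hw, Groth.L23.repWith_of_isPullback sq c.etale,
    Groth.L23.repWith_of_isPullback sq c.surj⟩

set_option maxHeartbeats 1000000 in
/-- A sheaf with smooth surjective charts is an algebraic space. -/
theorem isAlgSpace_of_smoothCharts (h : HasCharts (@Smooth ⊓ @Surjective) p) : IsAlgSpace F := by
  classical
  obtain ⟨c₀, hs₀, hs₀'⟩ := h p
  have : Smooth c₀.a.left := hs₀
  have : Surjective c₀.a.left := hs₀'
  obtain ⟨ht₀, ht₀', hfu⟩ := relation_props c₀
  have hu : ∀ u : U.left, ∃ (V : U.left.Opens) (κ : Type u) (_ : Finite κ) (G : V.toScheme ⟶ AffZ κ)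
      (U0 : U.left.Opens), U0 ≤ V ∧ u ∈ U0 ∧
        ∀ v ∈ U0, ∃ r, c₀.α.left r = v ∧ Good G c₀.a.left c₀.α.left r := fun u => by
    obtain ⟨r, rfl⟩ := c₀.α.left.surjective u
    exact exists_coordChart c₀.a.left c₀.α.left hfu r
  choose V κ hκ G U0 hle hmem hgood using hu
  have hE : ∀ i : U.left × {n : ℕ // 1 ≤ n}, ∃ (E : Type u) (_ : CommRing E)
      (_ : Algebra (ULift.{u} ℤ) E) (_ : Algebra.Etale (ULift.{u} ℤ) E) (r : κ i.1 → E),
      ∀ (K : Type u) [Field K] [Algebra (ULift.{u} ℤ) K] (x : κ i.1 → K),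
        (i.2.1 : K) ≠ 0 → (∀ j, x j ^ i.2.1 = 1) → ∃ ψ : E →ₐ[ULift.{u} ℤ] K, ∀ j, ψ (r j) = x j := fun i => by
    have := hκ i.1
    obtain ⟨d, ⟨e⟩⟩ := Finite.exists_equiv_fin (κ i.1)
    obtain ⟨E, i1, i2, i3, r, hr⟩ := exists_rootsAlgebra (ULift.{u} ℤ) i.2.1 i.2.2 d
    refine ⟨E, i1, i2, i3, r ∘ e, fun K _ _ x hK hx => ?_⟩
    obtain ⟨ψ, hψ⟩ := hr K (x ∘ e.symm) hK (fun j => hx _)
    exact ⟨ψ, fun j => by simpa using hψ (e j)⟩
  choose E iE1 iE2 iE3 r hr using hE
  let ι := U.left × {n : ℕ // 1 ≤ n}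
  let φ : ∀ i : ι, Spec (CommRingCat.of (E i)) ⟶ AffZ (κ i.1) := fun i =>
    Spec.map (CommRingCat.ofHom (MvPolynomial.aeval (r i) :
      MvPolynomial (κ i.1) (ULift.{u} ℤ) →ₐ[ULift.{u} ℤ] E i).toRingHom)
  let G0 : ∀ u, (U0 u).toScheme ⟶ AffZ (κ u) := fun u => U.left.homOfLE (hle u) ≫ G u
  let Wi : ι → Scheme.{u} := fun i => pullback (G0 i.1) (φ i)
  let wi : ∀ i, Wi i ⟶ U.left := fun i => pullback.fst (G0 i.1) (φ i) ≫ (U0 i.1).ι
  let W : Over S := Over.mk (Sigma.desc wi ≫ U.hom)
  let w : W ⟶ U := Over.homMk (Sigma.desc wi) rfl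
  refine isAlgSpace_of_hasCharts (p := (yon S).map w ≫ p) fun T ξ => ?_
  obtain ⟨c, hca, hca'⟩ := h ξ
  have : Smooth c.a.left := hca
  have : Surjective c.a.left := hca'
  -- etale coordinates on every piece of the chart
  have hψ : ∀ u, Etale (affLift ((c.α.left ⁻¹ᵁ U0 u).ι ≫ c.a.left) ((c.α.left ∣_ U0 u) ≫ G0 u)) := fun u => by
    have := hκ u
    refine etale_affLift_of_good (G u) (hle u) c.a.left c.α.left fun x hx => ?_
    obtain ⟨r₀, hr₀, hg⟩ := hgood u _ hx
    exact good_transfer (G u) c₀ c x r₀ hr₀ hg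
  -- the pieces of the restricted chart
  let g : ∀ u, (c.α.left ⁻¹ᵁ U0 u).toScheme ⟶ AffZ (κ u) := fun u => (c.α.left ∣_ U0 u) ≫ G0 u
  let P : ι → Scheme.{u} := fun i => pullback (c.α.left ∣_ U0 i.1) (pullback.fst (G0 i.1) (φ i))
  have hP : ∀ i, IsPullback (pullback.fst _ _ ≫ (c.α.left ⁻¹ᵁ U0 i.1).ι) (pullback.snd _ _ : P i ⟶ Wi i)
      c.α.left (wi i) := fun i =>
    (IsPullback.of_hasPullback _ _).paste_horiz (isPullback_morphismRestrict c.α.left (U0 i.1)).flip
  have hP' : ∀ i, IsPullback (pullback.fst (c.α.left ∣_ U0 i.1) (pullback.fst (G0 i.1) (φ i)))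
      (pullback.snd _ _ ≫ pullback.snd (G0 i.1) (φ i)) (g i.1) (φ i) := fun i =>
    (IsPullback.of_hasPullback _ _).paste_vert (IsPullback.of_hasPullback (G0 i.1) (φ i))
  have sqA : IsPullback (pullback.fst c.α w).left (pullback.snd c.α w).left c.α.left w.left :=
    (IsPullback.of_hasPullback c.α w).map (Over.forget S)
  refine ⟨c.restrict w, ?_, ?_⟩
  · show Etale ((pullback.fst c.α w).left ≫ c.a.left)
    rw [← sqA.isoPullback_hom_fst, Category.assoc]
    refine (MorphismProperty.cancel_left_of_respectsIso @Etale _ _).2 ?_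
    refine IsZariskiLocalAtSource.of_openCover (P := @Etale)
      (Scheme.Pullback.openCoverOfRight (sigmaOpenCover Wi) c.α.left w.left) fun i => ?_
    have hi : (sigmaOpenCover Wi).f i ≫ w.left = wi i := Sigma.ι_desc _ _
    have sqi : IsPullback (pullback.fst c.α.left ((sigmaOpenCover Wi).f i ≫ w.left))
        (pullback.snd c.α.left ((sigmaOpenCover Wi).f i ≫ w.left)) c.α.left (wi i) := by
      exact (IsPullback.of_hasPullback c.α.left ((sigmaOpenCover Wi).f i ≫ w.left)).of_iso
        (Iso.refl _) (Iso.refl _) (Iso.refl _) (Iso.refl _) (by simp) (by simp) (by simp) (by rw [Iso.refl_hom, Iso.refl_hom, Category.comp_id, Category.id_comp]; exact hi)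
    have e : (Scheme.Pullback.openCoverOfRight (sigmaOpenCover Wi) c.α.left w.left).f i ≫
        pullback.fst c.α.left w.left ≫ c.a.left =
        pullback.fst c.α.left ((sigmaOpenCover Wi).f i ≫ w.left) ≫ c.a.left := by
      simp
    rw [e, ← IsPullback.isoIsPullback_hom_fst _ _ sqi (hP i), Category.assoc, Category.assoc]
    refine (MorphismProperty.cancel_left_of_respectsIso @Etale _ _).2 ?_
    rw [← (hP' i).isoPullback_hom_fst, Category.assoc]
    refine (MorphismProperty.cancel_left_of_respectsIso @Etale _ _).2 ?_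
    have := hψ i.1
    exact etale_fst_comp _ _ _ (etale_terminal_specEtale _)
  · refine ⟨fun t => ?_⟩
    obtain ⟨x, rfl⟩ := c.a.left.surjective t
    let u := c.α.left x
    have := hκ u
    have := hψ u
    obtain ⟨n, hn, K, _, _, k, hnK, hk, hx⟩ :=
      exists_rootPoint ((c.α.left ⁻¹ᵁ U0 u).ι ≫ c.a.left) (g u) ⟨x, hmem u⟩
    let i : ι := (u, ⟨n, hn⟩)
    obtain ⟨ψ, hψ'⟩ := hr i K k hnK hk
    obtain ⟨x', q, hx', hq⟩ := hx
      (ψ.toRingHom.comp (MvPolynomial.aeval (r i) :
        MvPolynomial (κ u) (ULift.{u} ℤ) →ₐ[ULift.{u} ℤ] E i).toRingHom) (fun j => by simp [hψ'])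
    rw [CommRingCat.ofHom_comp, Spec.map_comp, Scheme.Hom.comp_apply] at hq
    obtain ⟨z, hz1, -⟩ := exists_point (hP' i) x' _ hq
    obtain ⟨z', hz1', -⟩ := exists_point sqA ((c.α.left ⁻¹ᵁ U0 u).ι x')
      ((Sigma.ι Wi i) (pullback.snd (c.α.left ∣_ U0 u) (pullback.fst (G0 u) (φ i)) z)) (by
        show _ = (Sigma.desc wi) _
        rw [← Scheme.Hom.comp_apply (Sigma.ι Wi i), Sigma.ι_desc, ← hz1, ← Scheme.Hom.comp_apply,
          ← Scheme.Hom.comp_apply, ← Scheme.Hom.comp_apply]
        refine congrArg (fun f : P i ⟶ U.left => f z) ?_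
        rw [← Category.assoc]
        exact (hP i).w)
    refine ⟨z', ?_⟩
    show ((pullback.fst c.α w).left ≫ c.a.left) z' = _
    rw [Scheme.Hom.comp_apply, hz1', ← Scheme.Hom.comp_apply, hx', Scheme.Hom.comp_apply]
    rfl

end Groth.L24.Boot
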