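import Groth.Agent.L24.Boot.FQRel
import Groth.Agent.L24.Boot.Slicing

/-!
Flat charts of finite presentation can be sliced to flat quasi-finite charts.
-/

set_option autoImplicit false
set_option backward.isDefEq.respectTransparency false
set_option backward.isDefEq.respectTransparency.types false

universe u

open CategoryTheory CategoryTheory.Limits AlgebraicGeometry Opposite AlgSp

noncomputable section

namespace Groth.L24.Boot

variable {σ : Type u}

/-- A map to relative affine space with a property makes the fibre over a point family have it over the base. -/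
theorem fst_comp_of_affLift (P : MorphismProperty Scheme.{u}) [P.IsStableUnderBaseChange]
    [P.IsStableUnderComposition] {X T : Scheme.{u}} (f : X ⟶ T) (g : X ⟶ AffZ σ) (h : P (affLift f g))
    {E : Scheme.{u}} (φ : E ⟶ AffZ σ) (hE : P (terminal.from E)) :
    P (pullback.fst g φ ≫ f) := by
  let toZ := AffineSpace.toSpecMvPoly σ T
  have sq1 : IsPullback (pullback.fst toZ φ ≫ 𝔸(σ; T) ↘ T) (pullback.snd toZ φ) (terminal.from T)
      (terminal.from E) := by
    rw [← terminal.comp_from φ]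
    exact (IsPullback.of_hasPullback toZ φ).paste_horiz
      (show IsPullback (𝔸(σ; T) ↘ T) toZ (terminal.from T) (terminal.from (AffZ σ)) from
        IsPullback.of_hasPullback _ _)
  have h1 : P (pullback.fst toZ φ ≫ 𝔸(σ; T) ↘ T) := MorphismProperty.of_isPullback sq1.flip hE
  let k : pullback g φ ⟶ pullback toZ φ :=
    pullback.lift (pullback.fst g φ ≫ affLift f g) (pullback.snd g φ)
      (by rw [Category.assoc, affLift_toSpec, pullback.condition])
  have sq2 : IsPullback k (pullback.fst g φ) (pullback.fst toZ φ) (affLift f g) := by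
    refine IsPullback.of_right ?_ (pullback.lift_fst _ _ _) (IsPullback.of_hasPullback toZ φ).flip
    rw [pullback.lift_snd, affLift_toSpec]
    exact (IsPullback.of_hasPullback g φ).flip
  have hk : P k := MorphismProperty.of_isPullback sq2.flip h
  have e : pullback.fst g φ ≫ f = k ≫ pullback.fst toZ φ ≫ 𝔸(σ; T) ↘ T := by
    rw [← Category.assoc, pullback.lift_fst, Category.assoc, affLift_over]
  rw [e]
  exact P.comp_mem _ _ hk h1

variable {S : Scheme.{u}} {F : Sp S} {U : Over S} {p : (yon S).obj U ⟶ F}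

/-- Over every point of the base, a chart has a point with flat quasi-finite coordinates. -/
theorem exists_fgood_chart {T : Over S} {ξ : (yon S).obj T ⟶ F} (c : Chart p ξ) [Flat c.a.left]
    [LocallyOfFinitePresentation c.a.left] [Surjective c.a.left] (t : T.left) :
    ∃ (V : U.left.Opens) (_ : IsAffineOpen V) (d : ℕ) (b : ULift.{u} (Fin d) → Γ(U.left, V)) (x : c.A.left),
      c.a.left x = t ∧ FGood (coordMap V b) c.a.left c.α.left x := by
  obtain ⟨x₀, rfl⟩ := c.a.left.surjective t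
  let t := c.a.left x₀
  let h := T.left.fromSpecResidueField t
  let q := pullback.fst c.a.left h
  let f' := pullback.snd c.a.left h
  obtain ⟨δ, hδ⟩ : ∃ δ : c.A.left ⟶ pullback (terminal.from T.left) (terminal.from U.left),
      δ = pullback.lift c.a.left c.α.left (terminal.hom_ext _ _) := ⟨_, rfl⟩
  have hfu : FormallyUnramified δ := by rw [hδ]; exact fu_pair c
  let δ' : pullback c.a.left h ⟶ pullback (terminal.from (Spec (T.left.residueField t))) (terminal.from U.left) :=
    pullback.lift f' (q ≫ c.α.left) (terminal.hom_ext _ _)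
  have hfu' : FormallyUnramified δ' := by
    let m : pullback (terminal.from (Spec (T.left.residueField t))) (terminal.from U.left) ⟶
        pullback (terminal.from T.left) (terminal.from U.left) :=
      pullback.lift (pullback.fst _ _ ≫ h) (pullback.snd _ _) (terminal.hom_ext _ _)
    have e : δ' ≫ m = q ≫ δ := by
      rw [hδ]
      apply pullback.hom_ext <;> simp [δ', m, q, f', pullback.condition]
    have : FormallyUnramified q := inferInstance
    have : FormallyUnramified (δ' ≫ m) := by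
      rw [e]; exact MorphismProperty.comp_mem _ _ _ (inferInstance : FormallyUnramified q) hfu
    exact FormallyUnramified.of_comp δ' m
  obtain ⟨z₀, -, -⟩ := exists_point (IsPullback.of_hasPullback c.a.left h) x₀
    (IsLocalRing.closedPoint (T.left.residueField t)) (Scheme.fromSpecResidueField_apply _ _).symm
  obtain ⟨V, hV, d, b, z, hz⟩ := exists_fgood (k := T.left.residueField t) f' (q ≫ c.α.left) hfu' z₀
  refine ⟨V, hV, d, b, q z, ?_, fgood_descend _ (IsPullback.of_hasPullback c.a.left h) c.α.left hz⟩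
  rw [← Scheme.Hom.comp_apply, show q ≫ c.a.left = f' ≫ h from pullback.condition, Scheme.Hom.comp_apply]
  exact Scheme.fromSpecResidueField_apply _ _

set_option maxHeartbeats 400000 in
/-- A sheaf with flat surjective charts of finite presentation has flat quasi-finite ones. -/
theorem exists_lqfCharts (h : HasCharts (@Flat ⊓ @LocallyOfFinitePresentation ⊓ @Surjective) p) :
    ∃ (W : Over S) (w : W ⟶ U),
      HasCharts (@Flat ⊓ @LocallyQuasiFinite ⊓ @LocallyOfFinitePresentation ⊓ @Surjective)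
        ((yon S).map w ≫ p) := by
  classical
  obtain ⟨c₀, ⟨hs₁, hs₂⟩, hs₃⟩ := h p
  have : Flat c₀.a.left := hs₁
  have : LocallyOfFinitePresentation c₀.a.left := hs₂
  have : Surjective c₀.a.left := hs₃
  obtain ⟨_, _, _⟩ := flat_relation c₀
  let ι₀ := Σ (V : {V : U.left.Opens // IsAffineOpen V}) (d : ℕ), (ULift.{u} (Fin d) → Γ(U.left, V.1))
  let G : ∀ i : ι₀, i.1.1.toScheme ⟶ AffZ (ULift.{u} (Fin i.2.1)) := fun i => coordMap i.1.1 i.2.2
  obtain ⟨U0, hle, hmemU⟩ : ∃ (U0 : ι₀ → U.left.Opens) (_ : ∀ i, U0 i ≤ i.1.1),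
      ∀ i x, x ∈ U0 i ↔ ∃ r, FGood (G i) c₀.a.left c₀.α.left r ∧ c₀.α.left r = x :=
    ⟨fun i => ⟨c₀.α.left '' {r | FGood (G i) c₀.a.left c₀.α.left r}, c₀.α.left.isOpenMap _ (isOpen_fgood _ _ _)⟩,
      fun i => by rintro _ ⟨r, ⟨hr, -⟩, rfl⟩; exact hr, fun i x => Iff.rfl⟩
  let ι := ι₀ × {n : ℕ // 1 ≤ n}
  have hE : ∀ i : ι, ∃ (E : Type u) (_ : CommRing E)
      (_ : Algebra (ULift.{u} ℤ) E) (_ : Algebra.Etale (ULift.{u} ℤ) E) (r : ULift.{u} (Fin i.1.2.1) → E),
      ∀ (K : Type u) [Field K] [Algebra (ULift.{u} ℤ) K] (x : ULift.{u} (Fin i.1.2.1) → K),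
        (i.2.1 : K) ≠ 0 → (∀ j, x j ^ i.2.1 = 1) → ∃ ψ : E →ₐ[ULift.{u} ℤ] K, ∀ j, ψ (r j) = x j := fun i => by
    obtain ⟨E, i1, i2, i3, r, hr⟩ := exists_rootsAlgebra (ULift.{u} ℤ) i.2.1 i.2.2 i.1.2.1
    refine ⟨E, i1, i2, i3, r ∘ ULift.down, fun K _ _ x hK hx => ?_⟩
    obtain ⟨ψ, hψ⟩ := hr K (x ∘ ULift.up) hK (fun j => hx _)
    exact ⟨ψ, fun j => hψ j.down⟩
  choose E iE1 iE2 iE3 r hr using hE
  let φ : ∀ i : ι, Spec (CommRingCat.of (E i)) ⟶ AffZ (ULift.{u} (Fin i.1.2.1)) := fun i =>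
    Spec.map (CommRingCat.ofHom (MvPolynomial.aeval (r i) :
      MvPolynomial (ULift.{u} (Fin i.1.2.1)) (ULift.{u} ℤ) →ₐ[ULift.{u} ℤ] E i).toRingHom)
  let G0 : ∀ i, (U0 i).toScheme ⟶ AffZ (ULift.{u} (Fin i.2.1)) := fun i => U.left.homOfLE (hle i) ≫ G i
  let Wi : ι → Scheme.{u} := fun i => pullback (G0 i.1) (φ i)
  let wi : ∀ i, Wi i ⟶ U.left := fun i => pullback.fst (G0 i.1) (φ i) ≫ (U0 i.1).ι
  let W : Over S := Over.mk (Sigma.desc wi ≫ U.hom)
  let w : W ⟶ U := Over.homMk (Sigma.desc wi) rfl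
  refine ⟨W, w, fun T ξ => ?_⟩
  obtain ⟨c, ⟨hca₁, hca₂⟩, hca₃⟩ := h ξ
  have : Flat c.a.left := hca₁
  have : LocallyOfFinitePresentation c.a.left := hca₂
  have : Surjective c.a.left := hca₃
  -- flat quasi-finite coordinates on every piece of the chart
  let g : ∀ i, (c.α.left ⁻¹ᵁ U0 i).toScheme ⟶ AffZ (ULift.{u} (Fin i.2.1)) := fun i => (c.α.left ∣_ U0 i) ≫ G0 i
  have hψ : ∀ i, Flat (affLift ((c.α.left ⁻¹ᵁ U0 i).ι ≫ c.a.left) (g i)) ∧
      LocallyQuasiFinite (affLift ((c.α.left ⁻¹ᵁ U0 i).ι ≫ c.a.left) (g i)) := fun i => by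
    refine flat_lqf_affLift_of_fgood (G i) (hle i) c.a.left c.α.left fun x hx => ?_
    obtain ⟨r₀, hr₀, hr₀'⟩ := (hmemU i _).1 hx
    exact (fgood_transfer (G i) c₀ c x r₀ hr₀').1 hr₀
  let P : ι → Scheme.{u} := fun i => pullback (c.α.left ∣_ U0 i.1) (pullback.fst (G0 i.1) (φ i))
  have hP : ∀ i, IsPullback (pullback.fst _ _ ≫ (c.α.left ⁻¹ᵁ U0 i.1).ι) (pullback.snd _ _ : P i ⟶ Wi i)
      c.α.left (wi i) := fun i =>
    (IsPullback.of_hasPullback _ _).paste_horiz (isPullback_morphismRestrict c.α.left (U0 i.1)).flip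
  have hP' : ∀ i, IsPullback (pullback.fst (c.α.left ∣_ U0 i.1) (pullback.fst (G0 i.1) (φ i)))
      (pullback.snd _ _ ≫ pullback.snd (G0 i.1) (φ i)) (g i.1) (φ i) := fun i =>
    (IsPullback.of_hasPullback _ _).paste_vert (IsPullback.of_hasPullback (G0 i.1) (φ i))
  have sqA : IsPullback (pullback.fst c.α w).left (pullback.snd c.α w).left c.α.left w.left :=
    (IsPullback.of_hasPullback c.α w).map (Over.forget S)
  have key : ∀ (Q : MorphismProperty Scheme.{u}) [Q.IsStableUnderBaseChange] [Q.IsStableUnderComposition]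
      [IsZariskiLocalAtSource Q] [Q.RespectsIso],
      (∀ i, Q (affLift ((c.α.left ⁻¹ᵁ U0 i).ι ≫ c.a.left) (g i))) →
      (∀ i, Q (terminal.from (Spec (CommRingCat.of (E i))))) → Q (c.restrict w).a.left := by
    intro Q _ _ _ _ hQ hQE
    show Q ((pullback.fst c.α w).left ≫ c.a.left)
    rw [← sqA.isoPullback_hom_fst, Category.assoc]
    refine (MorphismProperty.cancel_left_of_respectsIso Q _ _).2 ?_
    refine IsZariskiLocalAtSource.of_openCover (P := Q)
      (Scheme.Pullback.openCoverOfRight (sigmaOpenCover Wi) c.α.left w.left) fun i => ?_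
    have hi : (sigmaOpenCover Wi).f i ≫ w.left = wi i := Sigma.ι_desc _ _
    have sqi : IsPullback (pullback.fst c.α.left ((sigmaOpenCover Wi).f i ≫ w.left))
        (pullback.snd c.α.left ((sigmaOpenCover Wi).f i ≫ w.left)) c.α.left (wi i) := by
      exact (IsPullback.of_hasPullback c.α.left ((sigmaOpenCover Wi).f i ≫ w.left)).of_iso
        (Iso.refl _) (Iso.refl _) (Iso.refl _) (Iso.refl _) (by simp) (by simp) (by simp) (by rw [Iso.refl_hom, Iso.refl_hom, Category.comp_id, Category.id_comp]; exact hi)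
    have e : (Scheme.Pullback.openCoverOfRight (sigmaOpenCover Wi) c.α.left w.left).f i ≫
        pullback.fst c.α.left w.left ≫ c.a.left =
        pullback.fst c.α.left ((sigmaOpenCover Wi).f i ≫ w.left) ≫ c.a.left := by
      simp
    rw [e, ← IsPullback.isoIsPullback_hom_fst _ _ sqi (hP i), Category.assoc, Category.assoc]
    refine (MorphismProperty.cancel_left_of_respectsIso Q _ _).2 ?_
    rw [← (hP' i).isoPullback_hom_fst, Category.assoc]
    refine (MorphismProperty.cancel_left_of_respectsIso Q _ _).2 ?_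
    exact fst_comp_of_affLift Q _ _ (hQ i.1) _ (hQE i)
  refine ⟨c.restrict w, ⟨⟨key @Flat (fun i => (hψ i).1) fun i => ?_,
    key @LocallyQuasiFinite (fun i => (hψ i).2) fun i => ?_⟩,
    key @LocallyOfFinitePresentation (fun i => inferInstance) fun i => ?_⟩, ⟨fun t => ?_⟩⟩
  · have := etale_terminal_specEtale (E i); infer_instance
  · have := etale_terminal_specEtale (E i)
    exact Groth.L23.locallyQuasiFinite_of_unramified _
  · have := etale_terminal_specEtale (E i); infer_instance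
  obtain ⟨V, hV, d, b, x, rfl, hx⟩ := exists_fgood_chart c t
  let i₀ : ι₀ := ⟨⟨V, hV⟩, d, b⟩
  obtain ⟨r₀, hr₀⟩ := c₀.α.left.surjective (c.α.left x)
  have hxU : c.α.left x ∈ U0 i₀ := (hmemU i₀ _).2 ⟨r₀, (fgood_transfer (G i₀) c₀ c x r₀ hr₀).2 hx, hr₀⟩
  have := (hψ i₀).1
  obtain ⟨n, hn, K, _, _, k, hnK, hk, hroot⟩ :=
    exists_rootPoint ((c.α.left ⁻¹ᵁ U0 i₀).ι ≫ c.a.left) (g i₀) ⟨x, hxU⟩
  let i : ι := (i₀, ⟨n, hn⟩)
  obtain ⟨ψ, hψ'⟩ := hr i K k hnK hk
  obtain ⟨x', q, hx', hq⟩ := hroot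
    (ψ.toRingHom.comp (MvPolynomial.aeval (r i) :
      MvPolynomial (ULift.{u} (Fin d)) (ULift.{u} ℤ) →ₐ[ULift.{u} ℤ] E i).toRingHom)
      (fun j => by
        show ψ (MvPolynomial.aeval (r i) (MvPolynomial.X j)) = k j
        rw [MvPolynomial.aeval_X]
        exact hψ' j)
  rw [CommRingCat.ofHom_comp, Spec.map_comp, Scheme.Hom.comp_apply] at hq
  obtain ⟨z, hz1, -⟩ := exists_point (hP' i) x' _ hq
  obtain ⟨z', hz1', -⟩ := exists_point sqA ((c.α.left ⁻¹ᵁ U0 i₀).ι x')
    ((Sigma.ι Wi i) (pullback.snd (c.α.left ∣_ U0 i₀) (pullback.fst (G0 i₀) (φ i)) z)) (by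
      show _ = (Sigma.desc wi) _
      rw [← Scheme.Hom.comp_apply (Sigma.ι Wi i), Sigma.ι_desc, ← hz1, ← Scheme.Hom.comp_apply,
        ← Scheme.Hom.comp_apply, ← Scheme.Hom.comp_apply]
      refine congrArg (fun f : P i ⟶ U.left => f z) ?_
      rw [← Category.assoc]
      exact (hP i).w)
  refine ⟨z', ?_⟩
  show ((pullback.fst c.α w).left ≫ c.a.left) z' = _
  rw [Scheme.Hom.comp_apply, hz1', ← Scheme.Hom.comp_apply, hx', Scheme.Hom.comp_apply]
  rfl

end Groth.L24.Boot
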