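import Groth.Agent.L24.Boot.LqfEtale

/-!
A sheaf with flat charts of finite presentation is an algebraic space.
-/

set_option autoImplicit false
set_option backward.isDefEq.respectTransparency false
set_option backward.isDefEq.respectTransparency.types false

universe u

open CategoryTheory CategoryTheory.Limits AlgebraicGeometry Opposite AlgSp

noncomputable section

namespace Groth.L24.Boot

variable {S : Scheme.{u}} {F : Sp S} {U : Over S} {p : (yon S).obj U ⟶ F}

theorem isAlgSpace_of_lqfCharts
    (h : HasCharts (@Flat ⊓ @LocallyQuasiFinite ⊓ @LocallyOfFinitePresentation ⊓ @Surjective) p) :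
    IsAlgSpace F := by
  obtain ⟨V, η, hη⟩ := exists_piecePres h
  exact isAlgSpace_of_hasCharts (hasCharts_of_piecePres hη)

/-- A sheaf with flat surjective charts of finite presentation is an algebraic space. -/
theorem isAlgSpace_of_flatCharts (h : HasCharts (@Flat ⊓ @LocallyOfFinitePresentation ⊓ @Surjective) p) :
    IsAlgSpace F := by
  obtain ⟨W, w, hw⟩ := exists_lqfCharts h
  exact isAlgSpace_of_lqfCharts hw

end Groth.L24.Boot
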