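import Groth.Agent.L24.Boot.SplitAlg
import Mathlib.AlgebraicGeometry.Morphisms.Finite
import Mathlib.AlgebraicGeometry.Morphisms.QuasiFinite
import Mathlib.AlgebraicGeometry.Morphisms.Etale
import Mathlib.AlgebraicGeometry.Morphisms.Separated
import Mathlib.AlgebraicGeometry.ZariskisMainTheorem

/-!
Etale neighbourhoods splitting off finitely many geometric points of a separated quasi-finite morphism.
-/

set_option autoImplicit false
set_option backward.isDefEq.respectTransparency false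
set_option backward.isDefEq.respectTransparency.types false

universe u

open CategoryTheory CategoryTheory.Limits AlgebraicGeometry TensorProduct

noncomputable section

namespace Groth.L24.Boot

variable {Z : Scheme.{u}} {R : CommRingCat.{u}} {K : Type u} [Field K]

theorem range_subset_iff {X : Scheme.{u}} (x : Spec (CommRingCat.of K) ⟶ X) (O : Set X) :
    Set.range x ⊆ O ↔ x default ∈ O :=
  ⟨fun h => h ⟨default, rfl⟩, fun h => by
    rintro _ ⟨y, rfl⟩
    rw [show y = (default : Spec (CommRingCat.of K)) from Subsingleton.elim (α := PrimeSpectrum K) _ _]; exact h⟩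

/-- A localised piece of the base change of an affine open is open. -/
theorem isOpenImmersion_piece {C : CommRingCat.{u}} (f : Z ⟶ Spec R) (j : Spec C ⟶ Z) [IsOpenImmersion j]
    (α : R ⟶ C) (hα : Spec.map α = j ≫ f) {R' : Type u} [CommRing R'] [Algebra R R'] [Algebra R C]
    (e : R' ⊗[R] C)
    (h : Spec (CommRingCat.of (Localization.Away e)) ⟶ pullback f (Spec.map (CommRingCat.ofHom (algebraMap R R'))))
    (h1 : h ≫ pullback.fst _ _ = Spec.map (CommRingCat.ofHom ((algebraMap (R' ⊗[R] C) (Localization.Away e)).comp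
      (Algebra.TensorProduct.includeRight : C →ₐ[R] R' ⊗[R] C).toRingHom)) ≫ j)
    (h2 : h ≫ pullback.snd _ _ = Spec.map (CommRingCat.ofHom ((algebraMap (R' ⊗[R] C) (Localization.Away e)).comp
      (Algebra.TensorProduct.includeLeftRingHom : R' →+* R' ⊗[R] C))))
    (halg : CommRingCat.ofHom (algebraMap R C) = α := by rfl) :
    IsOpenImmersion h := by
  subst halg
  let loc := algebraMap (R' ⊗[R] C) (Localization.Away e)
  have w : Spec.map (CommRingCat.ofHom (algebraMap R C)) ≫ 𝟙 _ = j ≫ f := by rw [Category.comp_id, hα]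
  let c : Spec (CommRingCat.of (R' ⊗[R] C)) ⟶ pullback f (Spec.map (CommRingCat.ofHom (algebraMap R R'))) :=
    (pullbackSpecIso R R' C).inv ≫ (pullbackSymmetry _ _).hom ≫
      pullback.map (Spec.map (CommRingCat.ofHom (algebraMap R C))) (Spec.map (CommRingCat.ofHom (algebraMap R R')))
        f (Spec.map (CommRingCat.ofHom (algebraMap R R'))) j (𝟙 _) (𝟙 _) w (by simp)
  have c1 : c ≫ pullback.fst _ _ = Spec.map (CommRingCat.ofHom
      (Algebra.TensorProduct.includeRight : C →ₐ[R] R' ⊗[R] C).toRingHom) ≫ j := by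
    rw [show Spec.map (CommRingCat.ofHom (Algebra.TensorProduct.includeRight : C →ₐ[R] R' ⊗[R] C).toRingHom) =
      (pullbackSpecIso R R' C).inv ≫ pullback.snd _ _ from (pullbackSpecIso_inv_snd R R' C).symm]
    simp [c, pullback.map, pullback.lift_fst, pullbackSymmetry_hom_comp_fst_assoc]
  have c2 : c ≫ pullback.snd _ _ = Spec.map (CommRingCat.ofHom
      (Algebra.TensorProduct.includeLeftRingHom : R' →+* R' ⊗[R] C)) := by
    rw [← pullbackSpecIso_inv_fst R R' C]
    simp [c, pullback.map, pullback.lift_snd, pullbackSymmetry_hom_comp_snd]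
  have e1 : h = Spec.map (CommRingCat.ofHom loc) ≫ c := by
    apply pullback.hom_ext
    · rw [h1, Category.assoc, c1, ← Spec.map_comp_assoc]
      rfl
    · rw [h2, Category.assoc, c2, ← Spec.map_comp]
      rfl
  rw [e1]
  have : IsOpenImmersion (Spec.map (CommRingCat.ofHom loc)) := IsOpenImmersion.of_isLocalization e
  infer_instance

/-- One point of a separated quasi-finite morphism is split off by an etale neighbourhood. -/
theorem exists_split_point (f : Z ⟶ Spec R) [LocallyOfFiniteType f] [LocallyQuasiFinite f] [IsSeparated f]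
    (τ : R ⟶ CommRingCat.of K) (s : Spec (CommRingCat.of K) ⟶ Z) (hs : s ≫ f = Spec.map τ) :
    ∃ (R' : CommRingCat.{u}) (φ : R ⟶ R') (τ' : R' ⟶ CommRingCat.of K) (P : Scheme.{u}) (q : P ⟶ Z)
      (f' : P ⟶ Spec R') (Qc : P.Opens), Etale (Spec.map φ) ∧ φ ≫ τ' = τ ∧
      IsPullback q f' f (Spec.map φ) ∧ IsClopen (Qc : Set P) ∧ IsFinite (Qc.ι ≫ f') ∧
      ∀ x : Spec (CommRingCat.of K) ⟶ P, x ≫ f' = Spec.map τ' → (x default ∈ Qc ↔ x ≫ q = s) := by
  obtain ⟨_, ⟨W, hW, rfl⟩, hsW, -⟩ := Z.isBasis_affineOpens.exists_subset_of_mem_open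
    (Set.mem_univ (s default)) isOpen_univ
  let C := Γ(Z, W)
  let j : Spec C ⟶ Z := hW.fromSpec
  let s₀ := IsOpenImmersion.lift j s (by
    rw [hW.range_fromSpec]; exact (range_subset_iff s W).2 hsW)
  obtain ⟨σ, hσ⟩ := Spec.map_surjective s₀
  obtain ⟨α, hα⟩ := Spec.map_surjective (j ≫ f)
  have hσj : Spec.map σ ≫ j = s := by rw [hσ]; exact IsOpenImmersion.lift_fac _ _ _
  have hασ : α ≫ σ = τ := Spec.map_injective (by rw [Spec.map_comp, hα, reassoc_of% hσj, hs])
  have hft : α.hom.FiniteType := by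
    rw [← HasRingHomProperty.Spec_iff (P := @LocallyOfFiniteType), hα]
    infer_instance
  have hqf : α.hom.QuasiFinite := by
    rw [← HasRingHomProperty.Spec_iff (P := @LocallyQuasiFinite), hα]
    infer_instance
  algebraize [α.hom]
  obtain ⟨R', _, _, het, τ', hτ', e, hfin, hiff⟩ :=
    exists_etale_split (C := C) τ.hom σ.hom (congrArg CommRingCat.Hom.hom hασ)
  let φ : R ⟶ CommRingCat.of R' := CommRingCat.ofHom (algebraMap R R')
  let P := pullback f (Spec.map φ)
  let inl : R' →+* R' ⊗[R] C := (Algebra.TensorProduct.includeLeftRingHom : R' →+* R' ⊗[R] C)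
  let inr : C →+* R' ⊗[R] C := (Algebra.TensorProduct.includeRight : C →ₐ[R] R' ⊗[R] C).toRingHom
  let loc := algebraMap (R' ⊗[R] C) (Localization.Away e)
  let h : Spec (CommRingCat.of (Localization.Away e)) ⟶ P :=
    pullback.lift (Spec.map (CommRingCat.ofHom (loc.comp inr)) ≫ j) (Spec.map (CommRingCat.ofHom (loc.comp inl))) (by
      rw [Category.assoc, ← hα, ← Spec.map_comp, ← Spec.map_comp]
      congr 1
      ext r
      show loc ((1 : R') ⊗ₜ algebraMap R C r) = loc (algebraMap R R' r ⊗ₜ 1)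
      refine congrArg loc ?_
      rw [Algebra.algebraMap_eq_smul_one, Algebra.algebraMap_eq_smul_one, TensorProduct.tmul_smul,
        TensorProduct.smul_tmul'])
  have : IsOpenImmersion h := isOpenImmersion_piece f j α hα e h (pullback.lift_fst _ _ _) (pullback.lift_snd _ _ _)
  have hfinh : IsFinite (h ≫ pullback.snd f (Spec.map φ)) := by
    rw [pullback.lift_snd, IsFinite.SpecMap_iff]
    have e2 : loc.comp inl = algebraMap R' (Localization.Away e) :=
      (IsScalarTower.algebraMap_eq R' (R' ⊗[R] C) (Localization.Away e)).symm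
    show (loc.comp inl).Finite
    rw [e2, RingHom.finite_algebraMap]
    exact hfin
  have : IsFinite h := IsFinite.of_comp h (pullback.snd f (Spec.map φ))
  refine ⟨CommRingCat.of R', φ, CommRingCat.ofHom τ', P, pullback.fst _ _, pullback.snd _ _, h.opensRange,
    HasRingHomProperty.Spec_iff.2 (RingHom.etale_algebraMap.2 het),
    CommRingCat.hom_ext hτ', IsPullback.of_hasPullback _ _, ⟨h.isClosedMap.isClosed_range, h.opensRange.2⟩, ?_, ?_⟩
  · rw [← Scheme.Hom.isoOpensRange_inv_comp h, Category.assoc]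
    exact (MorphismProperty.cancel_left_of_respectsIso @IsFinite _ _).2 hfinh
  intro x hx
  constructor
  · intro hxm
    obtain ⟨κe, hκe⟩ := Spec.map_surjective (IsOpenImmersion.lift h x ((range_subset_iff x _).2 hxm))
    have hxh : Spec.map κe ≫ h = x := by rw [hκe]; exact IsOpenImmersion.lift_fac _ _ _
    let κ : R' ⊗[R] C →+* K := κe.hom.comp loc
    have hl : CommRingCat.ofHom (κe.hom.comp (loc.comp inl)) = CommRingCat.ofHom τ' := Spec.map_injective (by
      rw [← hx, ← hxh, Category.assoc, pullback.lift_snd, ← Spec.map_comp]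
      rfl)
    have hκ := (hiff κ fun y => congrArg (fun (m : CommRingCat.of R' ⟶ CommRingCat.of K) => m.hom y) hl).1
      (IsUnit.ne_zero ((IsLocalization.Away.algebraMap_isUnit e).map κe.hom))
    rw [← hxh, Category.assoc, pullback.lift_fst, ← Category.assoc, ← Spec.map_comp, ← hσj]
    congr 2
    exact CommRingCat.hom_ext (RingHom.ext hκ)
  · intro hxs
    let := τ.hom.toAlgebra
    let τA : R' →ₐ[R] K := { τ' with commutes' := fun r => DFunLike.congr_fun hτ' r }
    let σA : C →ₐ[R] K := { σ.hom with commutes' := fun r => DFunLike.congr_fun (congrArg CommRingCat.Hom.hom hασ) r }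
    let κ : R' ⊗[R] C →+* K := (Algebra.TensorProduct.lift τA σA fun _ _ => Commute.all _ _).toRingHom
    have hκe : IsUnit (κ e) := isUnit_iff_ne_zero.2
      ((hiff κ (fun y => by simp [κ, τA])).2 (fun c => by simp [κ, σA]))
    let κe : Localization.Away e →+* K := IsLocalization.Away.lift e hκe
    have hκe' : κe.comp loc = κ := IsLocalization.Away.lift_comp e hκe
    have : x = Spec.map (CommRingCat.ofHom κe) ≫ h := by
      apply pullback.hom_ext
      · rw [hxs, Category.assoc, pullback.lift_fst, ← Category.assoc, ← Spec.map_comp, ← hσj]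
        congr 2
        refine CommRingCat.hom_ext (RingHom.ext fun c => ?_)
        show σ.hom c = (κe.comp loc) ((1 : R') ⊗ₜ c)
        rw [hκe']; simp [κ, σA]
      · rw [hx, Category.assoc, pullback.lift_snd, ← Spec.map_comp]
        congr 1
        refine CommRingCat.hom_ext (RingHom.ext fun y => ?_)
        show τ' y = (κe.comp loc) (y ⊗ₜ 1)
        rw [hκe']; simp [κ, τA]
    rw [this]
    exact ⟨_, rfl⟩

theorem isFinite_sup {P T : Scheme.{u}} (f : P ⟶ T) {A B : P.Opens} [IsSeparated f] [LocallyQuasiFinite f]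
    [LocallyOfFiniteType f] (hA : IsFinite (A.ι ≫ f)) (hB : IsFinite (B.ι ≫ f)) : IsFinite ((A ⊔ B).ι ≫ f) := by
  let c : A.toScheme ⨿ B.toScheme ⟶ (A ⊔ B).toScheme :=
    coprod.desc (P.homOfLE le_sup_left) (P.homOfLE le_sup_right)
  have e : coprod.desc (A.ι ≫ f) (B.ι ≫ f) = c ≫ (A ⊔ B).ι ≫ f := by
    apply coprod.hom_ext <;> simp [c, Scheme.homOfLE_ι_assoc]
  have hfin : IsFinite (c ≫ (A ⊔ B).ι ≫ f) := by rw [← e]; infer_instance
  have : Surjective c := ⟨fun z => by
    rcases (TopologicalSpace.Opens.mem_sup.1 z.2) with hz | hz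
    · refine ⟨(coprod.inl : A.toScheme ⟶ A.toScheme ⨿ B.toScheme) ⟨z.1, hz⟩, ?_⟩
      rw [← Scheme.Hom.comp_apply, coprod.inl_desc]
      exact (A ⊔ B).ι.isOpenEmbedding.injective (by rw [← Scheme.Hom.comp_apply, Scheme.homOfLE_ι]; rfl)
    · refine ⟨(coprod.inr : B.toScheme ⟶ A.toScheme ⨿ B.toScheme) ⟨z.1, hz⟩, ?_⟩
      rw [← Scheme.Hom.comp_apply, coprod.inr_desc]
      exact (A ⊔ B).ι.isOpenEmbedding.injective (by rw [← Scheme.Hom.comp_apply, Scheme.homOfLE_ι]; rfl)⟩
  have : UniversallyClosed ((A ⊔ B).ι ≫ f) := UniversallyClosed.of_comp_surjective c _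
  have : QuasiCompact ((A ⊔ B).ι ≫ f) := inferInstance
  have : IsProper ((A ⊔ B).ι ≫ f) := ⟨⟩
  exact IsFinite.of_isProper_of_locallyQuasiFinite _

/-- Finitely many points are split off together. -/
theorem exists_split (f : Z ⟶ Spec R) [LocallyOfFiniteType f] [LocallyQuasiFinite f] [IsSeparated f]
    (τ : R ⟶ CommRingCat.of K) (n : ℕ) (s : Fin n → (Spec (CommRingCat.of K) ⟶ Z))
    (hs : ∀ i, s i ≫ f = Spec.map τ) :
    ∃ (R' : CommRingCat.{u}) (φ : R ⟶ R') (τ' : R' ⟶ CommRingCat.of K) (P : Scheme.{u}) (q : P ⟶ Z)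
      (f' : P ⟶ Spec R') (Qc : P.Opens), Etale (Spec.map φ) ∧ φ ≫ τ' = τ ∧
      IsPullback q f' f (Spec.map φ) ∧ IsClopen (Qc : Set P) ∧ IsFinite (Qc.ι ≫ f') ∧
      ∀ x : Spec (CommRingCat.of K) ⟶ P, x ≫ f' = Spec.map τ' → (x default ∈ Qc ↔ ∃ i, x ≫ q = s i) := by
  induction n with
  | zero =>
    refine ⟨R, 𝟙 R, τ, Z, 𝟙 Z, f, ⊥, ?_, Category.id_comp _, ?_, ?_, ?_, fun x _ => ?_⟩
    · rw [Spec.map_id]; infer_instance
    · rw [Spec.map_id]; exact IsPullback.of_id_fst
    · exact ⟨isClosed_empty, isOpen_empty⟩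
    · have : IsEmpty (⊥ : Z.Opens).toScheme := ⟨fun z => z.2⟩
      infer_instance
    · exact ⟨fun h => h.elim, fun ⟨i, _⟩ => i.elim0⟩
  | succ n ih =>
    obtain ⟨R1, φ1, τ1, P1, q1, f1, Q1, he1, hτ1, sq1, hQ1, hf1, hx1⟩ := ih (s ∘ Fin.castSucc) fun i => hs _
    have : LocallyOfFiniteType f1 := MorphismProperty.of_isPullback sq1 (inferInstance : LocallyOfFiniteType f)
    have : LocallyQuasiFinite f1 := MorphismProperty.of_isPullback sq1 (inferInstance : LocallyQuasiFinite f)
    have : IsSeparated f1 := MorphismProperty.of_isPullback sq1 (inferInstance : IsSeparated f)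
    obtain ⟨R2, φ2, τ2, P2, q2, f2, Q2, he2, hτ2, sq2, hQ2, hf2, hx2⟩ := exists_split_point f1 τ1
      (sq1.lift (s (Fin.last n)) (Spec.map τ1) (by rw [hs, ← Spec.map_comp, hτ1])) (sq1.lift_snd _ _ _)
    have sq : IsPullback (q2 ≫ q1) f2 f (Spec.map (φ1 ≫ φ2)) := by
      rw [Spec.map_comp]; exact sq2.paste_horiz sq1
    have : LocallyOfFiniteType f2 := MorphismProperty.of_isPullback sq2 (inferInstance : LocallyOfFiniteType f1)
    have : LocallyQuasiFinite f2 := MorphismProperty.of_isPullback sq2 (inferInstance : LocallyQuasiFinite f1)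
    have : IsSeparated f2 := MorphismProperty.of_isPullback sq2 (inferInstance : IsSeparated f1)
    refine ⟨R2, φ1 ≫ φ2, τ2, P2, q2 ≫ q1, f2, q2 ⁻¹ᵁ Q1 ⊔ Q2, ?_, by rw [Category.assoc, hτ2, hτ1], sq,
      ⟨?_, (q2 ⁻¹ᵁ Q1 ⊔ Q2).2⟩, ?_, fun x hx => ?_⟩
    · rw [Spec.map_comp]; exact MorphismProperty.comp_mem _ _ _ he2 he1
    · rw [TopologicalSpace.Opens.coe_sup]
      exact (hQ1.1.preimage q2.continuous).union hQ2.1
    · exact isFinite_sup f2 (MorphismProperty.of_isPullback
        ((isPullback_morphismRestrict q2 Q1).flip.flip.paste_vert sq2) hf1) hf2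
    · have hxq : (x ≫ q2) ≫ f1 = Spec.map τ1 := by
        rw [Category.assoc, sq2.w, reassoc_of% hx, ← Spec.map_comp, hτ2]
      rw [TopologicalSpace.Opens.mem_sup, hx2 x hx, show x default ∈ q2 ⁻¹ᵁ Q1 ↔ (x ≫ q2) default ∈ Q1 from Iff.rfl,
        hx1 _ hxq]
      constructor
      · rintro (⟨i, hi⟩ | h)
        · exact ⟨i.castSucc, by rw [← Category.assoc]; exact hi⟩
        · exact ⟨Fin.last n, by rw [← Category.assoc, h, sq1.lift_fst]⟩
      · rintro ⟨i, hi⟩
        refine Fin.lastCases (fun hi => Or.inr (sq1.hom_ext ?_ ?_)) (fun i hi => Or.inl ⟨i, ?_⟩) i hi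
        · rw [Category.assoc, sq1.lift_fst]; exact hi
        · rw [hxq, sq1.lift_snd]
        · rw [Category.assoc]; exact hi

end Groth.L24.Boot
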