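import Groth.Agent.L24.Boot.Piece
import Groth.Agent.L24.Boot.Split
import Groth.Agent.L24.Boot.LqfPoint

/-!
An etale neighbourhood splitting off the fibre of a piece.
-/

set_option autoImplicit false
set_option backward.isDefEq.respectTransparency false
set_option backward.isDefEq.respectTransparency.types false

universe u

open CategoryTheory CategoryTheory.Limits AlgebraicGeometry Opposite AlgSp

noncomputable section

namespace Groth.L24.Boot

/-- Points of a finite scheme over an algebraically closed field are rational. -/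
theorem exists_section_of_isFinite {K : Type u} [Field K] [IsAlgClosed K] {X : Scheme.{u}}
    (f : X ⟶ Spec (CommRingCat.of K)) [IsFinite f] (x : ↥X) :
    ∃ s : Spec (CommRingCat.of K) ⟶ X, s ≫ f = 𝟙 _ ∧ s default = x := by
  have : IsAffine X := isAffine_of_isAffineHom f
  obtain ⟨α, hα⟩ := Spec.map_surjective (X.isoSpec.inv ≫ f)
  let := α.hom.toAlgebra
  have : IsFinite (Spec.map α) := by rw [hα]; infer_instance
  have : Module.Finite K Γ(X, ⊤) := RingHom.finite_algebraMap.1 ((IsFinite.SpecMap_iff α).1 this)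
  have : IsArtinianRing Γ(X, ⊤) := IsArtinianRing.of_finite K _
  let y : PrimeSpectrum Γ(X, ⊤) := X.isoSpec.hom x
  have : y.asIdeal.IsMaximal := inferInstance
  let := Ideal.Quotient.field y.asIdeal
  let π : (Γ(X, ⊤) ⧸ y.asIdeal) →ₐ[K] K := IsAlgClosed.lift
  let g : Γ(X, ⊤) →ₐ[K] K := π.comp (Ideal.Quotient.mkₐ K y.asIdeal)
  refine ⟨Spec.map (CommRingCat.ofHom g.toRingHom) ≫ X.isoSpec.inv, ?_, ?_⟩
  · rw [Category.assoc, ← hα, ← Spec.map_comp, ← Spec.map_id]
    congr 1
    exact CommRingCat.hom_ext (RingHom.ext fun k => g.commutes k)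
  · have hg : (Spec.map (CommRingCat.ofHom g.toRingHom)) default = y := by
      refine PrimeSpectrum.ext (Ideal.ext fun c => ?_)
      let q : PrimeSpectrum K := (default : ↥(Spec (CommRingCat.of K)))
      show g c ∈ q.asIdeal ↔ _
      have hbot : q.asIdeal = ⊥ := (Ideal.eq_bot_or_top _).resolve_right q.isPrime.ne_top
      rw [hbot, Ideal.mem_bot, ← Ideal.Quotient.eq_zero_iff_mem]
      exact map_eq_zero_iff π π.toRingHom.injective
    rw [Scheme.Hom.comp_apply, hg]
    show X.isoSpec.inv (X.isoSpec.hom x) = x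
    rw [← Scheme.Hom.comp_apply, Iso.hom_inv_id]
    rfl

variable {S : Scheme.{u}} {F : Sp S} {U0 : Over S} {p0 : (yon S).obj U0 ⟶ F} (hp : RepWith LqfFlat p0)
  [IsAffine U0.left]

/-- An etale neighbourhood of a field point with an open finite piece restricting to the given one. -/
structure FibreNhd {T : Over S} (ξ : (yon S).obj T ⟶ F) {TK PK : Over S} (τ : TK ⟶ T) (pK : PK ⟶ TK)
    (uK : PK ⟶ U0) where
  T1 : Over S
  QP : Over S
  affine : IsAffine T1.left
  a1 : T1 ⟶ T
  etale : Etale a1.left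
  k1 : TK ⟶ T1
  hk : k1 ≫ a1 = τ
  p : QP ⟶ T1
  uQ : QP ⟶ U0
  m : PK ⟶ QP
  sq : IsPullback m.left pK.left p.left k1.left
  hm : m ≫ uQ = uK
  w : (yon S).map p ≫ (yon S).map a1 ≫ ξ = (yon S).map uQ ≫ p0
  finite : IsFinite p.left
  flat : Flat p.left
  lfp : LocallyOfFinitePresentation p.left
  openImm : ∀ {T2 P2 : Over S} (j2 : T2 ⟶ T1) (m2 : P2 ⟶ QP) (p2 : P2 ⟶ T2), IsPullback m2 p2 p j2 →
    ∀ z : P2 ⟶ hp.1.pullback ((yon S).map (j2 ≫ a1) ≫ ξ),
      (yon S).map z ≫ hp.1.fst _ = (yon S).map (m2 ≫ uQ) → z ≫ hp.1.snd _ = p2 → IsOpenImmersion z.left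

theorem map_fst_pullback {T T' Z : Over S} {ξ : (yon S).obj T ⟶ F} {g : (yon S).obj Z ⟶ (yon S).obj U0}
    {f : Z ⟶ T} (sq : IsPullback g ((yon S).map f) p0 ξ) {P : Over S} {q : P ⟶ Z} {r : P ⟶ T'} {a : T' ⟶ T}
    (h : IsPullback q r f a) : IsPullback ((yon S).map q ≫ g) ((yon S).map r) p0 ((yon S).map a ≫ ξ) :=
  (h.map (yon S)).paste_horiz sq

set_option maxHeartbeats 800000 in
theorem exists_fibreNhd {d : ℕ} {b : Fin d → Γ(U0.left, ⊤)} {R' : (rel hp).left.Opens} (pc : Piece hp d b R')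
    {T : Over S} [IsAffine T.left] (ξ : (yon S).obj T ⟶ F) {K : Type u} [Field K] [IsAlgClosed K]
    {TK : Over S} (iT : Spec (CommRingCat.of K) ≅ TK.left) (τ : TK ⟶ T) (o : TK ⟶ pc.O)
    (w : (yon S).map o ≫ pc.ξ = (yon S).map τ ≫ ξ) {PK : Over S} (l : PK ⟶ pc.Z) (pK : PK ⟶ TK)
    (sql : IsPullback l.left pK.left pc.π.left o.left) :
    Nonempty (FibreNhd hp ξ τ pK (l ≫ pc.v)) := by
  classical
  have sqT := hp.1.isPullback ξ
  let ZT := hp.1.pullback ξ
  let zf : ZT ⟶ T := hp.1.snd ξ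
  obtain ⟨⟨⟨hflat, hq⟩, hlfp⟩, hsep⟩ := hp.2 ξ _ zf sqT
  have : Flat zf.left := hflat
  have : LocallyQuasiFinite zf.left := hq
  have : LocallyOfFinitePresentation zf.left := hlfp
  have : IsSeparated zf.left := hsep
  obtain ⟨uZ, huZ⟩ := (yon S).map_surjective (hp.1.fst ξ)
  have hlw : l ≫ pc.π = pK ≫ o := Over.OverMorphism.ext sql.w
  obtain ⟨zT, hzT⟩ := (yon S).map_surjective (sqT.lift ((yon S).map (l ≫ pc.v)) ((yon S).map (pK ≫ τ)) (by
    rw [Functor.map_comp_assoc, Functor.map_comp_assoc, ← pc.w, ← w, ← Functor.map_comp_assoc, hlw,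
      Functor.map_comp_assoc]))
  have hzT1 : zT ≫ uZ = l ≫ pc.v := (yon S).map_injective (by rw [Functor.map_comp, hzT, huZ, sqT.lift_fst])
  have hzT2 : zT ≫ zf = pK ≫ τ := (yon S).map_injective (by rw [Functor.map_comp, hzT]; exact sqT.lift_snd _ _ _)
  have : IsFinite pK.left := MorphismProperty.of_isPullback sql pc.finite
  let pK' := pK.left ≫ iT.inv
  have : Finite ↥PK.left := finite_of_isFinite_field pK'
  choose sx hsx hsx' using exists_section_of_isFinite pK'
  let n := Nat.card ↥PK.left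
  let s : Fin n → (Spec (CommRingCat.of K) ⟶ ZT.left) := fun i =>
    sx ((Finite.equivFin ↥PK.left).symm i) ≫ zT.left
  obtain ⟨τ0, hτ0⟩ := Spec.map_surjective (iT.hom ≫ τ.left ≫ T.left.isoSpec.hom)
  have hs : ∀ i, s i ≫ zf.left ≫ T.left.isoSpec.hom = Spec.map τ0 := fun i => by
    have h1 : sx ((Finite.equivFin ↥PK.left).symm i) ≫ pK.left = iT.hom := by
      rw [← cancel_mono iT.inv, Category.assoc, Iso.hom_inv_id]; exact hsx _
    show (sx _ ≫ zT.left) ≫ zf.left ≫ _ = _
    rw [Category.assoc, ← Category.assoc zT.left, ← Over.comp_left, hzT2, Over.comp_left, hτ0,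
      Category.assoc, reassoc_of% h1]
  obtain ⟨R1, φ, τ', P, q, f', Qc, hφ, hφτ, sq, hQ, hQf, hcrit⟩ :=
    exists_split (zf.left ≫ T.left.isoSpec.hom) τ0 n s hs
  let T1 : Over S := Over.mk (Spec.map φ ≫ T.left.isoSpec.inv ≫ T.hom)
  let a1 : T1 ⟶ T := Over.homMk (Spec.map φ ≫ T.left.isoSpec.inv) (Category.assoc _ _ _)
  have hqf : q ≫ zf.left = f' ≫ a1.left := by
    rw [← cancel_mono T.left.isoSpec.hom, Category.assoc, sq.w]; simp [a1]
  let k1 : TK ⟶ T1 := Over.homMk (iT.inv ≫ Spec.map τ') (by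
    show (iT.inv ≫ Spec.map τ') ≫ Spec.map φ ≫ T.left.isoSpec.inv ≫ T.hom = TK.hom
    rw [Category.assoc, ← Spec.map_comp_assoc, hφτ, hτ0]
    simp [Over.w τ])
  have hk : k1 ≫ a1 = τ := Over.OverMorphism.ext (by
    show (iT.inv ≫ Spec.map τ') ≫ Spec.map φ ≫ T.left.isoSpec.inv = τ.left
    rw [Category.assoc, ← Spec.map_comp_assoc, hφτ, hτ0]; simp)
  let PO : Over S := Over.mk (f' ≫ T1.hom)
  let fO : PO ⟶ T1 := Over.homMk f' rfl
  let qO : PO ⟶ ZT := Over.homMk q (by
    show q ≫ ZT.hom = f' ≫ T1.hom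
    rw [← Over.w zf, reassoc_of% hqf, Over.w a1])
  have sqO : IsPullback qO fO zf a1 := IsPullback.of_map (Over.forget S) (Over.OverMorphism.ext hqf) (by
    refine sq.of_iso (Iso.refl _) (Iso.refl _) (Iso.refl _) T.left.isoSpec.symm ?_ ?_ ?_ ?_ <;>
      simp [qO, fO, a1] <;> rfl)
  have sqP := map_fst_pullback sqT sqO
  let QP := Groth.L23.openOver PO Qc
  let jQ : QP ⟶ PO := Groth.L23.openOverι PO Qc
  let p : QP ⟶ T1 := jQ ≫ fO
  let uQ : QP ⟶ U0 := jQ ≫ qO ≫ uZ
  have hwQ : (yon S).map p ≫ (yon S).map a1 ≫ ξ = (yon S).map uQ ≫ p0 := by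
    simp only [p, uQ, Functor.map_comp, Category.assoc]
    rw [← sqP.w, Category.assoc, huZ]
  let ZK := pullback fO k1
  have sqK : IsPullback ((yon S).map (pullback.fst fO k1) ≫ (yon S).map qO ≫ hp.1.fst ξ)
      ((yon S).map (pullback.snd fO k1)) p0 ((yon S).map τ ≫ ξ) := by
    have h := ((IsPullback.of_hasPullback fO k1).map (yon S)).paste_horiz sqP
    rwa [← hk, Functor.map_comp, Category.assoc]
  let zP : PK ⟶ PO := sqO.lift zT (pK ≫ k1) (by rw [hzT2, Category.assoc, hk])
  let z : PK ⟶ ZK := pullback.lift zP pK (sqO.lift_snd _ _ _)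
  have hzP : zP ≫ qO = zT := sqO.lift_fst _ _ _
  have : IsOpenImmersion z.left := pc.openImm' hp ((yon S).map τ ≫ ξ) _ _ sqK o w l pK sql z
    (by rw [← huZ, ← Functor.map_comp, ← Functor.map_comp, ← Functor.map_comp, pullback.lift_fst_assoc,
      reassoc_of% hzP, hzT1]) (pullback.lift_snd _ _ _)
  -- rational points of the fibre in `Qc` are those of the piece
  have key : ∀ t : Spec (CommRingCat.of K) ⟶ ZK.left, t ≫ (pullback.snd fO k1).left = iT.hom →
      ((t ≫ (pullback.fst fO k1).left) default ∈ Qc ↔ ∃ x, t = sx x ≫ z.left) := by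
    intro t ht
    have sqf := (IsPullback.of_hasPullback fO k1).map (Over.forget S)
    have hx : (t ≫ (pullback.fst fO k1).left) ≫ f' = Spec.map τ' := by
      have e : (pullback.fst fO k1).left ≫ f' = (pullback.snd fO k1).left ≫ iT.inv ≫ Spec.map τ' := sqf.w
      rw [Category.assoc, e, reassoc_of% ht, Iso.hom_inv_id_assoc]
    refine (hcrit _ hx).trans ?_
    have hz : ∀ x, (sx x ≫ z.left) ≫ (pullback.fst fO k1).left ≫ q = sx x ≫ zT.left := fun x => by
      rw [Category.assoc, ← Category.assoc z.left, ← Over.comp_left, pullback.lift_fst]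
      exact congrArg (sx x ≫ ·) (congrArg CommaMorphism.left hzP)
    constructor
    · rintro ⟨i, hi⟩
      refine ⟨(Finite.equivFin ↥PK.left).symm i, sqf.hom_ext (sq.hom_ext ?_ ?_) ?_⟩
      · show (t ≫ (pullback.fst fO k1).left) ≫ q = _
        rw [hi]
        exact (hz _).symm.trans (Category.assoc _ _ _).symm
      · show (t ≫ (pullback.fst fO k1).left) ≫ f' = _
        rw [hx]
        have e : (pullback.fst fO k1).left ≫ f' = (pullback.snd fO k1).left ≫ iT.inv ≫ Spec.map τ' := sqf.w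
        show _ = ((sx _ ≫ z.left) ≫ (pullback.fst fO k1).left) ≫ f'
        rw [Category.assoc, Category.assoc, e, ← Category.assoc z.left, ← Over.comp_left, pullback.lift_snd]
        have h' : sx ((Finite.equivFin ↥PK.left).symm i) ≫ pK.left ≫ iT.inv = 𝟙 _ := hsx _
        rw [reassoc_of% h']
      · show t ≫ (pullback.snd fO k1).left = _
        rw [ht]
        show _ = (sx _ ≫ z.left) ≫ (pullback.snd fO k1).left
        rw [Category.assoc, ← Over.comp_left, pullback.lift_snd, ← cancel_mono iT.inv, Iso.hom_inv_id,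
          Category.assoc]
        exact (hsx _).symm
    · rintro ⟨x, rfl⟩
      refine ⟨Finite.equivFin _ x, ?_⟩
      rw [Category.assoc, hz]
      simp only [s, Equiv.symm_apply_apply]
  have hm0 : Set.range zP.left ⊆ (Qc : Set P) := by
    rintro _ ⟨x, rfl⟩
    have h1 : (sx x ≫ z.left) ≫ (pullback.snd fO k1).left = iT.hom := by
      rw [Category.assoc, ← Over.comp_left, pullback.lift_snd, ← cancel_mono iT.inv, Category.assoc,
        Iso.hom_inv_id]
      exact hsx x
    have := (key _ h1).2 ⟨x, rfl⟩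
    rw [Category.assoc, ← Over.comp_left, pullback.lift_fst, Scheme.Hom.comp_apply, hsx'] at this
    exact this
  let m₀ := IsOpenImmersion.lift Qc.ι zP.left (by rw [Scheme.Opens.range_ι]; exact hm0)
  have hm₀ : m₀ ≫ Qc.ι = zP.left := IsOpenImmersion.lift_fac _ _ _
  let m : PK ⟶ QP := Over.homMk m₀ (by
    show m₀ ≫ Qc.ι ≫ PO.hom = PK.hom
    rw [reassoc_of% hm₀, Over.w zP])
  have hmj : m ≫ jQ = zP := Over.OverMorphism.ext hm₀
  have hmp : m ≫ p = pK ≫ k1 := by
    show m ≫ jQ ≫ fO = _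
    rw [reassoc_of% hmj]; exact sqO.lift_snd _ _ _
  have hpfin : IsFinite p.left := hQf
  let c : pullback p k1 ⟶ ZK := pullback.lift (pullback.fst p k1 ≫ jQ) (pullback.snd p k1)
    (by rw [Category.assoc]; exact pullback.condition)
  have hrange : Set.range c.left ⊆ Set.range z.left := by
    rintro _ ⟨ω, rfl⟩
    have : IsFinite (pullback.snd p k1).left :=
      MorphismProperty.of_isPullback ((IsPullback.of_hasPullback p k1).map (Over.forget S)) hpfin
    obtain ⟨σ, hσ, hσ'⟩ := exists_section_of_isFinite ((pullback.snd p k1).left ≫ iT.inv) ω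
    have h1 : (σ ≫ c.left) ≫ (pullback.snd fO k1).left = iT.hom := by
      rw [Category.assoc, ← Over.comp_left, pullback.lift_snd, ← cancel_mono iT.inv, Category.assoc,
        Iso.hom_inv_id]
      exact hσ
    obtain ⟨x, hx⟩ := (key _ h1).1 (by
      rw [Category.assoc, ← Over.comp_left, pullback.lift_fst, Over.comp_left, ← Category.assoc,
        Scheme.Hom.comp_apply]
      exact (((σ ≫ (pullback.fst p k1).left) default : ↥Qc.toScheme)).2)
    refine ⟨(sx x) default, ?_⟩
    rw [← hσ', ← Scheme.Hom.comp_apply, ← Scheme.Hom.comp_apply, hx]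
  let e₀ := IsOpenImmersion.lift z.left c.left hrange
  have he₀ : e₀ ≫ z.left = c.left := IsOpenImmersion.lift_fac _ _ _
  let e : pullback p k1 ⟶ PK := Over.homMk e₀ (by rw [← Over.w z, reassoc_of% he₀, Over.w c])
  have he : e ≫ z = c := Over.OverMorphism.ext he₀
  have := Over.mono_of_mono_left z
  have hzf : z ≫ pullback.fst fO k1 = m ≫ jQ := by rw [pullback.lift_fst, hmj]
  have hzs : z ≫ pullback.snd fO k1 = pK := pullback.lift_snd _ _ _
  have hjm := Over.mono_of_mono_left jQ
  have sqm : IsPullback m pK p k1 := IsPullback.mk' hmp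
    (fun X a b ha hb => by
      rw [← cancel_mono z]
      refine pullback.hom_ext ?_ ?_
      · simp only [Category.assoc, hzf, reassoc_of% ha]
      · simp only [Category.assoc, hzs, hb])
    fun X a b hab => ⟨pullback.lift a b hab ≫ e, by
      rw [← cancel_mono jQ, Category.assoc, Category.assoc, ← hzf, reassoc_of% he, pullback.lift_fst,
        pullback.lift_fst_assoc], by
      rw [Category.assoc, ← hzs, reassoc_of% he, pullback.lift_snd, pullback.lift_snd]⟩
  have hfO : Flat fO.left ∧ LocallyOfFinitePresentation fO.left :=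
    ⟨MorphismProperty.of_isPullback (sqO.map (Over.forget S)) hflat,
      MorphismProperty.of_isPullback (sqO.map (Over.forget S)) hlfp⟩
  obtain ⟨_, _⟩ := hfO
  refine ⟨⟨T1, QP, inferInstanceAs (IsAffine (Spec R1)), a1,
    (MorphismProperty.cancel_right_of_respectsIso @Etale _ _).2 hφ, k1, hk, p, uQ, m,
    sqm.map (Over.forget S), by
      show m ≫ jQ ≫ qO ≫ uZ = _
      rw [reassoc_of% hmj, reassoc_of% hzP, hzT1], hwQ, hpfin,
    inferInstanceAs (Flat (jQ.left ≫ fO.left)),
    inferInstanceAs (LocallyOfFinitePresentation (jQ.left ≫ fO.left)), ?_⟩⟩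
  intro T2 P2 j2 m2 p2 sq2 z2 hz1 hz2
  have sqB : IsPullback ((yon S).map (pullback.fst fO j2) ≫ (yon S).map qO ≫ hp.1.fst ξ)
      ((yon S).map (pullback.snd fO j2)) p0 ((yon S).map (j2 ≫ a1) ≫ ξ) := by
    have h := ((IsPullback.of_hasPullback fO j2).map (yon S)).paste_horiz sqP
    rwa [Functor.map_comp, Category.assoc]
  let i₂ := sqB.isoIsPullback _ _ (hp.1.isPullback ((yon S).map (j2 ≫ a1) ≫ ξ))
  obtain ⟨i', hi'⟩ := (yon S).map_surjective i₂.hom
  have : IsIso i' := by
    have : IsIso ((yon S).map i') := by rw [hi']; infer_instance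
    exact isIso_of_fully_faithful (yon S) i'
  let y : P2 ⟶ pullback fO j2 := pullback.lift (m2 ≫ jQ) p2 (by rw [Category.assoc]; exact sq2.w)
  have : IsOpenImmersion y.left := by
    have sqy : IsPullback m2 y jQ (pullback.fst fO j2) := by
      refine IsPullback.of_bot ?_ (pullback.lift_fst _ _ _).symm (IsPullback.of_hasPullback fO j2)
      rw [pullback.lift_snd]; exact sq2
    exact MorphismProperty.of_isPullback (sqy.map (Over.forget S)) (inferInstanceAs (IsOpenImmersion jQ.left))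
  have : z2 = y ≫ i' := (yon S).map_injective ((hp.1.isPullback _).hom_ext
    (by
      rw [hz1, (yon S).map_comp y i', hi', Category.assoc, IsPullback.isoIsPullback_hom_fst, ← huZ,
        ← Functor.map_comp, ← Functor.map_comp, ← Functor.map_comp, pullback.lift_fst_assoc]
      simp only [uQ, Category.assoc])
    (by
      rw [← Functor.map_comp, hz2, (yon S).map_comp y i', hi', Category.assoc, IsPullback.isoIsPullback_hom_snd,
        ← Functor.map_comp, pullback.lift_snd]))
  rw [this]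
  exact inferInstanceAs (IsOpenImmersion (y.left ≫ i'.left))

end Groth.L24.Boot
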