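import Groth.Agent.L24.Boot.Amitsur
import Mathlib.AlgebraicGeometry.Morphisms.Etale
import Mathlib.AlgebraicGeometry.Sites.Fpqc
import Mathlib.AlgebraicGeometry.Gluing

/-!
The image of a morphism `v : V ⟶ Y` with etale projections `V ×_Y V ⟶ V` is representable by a scheme.
-/

set_option autoImplicit false
set_option backward.isDefEq.respectTransparency false
set_option backward.isDefEq.respectTransparency.types false

universe u

open CategoryTheory CategoryTheory.Limits AlgebraicGeometry TensorProduct Algebra.TensorProduct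

noncomputable section

namespace Groth.L24.Boot

/-- A factorization of `v` as an etale surjection followed by a monomorphism. -/
structure MonoQuot {V Y : Scheme.{u}} (v : V ⟶ Y) where
  Z : Scheme.{u}
  e : V ⟶ Z
  m : Z ⟶ Y
  etale : Etale e
  surj : Surjective e
  mono : Mono m
  fac : e ≫ m = v

attribute [instance] MonoQuot.etale MonoQuot.surj MonoQuot.mono

theorem etale_fst_of_openImm {V₁ V₂ V Y : Scheme.{u}} (v : V ⟶ Y) [Etale (pullback.fst v v)]
    (j₁ : V₁ ⟶ V) (j₂ : V₂ ⟶ V) [IsOpenImmersion j₂] : Etale (pullback.fst (j₁ ≫ v) (j₂ ≫ v)) := by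
  have h1 : Etale (pullback.fst j₁ (pullback.fst v v)) := MorphismProperty.pullback_fst _ _ inferInstance
  rw [← pullbackRightPullbackFstIso_hom_fst v v j₁] at h1
  have h2 : Etale (pullback.fst (j₁ ≫ v) v) :=
    (MorphismProperty.cancel_left_of_respectsIso @Etale _ _).1 h1
  have h3 : Etale (pullback.fst (pullback.snd (j₁ ≫ v) v) j₂) :=
    MorphismProperty.pullback_fst _ _ inferInstance
  have h4 : Etale (pullback.fst (pullback.snd (j₁ ≫ v) v) j₂ ≫ pullback.fst (j₁ ≫ v) v) :=
    MorphismProperty.comp_mem _ _ _ h3 h2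
  rw [← pullbackLeftPullbackSndIso_hom_fst (j₁ ≫ v) v j₂] at h4
  exact (MorphismProperty.cancel_left_of_respectsIso @Etale _ _).1 h4

/-- The projection is unchanged by composing with a monomorphism. -/
theorem etale_fst_comp_mono {V₁ Y' Y : Scheme.{u}} (f : V₁ ⟶ Y') (i : Y' ⟶ Y) [Mono i]
    (h : Etale (pullback.fst (f ≫ i) (f ≫ i))) : Etale (pullback.fst f f) := by
  have sq : IsPullback (pullback.fst f f) (pullback.snd f f) (f ≫ i) (f ≫ i) :=
    IsPullback.of_isLimit' ⟨by rw [← Category.assoc, pullback.condition, Category.assoc]⟩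
      (PullbackCone.isLimitOfCompMono f f i _ (pullback.isLimit f f))
  rw [← sq.isoPullback_hom_fst]
  exact (MorphismProperty.cancel_left_of_respectsIso @Etale _ _).2 h

theorem exists_affine {A C : CommRingCat.{u}} (φ : A ⟶ C) [LocallyOfFiniteType (Spec.map φ)]
    [Etale (pullback.fst (Spec.map φ) (Spec.map φ))] : Nonempty (MonoQuot (Spec.map φ)) := by
  let : Algebra A C := φ.hom.toAlgebra
  have : Algebra.FiniteType A C := by
    have h : φ.hom.FiniteType := HasRingHomProperty.Spec_iff.1 ‹LocallyOfFiniteType (Spec.map φ)›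
    exact h
  have hcu : Algebra.Etale C (C ⊗[A] C) := by
    have h' : Etale ((pullbackSpecIso A C C).inv ≫ pullback.fst (Spec.map φ) (Spec.map φ)) :=
      (MorphismProperty.cancel_left_of_respectsIso @Etale _ _).2 inferInstance
    have e : (pullbackSpecIso A C C).inv ≫ pullback.fst (Spec.map φ) (Spec.map φ) = _ :=
      pullbackSpecIso_inv_fst A C C
    rw [e] at h'
    exact RingHom.etale_algebraMap.1 (HasRingHomProperty.Spec_iff.1 h')
  let D := amitsur A C
  let h : Spec C ⟶ Spec (CommRingCat.of D) := Spec.map (CommRingCat.ofHom D.val.toRingHom)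
  have hh : Etale h := HasRingHomProperty.Spec_iff.2 (etale_amitsur A C)
  let O : (Spec (CommRingCat.of D)).Opens := ⟨Set.range h, h.isOpenMap.isOpen_range⟩
  let e : Spec C ⟶ O.toScheme := IsOpenImmersion.lift O.ι h (by rw [Scheme.Opens.range_ι]; rfl)
  have he : e ≫ O.ι = h := IsOpenImmersion.lift_fac _ _ _
  have het : Etale e := MorphismProperty.of_postcomp (W := @Etale) e O.ι (inferInstance : Etale O.ι)
    (by rw [he]; exact hh)
  have hes : Surjective e := ⟨fun z => by
    obtain ⟨x, hx⟩ := z.2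
    refine ⟨x, O.ι.isOpenEmbedding.injective ?_⟩
    rw [← Scheme.Hom.comp_apply, he]; exact hx⟩
  let m : O.toScheme ⟶ Spec A := O.ι ≫ Spec.map (CommRingCat.ofHom (algebraMap A D))
  have fac : e ≫ m = Spec.map φ := by
    rw [← Category.assoc, he, ← Spec.map_comp, ← CommRingCat.ofHom_comp]
    rfl
  refine ⟨⟨O.toScheme, e, m, het, hes, ⟨fun {T} a b hab => ?_⟩, fac⟩⟩
  let χ := pullback.fst (pullback.fst a e ≫ b) e ≫ pullback.fst a e
  have : Epi χ := Flat.epi_of_flat_of_surjective _
  rw [← cancel_epi χ]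
  let va := pullback.fst (pullback.fst a e ≫ b) e ≫ pullback.snd a e
  let vb := pullback.snd (pullback.fst a e ≫ b) e
  have ha : va ≫ e = χ ≫ a := by simp [va, χ, pullback.condition]
  have hb : vb ≫ e = χ ≫ b := by simp [vb, χ, ← pullback.condition]
  rw [← ha, ← hb, ← cancel_mono O.ι, Category.assoc va, Category.assoc vb, he]
  have hv : va ≫ Spec.map φ = vb ≫ Spec.map φ := by
    rw [← fac, reassoc_of% ha, reassoc_of% hb, hab]
  let k := pullback.lift va vb hv ≫ (pullbackSpecIso A C C).hom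
  have hk1 : k ≫ Spec.map (CommRingCat.ofHom (includeLeft : C →ₐ[A] C ⊗[A] C).toRingHom) = va := by
    rw [Category.assoc]
    erw [pullbackSpecIso_hom_fst A C C]
    exact pullback.lift_fst _ _ _
  have hk2 : k ≫ Spec.map (CommRingCat.ofHom (includeRight : C →ₐ[A] C ⊗[A] C).toRingHom) = vb := by
    rw [Category.assoc]
    erw [pullbackSpecIso_hom_snd A C C]
    exact pullback.lift_snd _ _ _
  rw [← hk1, ← hk2, Category.assoc k, Category.assoc k]
  congr 1
  rw [← Spec.map_comp, ← Spec.map_comp, ← CommRingCat.ofHom_comp, ← CommRingCat.ofHom_comp]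
  congr 2
  exact RingHom.ext fun c => includeLeft_eq_includeRight A C c

section Glue

variable {V Y : Scheme.{u}} {v : V ⟶ Y} {ι : Type u} {W : ι → Scheme.{u}} {j : ∀ i, W i ⟶ V}
  (F : ∀ i, MonoQuot (j i ≫ v))

/-- The locus in the `i`-th piece lying over the `k`-th piece. -/
def overlapSet (i k : ι) : Set (F i).Z := (F i).m ⁻¹' Set.range (F k).m

variable [Etale (pullback.fst v v)] [∀ i, IsOpenImmersion (j i)]

omit [Etale (pullback.fst v v)] [∀ i, IsOpenImmersion (j i)] in
theorem overlapSet_eq (i k : ι) :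
    overlapSet F i k = Set.range (pullback.fst (j i ≫ v) (j k ≫ v) ≫ (F i).e) := by
  ext z
  constructor
  · rintro ⟨z', hz'⟩
    obtain ⟨x, rfl⟩ := (F i).e.surjective z
    obtain ⟨x', rfl⟩ := (F k).e.surjective z'
    rw [← Scheme.Hom.comp_apply, ← Scheme.Hom.comp_apply, (F i).fac, (F k).fac] at hz'
    obtain ⟨p, hp, -⟩ := Scheme.Pullback.exists_preimage_pullback x x' hz'.symm
    exact ⟨p, by rw [Scheme.Hom.comp_apply, hp]⟩
  · rintro ⟨p, rfl⟩
    refine ⟨(F k).e (pullback.snd (j i ≫ v) (j k ≫ v) p), ?_⟩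
    rw [← Scheme.Hom.comp_apply, ← Scheme.Hom.comp_apply, ← Scheme.Hom.comp_apply, Category.assoc,
      (F k).fac, (F i).fac, pullback.condition]

/-- The open overlap. -/
def overlap (i k : ι) : (F i).Z.Opens :=
  ⟨overlapSet F i k, by
    rw [overlapSet_eq]
    have := etale_fst_of_openImm v (j i) (j k)
    exact (pullback.fst (j i ≫ v) (j k ≫ v) ≫ (F i).e).isOpenMap.isOpen_range⟩

theorem exists_overlapMap (i k : ι) :
    ∃ r : (overlap F i k).toScheme ⟶ (F k).Z, r ≫ (F k).m = (overlap F i k).ι ≫ (F i).m := by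
  have := etale_fst_of_openImm v (j i) (j k)
  let p := pullback.fst (j i ≫ v) (j k ≫ v) ≫ (F i).e
  let χ : pullback (j i ≫ v) (j k ≫ v) ⟶ (overlap F i k).toScheme :=
    IsOpenImmersion.lift (overlap F i k).ι p (by
      rw [Scheme.Opens.range_ι]
      exact (overlapSet_eq F i k).symm.le)
  have hχ : χ ≫ (overlap F i k).ι = p := IsOpenImmersion.lift_fac _ _ _
  have : Etale χ := MorphismProperty.of_postcomp (W := @Etale) χ (overlap F i k).ι
    (inferInstance : Etale (overlap F i k).ι) (by rw [hχ]; exact (inferInstance : Etale p))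
  have : Surjective χ := ⟨fun z => by
    obtain ⟨x, hx⟩ := (overlapSet_eq F i k).le z.2
    refine ⟨x, (overlap F i k).ι.isOpenEmbedding.injective ?_⟩
    rw [← Scheme.Hom.comp_apply, hχ]; exact hx⟩
  let s := pullback.snd (j i ≫ v) (j k ≫ v) ≫ (F k).e
  have hs : s ≫ (F k).m = χ ≫ (overlap F i k).ι ≫ (F i).m := by
    rw [← Category.assoc χ, hχ, Category.assoc, (F k).fac, ← pullback.condition, Category.assoc, (F i).fac]
  refine ⟨EffectiveEpi.desc χ s fun g₁ g₂ hg => ?_, ?_⟩
  · rw [← cancel_mono (F k).m, Category.assoc g₁ s, Category.assoc g₂ s, hs, reassoc_of% hg]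
  · have : Epi χ := Flat.epi_of_flat_of_surjective _
    rw [← cancel_epi χ, EffectiveEpi.fac_assoc, hs]

/-- The transition map. -/
def transition (i k : ι) : (overlap F i k).toScheme ⟶ (overlap F k i).toScheme :=
  IsOpenImmersion.lift (overlap F k i).ι (exists_overlapMap F i k).choose (by
    rw [Scheme.Opens.range_ι]
    rintro _ ⟨z, rfl⟩
    refine ⟨(overlap F i k).ι z, ?_⟩
    rw [← Scheme.Hom.comp_apply, ← Scheme.Hom.comp_apply, (exists_overlapMap F i k).choose_spec])

@[reassoc]
theorem transition_m (i k : ι) :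
    transition F i k ≫ (overlap F k i).ι ≫ (F k).m = (overlap F i k).ι ≫ (F i).m := by
  rw [transition, IsOpenImmersion.lift_fac_assoc, (exists_overlapMap F i k).choose_spec]

/-- The gluing datum of the pieces. -/
def glueData : Scheme.GlueData.{u} where
  J := ι
  U i := (F i).Z
  V p := (overlap F p.1 p.2).toScheme
  f i k := (overlap F i k).ι
  f_id i := by
    have h : overlap F i i = ⊤ := TopologicalSpace.Opens.ext (Set.eq_univ_of_forall fun z => ⟨z, rfl⟩)
    show IsIso (overlap F i i).ι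
    rw [h]; exact (Scheme.topIso _).isIso_hom
  t i k := transition F i k
  t_id i := by
    rw [← cancel_mono ((overlap F i i).ι ≫ (F i).m), transition_m, Category.id_comp]
  t' i k l := pullback.lift
    (IsOpenImmersion.lift (overlap F k l).ι
      (pullback.fst _ _ ≫ transition F i k ≫ (overlap F k i).ι) (by
        rw [Scheme.Opens.range_ι]
        rintro _ ⟨z, rfl⟩
        obtain ⟨z', hz'⟩ := ((pullback.snd (overlap F i k).ι (overlap F i l).ι) z).2
        refine ⟨z', hz'.trans ?_⟩
        show ((pullback.snd (overlap F i k).ι (overlap F i l).ι ≫ (overlap F i l).ι) ≫ (F i).m) z = _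
        rw [← pullback.condition, Category.assoc, ← transition_m F i k]
        simp [Scheme.Hom.comp_apply]))
    (pullback.fst _ _ ≫ transition F i k) (by rw [IsOpenImmersion.lift_fac, Category.assoc])
  t_fac i k l := pullback.lift_snd _ _ _
  cocycle i k l := by
    rw [← cancel_mono (pullback.fst (overlap F i k).ι (overlap F i l).ι ≫ (overlap F i k).ι ≫ (F i).m)]
    simp [transition_m, pullback.condition_assoc]
  f_open i k := inferInstance

/-- The glued map to `Y`. -/
def glueM : (glueData F).glued ⟶ Y :=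
  Multicoequalizer.desc _ _ (fun i => (F i).m) fun ⟨i, k⟩ => (transition_m F i k).symm.trans (Category.assoc _ _ _).symm

@[reassoc (attr := simp)]
theorem ι_glueM (i : ι) : (glueData F).ι i ≫ glueM F = (F i).m :=
  Multicoequalizer.π_desc _ _ _ _ _

theorem comp_ι_eq {T : Scheme.{u}} {i k : ι} (a : T ⟶ (F i).Z) (b : T ⟶ (F k).Z)
    (h : a ≫ (F i).m = b ≫ (F k).m) : a ≫ (glueData F).ι i = b ≫ (glueData F).ι k := by
  let a' := IsOpenImmersion.lift (overlap F i k).ι a (by
    rw [Scheme.Opens.range_ι]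
    rintro _ ⟨z, rfl⟩
    exact ⟨b z, by rw [← Scheme.Hom.comp_apply, ← Scheme.Hom.comp_apply, h]⟩)
  have ha : a' ≫ (overlap F i k).ι = a := IsOpenImmersion.lift_fac _ _ _
  have hb : a' ≫ transition F i k ≫ (overlap F k i).ι = b := by
    rw [← cancel_mono (F k).m, Category.assoc, Category.assoc, transition_m, reassoc_of% ha, h]
  rw [← ha, ← hb]
  simpa [glueData] using congrArg (a' ≫ ·) ((glueData F).glue_condition i k).symm

theorem mono_glueM : Mono (glueM F) := ⟨fun {T} a b h => by
  let 𝒰 := (glueData F).openCover.pullback₁ a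
  refine Scheme.Cover.hom_ext 𝒰 _ _ fun i => ?_
  let 𝒲 := (glueData F).openCover.pullback₁ (𝒰.f i ≫ b)
  refine Scheme.Cover.hom_ext 𝒲 _ _ fun k => ?_
  have h1 : 𝒰.f i ≫ a = pullback.snd a _ ≫ (glueData F).ι i := pullback.condition
  have h2 : 𝒲.f k ≫ 𝒰.f i ≫ b = pullback.snd (𝒰.f i ≫ b) _ ≫ (glueData F).ι k := pullback.condition
  rw [h1, h2]
  rw [← Category.assoc]
  refine comp_ι_eq F _ _ ?_
  rw [← ι_glueM F i, ← ι_glueM F k, ← reassoc_of% h2, h.symm, reassoc_of% h1, Category.assoc]⟩

end Glue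

/-- A morphism locally of finite type with etale self-projections factors as an etale surjection
followed by a monomorphism. -/
theorem exists_monoQuot {V Y : Scheme.{u}} (v : V ⟶ Y) [LocallyOfFiniteType v]
    [Etale (pullback.fst v v)] : Nonempty (MonoQuot v) := by
  have key : ∀ x : V, ∃ (C : CommRingCat.{u}) (j : Spec C ⟶ V), IsOpenImmersion j ∧ x ∈ Set.range j ∧
      Nonempty (MonoQuot (j ≫ v)) := fun x => by
    obtain ⟨_, ⟨U, hU, rfl⟩, hxU, -⟩ := Y.isBasis_affineOpens.exists_subset_of_mem_open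
      (Set.mem_univ (v x)) isOpen_univ
    obtain ⟨_, ⟨W, hW, rfl⟩, hxW, hle : W ≤ v ⁻¹ᵁ U⟩ :=
      V.isBasis_affineOpens.exists_subset_of_mem_open hxU (v ⁻¹ᵁ U).2
    have e : Spec.map (v.appLE U W hle) ≫ hU.fromSpec = hW.fromSpec ≫ v :=
      IsAffineOpen.SpecMap_appLE_fromSpec ..
    have : LocallyOfFiniteType (Spec.map (v.appLE U W hle) ≫ hU.fromSpec) := by rw [e]; infer_instance
    have : LocallyOfFiniteType (Spec.map (v.appLE U W hle)) := locallyOfFiniteType_of_comp _ hU.fromSpec
    have : Etale (pullback.fst (Spec.map (v.appLE U W hle)) (Spec.map (v.appLE U W hle))) := by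
      refine etale_fst_comp_mono _ hU.fromSpec ?_
      rw [e]
      exact etale_fst_of_openImm v hW.fromSpec hW.fromSpec
    obtain ⟨M⟩ := exists_affine (v.appLE U W hle)
    exact ⟨_, hW.fromSpec, inferInstance, by rw [hW.range_fromSpec]; exact hxW,
      ⟨⟨M.Z, M.e, M.m ≫ hU.fromSpec, M.etale, M.surj, inferInstance, by rw [reassoc_of% M.fac, e]⟩⟩⟩
  choose C j hj hx hM using key
  let F := fun x => (hM x).some
  let 𝒰 : V.OpenCover := Scheme.Cover.mkOfCovers V.carrier (fun x => Spec (C x)) j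
    (fun x => ⟨x, (hx x).choose, (hx x).choose_spec⟩) hj
  let e : V ⟶ (glueData F).glued := 𝒰.glueMorphisms (fun x => (F x).e ≫ (glueData F).ι x) fun x y => by
    simp only [← Category.assoc]
    refine comp_ι_eq F _ _ ?_
    rw [Category.assoc, (F x).fac, Category.assoc, (F y).fac]
    exact pullback.condition_assoc v
  have he : ∀ x, j x ≫ e = (F x).e ≫ (glueData F).ι x := fun x => 𝒰.ι_glueMorphisms _ _ x
  refine ⟨⟨_, e, glueM F, ?_, ⟨fun z => ?_⟩, mono_glueM F, ?_⟩⟩
  · refine IsZariskiLocalAtSource.of_openCover (P := @Etale) 𝒰 fun x => ?_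
    show Etale (j x ≫ e)
    rw [he]; infer_instance
  · obtain ⟨x, z', rfl⟩ := (glueData F).ι_jointly_surjective z
    obtain ⟨w, rfl⟩ := (F x).e.surjective z'
    exact ⟨j x w, by rw [← Scheme.Hom.comp_apply, he, Scheme.Hom.comp_apply]; rfl⟩
  · refine Scheme.Cover.hom_ext 𝒰 _ _ fun x => ?_
    show j x ≫ e ≫ glueM F = j x ≫ v
    rw [reassoc_of% (he x), ι_glueM, (F x).fac]

end Groth.L24.Boot
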