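import Groth.Agent.L24.Boot.PairTarget

/-!
The universal finite free quotient with basis `b` whose pairs land in a quasi-compact open of the relation.
-/

set_option autoImplicit false
set_option backward.isDefEq.respectTransparency false
set_option backward.isDefEq.respectTransparency.types false

universe u

open CategoryTheory CategoryTheory.Limits AlgebraicGeometry Opposite AlgSp TensorProduct

noncomputable section

namespace Groth.L24.Boot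

variable {S : Scheme.{u}} {F : Sp S} {U0 : Over S} {p0 : (yon S).obj U0 ⟶ F} (hp : RepWith LqfFlat p0)
  [IsAffine U0.left]

/-- The rings behind the universal piece. -/
structure PieceData (d : ℕ) (b : Fin d → Γ(U0.left, ⊤)) (R' : (rel hp).left.Opens) where
  R2 : Type u
  A2 : Type u
  D : Type u
  [iR : CommRing R2]
  [iA : CommRing A2]
  [iD : CommRing D]
  [alg : Algebra R2 A2]
  β2 : Γ(U0.left, ⊤) →+* A2
  e2 : Module.Basis (Fin d) R2 A2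
  Φ2 : D →+* A2 ⊗[R2] A2
  δ : Γ(U0.left, ⊤) ⊗[ℤ] Γ(U0.left, ⊤) →+* D
  k : R'.toScheme ⟶ Spec (CommRingCat.of D)
  hk : IsOpenImmersion k
  hk1 : k ≫ Spec.map (CommRingCat.ofHom (δ.comp Algebra.TensorProduct.includeLeftRingHom)) =
    R'.ι ≫ (rel1 hp).left ≫ U0.left.isoSpec.hom
  hk2 : k ≫ Spec.map (CommRingCat.ofHom (δ.comp (Algebra.TensorProduct.includeRight :
      Γ(U0.left, ⊤) →ₐ[ℤ] Γ(U0.left, ⊤) ⊗[ℤ] Γ(U0.left, ⊤)).toRingHom)) =
    R'.ι ≫ (rel2 hp).left ≫ U0.left.isoSpec.hom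
  he2 : ∀ i, e2 i = β2 (b i)
  hΦ2 : Φ2.comp δ = pairB β2
  univ : ∀ (R3 C : Type u) [CommRing R3] [CommRing C] [Algebra R3 C] (γ : Γ(U0.left, ⊤) →+* C)
    (bC : Module.Basis (Fin d) R3 C), (∀ i, bC i = γ (b i)) → ∀ (g : D →+* C ⊗[R3] C),
    g.comp δ = pairB γ →
    ∃! θ : R2 →+* R3, ∃ (Φ : A2 →+* C) (h : Φ.comp (algebraMap R2 A2) = (algebraMap R3 C).comp θ),
      Φ.comp β2 = γ ∧ (pairHom θ Φ h).comp Φ2 = g

attribute [instance] PieceData.iR PieceData.iA PieceData.iD PieceData.alg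

theorem exists_pieceData {d : ℕ} (b : Fin d → Γ(U0.left, ⊤)) (R' : (rel hp).left.Opens)
    (hR' : IsCompact (R' : Set (rel hp).left)) : Nonempty (PieceData hp d b R') := by
  obtain ⟨D, δ, k, hk, hk1, hk2⟩ := exists_target hp R' hR'
  let := δ.toAlgebra
  obtain ⟨R2, iR, A2, iA, alg, β2, e2, Φ2, he2, hΦ2, huniv⟩ := exists_univ b (D := D)
  exact ⟨⟨R2, A2, D, β2, e2, Φ2, δ, k, hk, hk1, hk2, he2, hΦ2, huniv⟩⟩

namespace PieceData

variable {hp} {d : ℕ} {b : Fin d → Γ(U0.left, ⊤)} {R' : (rel hp).left.Opens} (P : PieceData hp d b R')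

/-- The finite free cover. -/
def π2 : Spec (CommRingCat.of P.A2) ⟶ Spec (CommRingCat.of P.R2) :=
  Spec.map (CommRingCat.ofHom (algebraMap P.R2 P.A2))

/-- The scheme of pairs. -/
def πW : Spec (CommRingCat.of (P.A2 ⊗[P.R2] P.A2)) ⟶ Spec (CommRingCat.of P.R2) :=
  Spec.map (CommRingCat.ofHom (algebraMap P.R2 (P.A2 ⊗[P.R2] P.A2)))

/-- The universal map of pairs. -/
def η : Spec (CommRingCat.of (P.A2 ⊗[P.R2] P.A2)) ⟶ Spec (CommRingCat.of P.D) :=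
  Spec.map (CommRingCat.ofHom P.Φ2)

theorem finite_πW [NeZero d] : IsFinite P.πW := by
  have : NeZero (d * d) := ⟨mul_ne_zero (NeZero.ne d) (NeZero.ne d)⟩
  exact (flat_surjective_spec_of_basis ((P.e2.tensorProduct P.e2).reindex finProdFinEquiv)).2.2.2

variable [NeZero d]

/-- The locus where all pairs land in `R'`. -/
def locus : (Spec (CommRingCat.of P.R2)).Opens :=
  ⟨(P.πW '' (P.η ⁻¹' (Set.range P.k)ᶜ))ᶜ, by
    have := P.finite_πW
    have := P.hk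
    exact (P.πW.isClosedMap _ (P.k.isOpenEmbedding.isOpen_range.isClosed_compl.preimage
      P.η.continuous)).isOpen_compl⟩

theorem η_comp_inl :
    P.η ≫ Spec.map (CommRingCat.ofHom (P.δ.comp Algebra.TensorProduct.includeLeftRingHom)) =
      Spec.map (CommRingCat.ofHom (Algebra.TensorProduct.includeLeftRingHom : P.A2 →+* P.A2 ⊗[P.R2] P.A2)) ≫
        Spec.map (CommRingCat.ofHom P.β2) := by
  rw [η, ← Spec.map_comp, ← Spec.map_comp]
  congr 1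
  refine CommRingCat.hom_ext (RingHom.ext fun x => ?_)
  show P.Φ2 (P.δ (x ⊗ₜ[ℤ] (1 : Γ(U0.left, ⊤)))) = P.β2 x ⊗ₜ[P.R2] (1 : P.A2)
  rw [show P.Φ2 (P.δ (x ⊗ₜ[ℤ] (1 : Γ(U0.left, ⊤)))) = pairB P.β2 (x ⊗ₜ 1) from DFunLike.congr_fun P.hΦ2 _,
    pairB_tmul, map_one]

theorem η_comp_inr :
    P.η ≫ Spec.map (CommRingCat.ofHom (P.δ.comp (Algebra.TensorProduct.includeRight :
      Γ(U0.left, ⊤) →ₐ[ℤ] Γ(U0.left, ⊤) ⊗[ℤ] Γ(U0.left, ⊤)).toRingHom)) =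
      Spec.map (CommRingCat.ofHom (Algebra.TensorProduct.includeRight : P.A2 →ₐ[P.R2] P.A2 ⊗[P.R2] P.A2).toRingHom) ≫
        Spec.map (CommRingCat.ofHom P.β2) := by
  rw [η, ← Spec.map_comp, ← Spec.map_comp]
  congr 1
  refine CommRingCat.hom_ext (RingHom.ext fun x => ?_)
  show P.Φ2 (P.δ ((1 : Γ(U0.left, ⊤)) ⊗ₜ[ℤ] x)) = (1 : P.A2) ⊗ₜ[P.R2] P.β2 x
  rw [show P.Φ2 (P.δ ((1 : Γ(U0.left, ⊤)) ⊗ₜ[ℤ] x)) = pairB P.β2 (1 ⊗ₜ x) from DFunLike.congr_fun P.hΦ2 _,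
    pairB_tmul, map_one]

/-- Maps to the pairs over the locus give maps to the relation. -/
theorem liftR {X : Scheme.{u}} (c : X ⟶ Spec (CommRingCat.of (P.A2 ⊗[P.R2] P.A2)))
    (hc : ∀ x, (c ≫ P.πW) x ∈ P.locus) :
    ∃ e' : X ⟶ R'.toScheme, e' ≫ P.k = c ≫ P.η ∧
      e' ≫ R'.ι ≫ (rel1 hp).left = c ≫ Spec.map (CommRingCat.ofHom
        (Algebra.TensorProduct.includeLeftRingHom : P.A2 →+* P.A2 ⊗[P.R2] P.A2)) ≫ toU P.β2 ∧
      e' ≫ R'.ι ≫ (rel2 hp).left = c ≫ Spec.map (CommRingCat.ofHom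
        (Algebra.TensorProduct.includeRight : P.A2 →ₐ[P.R2] P.A2 ⊗[P.R2] P.A2).toRingHom) ≫ toU P.β2 := by
  have := P.hk
  let e' := IsOpenImmersion.lift P.k (c ≫ P.η) (by
    rintro _ ⟨x, rfl⟩
    by_contra hx
    exact hc x ⟨c x, hx, rfl⟩)
  have he' : e' ≫ P.k = c ≫ P.η := IsOpenImmersion.lift_fac _ _ _
  refine ⟨e', he', ?_, ?_⟩
  · rw [← cancel_mono U0.left.isoSpec.hom]
    simp only [Category.assoc, toU, Iso.inv_hom_id, Category.comp_id]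
    rw [← P.η_comp_inl, ← P.hk1, reassoc_of% he']
  · rw [← cancel_mono U0.left.isoSpec.hom]
    simp only [Category.assoc, toU, Iso.inv_hom_id, Category.comp_id]
    rw [← P.η_comp_inr, ← P.hk2, reassoc_of% he']

/-- The cover over the locus. -/
def π0 : (P.π2 ⁻¹ᵁ P.locus).toScheme ⟶ P.locus.toScheme := P.π2 ∣_ P.locus

/-- The map of the cover to `U0`. -/
def u0 : (P.π2 ⁻¹ᵁ P.locus).toScheme ⟶ U0.left := (P.π2 ⁻¹ᵁ P.locus).ι ≫ toU P.β2

theorem π0_props : Flat P.π0 ∧ Surjective P.π0 ∧ LocallyOfFinitePresentation P.π0 ∧ IsFinite P.π0 := by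
  obtain ⟨h1, h2, h3, h4⟩ := flat_surjective_spec_of_basis P.e2
  exact ⟨MorphismProperty.of_isPullback (isPullback_morphismRestrict P.π2 P.locus).flip h1,
    MorphismProperty.of_isPullback (isPullback_morphismRestrict P.π2 P.locus).flip h2,
    MorphismProperty.of_isPullback (isPullback_morphismRestrict P.π2 P.locus).flip h3,
    MorphismProperty.of_isPullback (isPullback_morphismRestrict P.π2 P.locus).flip h4⟩

theorem pairs {X : Scheme.{u}} (x y : X ⟶ (P.π2 ⁻¹ᵁ P.locus).toScheme) (hxy : x ≫ P.π0 = y ≫ P.π0) :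
    ∃ r : X ⟶ (rel hp).left, r ≫ (rel1 hp).left = x ≫ P.u0 ∧ r ≫ (rel2 hp).left = y ≫ P.u0 ∧
      Set.range r ⊆ R' := by
  have hxy' : (x ≫ (P.π2 ⁻¹ᵁ P.locus).ι) ≫ P.π2 = (y ≫ (P.π2 ⁻¹ᵁ P.locus).ι) ≫ P.π2 := by
    simp only [Category.assoc, ← morphismRestrict_ι]
    show x ≫ P.π0 ≫ P.locus.ι = y ≫ P.π0 ≫ P.locus.ι
    rw [reassoc_of% hxy]
  obtain ⟨c, hc⟩ : ∃ c : X ⟶ Spec (CommRingCat.of (P.A2 ⊗[P.R2] P.A2)),
      c = pullback.lift _ _ hxy' ≫ (pullbackSpecIso P.R2 P.A2 P.A2).hom := ⟨_, rfl⟩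
  have hc1 : c ≫ Spec.map (CommRingCat.ofHom
      (Algebra.TensorProduct.includeLeftRingHom : P.A2 →+* P.A2 ⊗[P.R2] P.A2)) = x ≫ (P.π2 ⁻¹ᵁ P.locus).ι := by
    rw [hc, Category.assoc]
    erw [pullbackSpecIso_hom_fst, pullback.lift_fst]
  have hc2 : c ≫ Spec.map (CommRingCat.ofHom
      (Algebra.TensorProduct.includeRight : P.A2 →ₐ[P.R2] P.A2 ⊗[P.R2] P.A2).toRingHom) =
      y ≫ (P.π2 ⁻¹ᵁ P.locus).ι := by
    rw [hc, Category.assoc]
    erw [pullbackSpecIso_hom_snd, pullback.lift_snd]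
  have hq : Spec.map (CommRingCat.ofHom
      (Algebra.TensorProduct.includeLeftRingHom : P.A2 →+* P.A2 ⊗[P.R2] P.A2)) ≫ P.π2 = P.πW := by
    rw [π2, πW, ← Spec.map_comp]; rfl
  obtain ⟨e', -, he1, he2⟩ := P.liftR c fun z => by
    rw [← hq, reassoc_of% hc1, Scheme.Hom.comp_apply, Scheme.Hom.comp_apply]
    exact (x z).2
  refine ⟨e' ≫ R'.ι, by rw [Category.assoc, he1, reassoc_of% hc1, u0],
    by rw [Category.assoc, he2, reassoc_of% hc2, u0], ?_⟩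
  rintro _ ⟨t, rfl⟩
  exact (e' t).2

theorem mono_π0_u0 {X : Scheme.{u}} (x y : X ⟶ (P.π2 ⁻¹ᵁ P.locus).toScheme) (h1 : x ≫ P.π0 = y ≫ P.π0)
    (h2 : x ≫ P.u0 = y ≫ P.u0) : x = y := by
  rw [← cancel_mono (P.π2 ⁻¹ᵁ P.locus).ι]
  have e1 : (x ≫ (P.π2 ⁻¹ᵁ P.locus).ι) ≫ P.π2 = (y ≫ (P.π2 ⁻¹ᵁ P.locus).ι) ≫ P.π2 := by
    simp only [Category.assoc, ← morphismRestrict_ι]
    show x ≫ P.π0 ≫ P.locus.ι = y ≫ P.π0 ≫ P.locus.ι
    rw [reassoc_of% h1]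
  have e2' : (x ≫ (P.π2 ⁻¹ᵁ P.locus).ι) ≫ Spec.map (CommRingCat.ofHom P.β2) =
      (y ≫ (P.π2 ⁻¹ᵁ P.locus).ι) ≫ Spec.map (CommRingCat.ofHom P.β2) := by
    rw [← cancel_mono U0.left.isoSpec.inv]
    simp only [Category.assoc]
    exact h2
  have key : ∀ {R0 : Type u} [CommRing R0] (f : R0 →+* P.A2),
      (x ≫ (P.π2 ⁻¹ᵁ P.locus).ι) ≫ Spec.map (CommRingCat.ofHom f) =
        (y ≫ (P.π2 ⁻¹ᵁ P.locus).ι) ≫ Spec.map (CommRingCat.ofHom f) →
      ∀ r, (x ≫ (P.π2 ⁻¹ᵁ P.locus).ι).appTop ((Scheme.ΓSpecIso (CommRingCat.of P.A2)).inv (f r)) =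
        (y ≫ (P.π2 ⁻¹ᵁ P.locus).ι).appTop ((Scheme.ΓSpecIso (CommRingCat.of P.A2)).inv (f r)) := by
    intro R0 _ f hf r
    have := congrArg (fun g => g.appTop ((Scheme.ΓSpecIso (CommRingCat.of R0)).inv r)) hf
    dsimp only at this
    rw [Scheme.Hom.comp_appTop, Scheme.Hom.comp_appTop (y ≫ (P.π2 ⁻¹ᵁ P.locus).ι), CommRingCat.comp_apply,
      CommRingCat.comp_apply] at this
    rw [show (Scheme.ΓSpecIso (CommRingCat.of P.A2)).inv (f r) =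
      (Spec.map (CommRingCat.ofHom f)).appTop ((Scheme.ΓSpecIso (CommRingCat.of R0)).inv r) from
      congr($(Scheme.ΓSpecIso_inv_naturality (CommRingCat.ofHom f)) r)]
    exact this
  refine ext_of_isAffine (CommRingCat.hom_ext (RingHom.ext fun a => ?_))
  obtain ⟨a, rfl⟩ := (Scheme.ΓSpecIso (CommRingCat.of P.A2)).commRingCatIsoToRingEquiv.symm.surjective a
  show (x ≫ (P.π2 ⁻¹ᵁ P.locus).ι).appTop ((Scheme.ΓSpecIso (CommRingCat.of P.A2)).inv a) =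
    (y ≫ (P.π2 ⁻¹ᵁ P.locus).ι).appTop ((Scheme.ΓSpecIso (CommRingCat.of P.A2)).inv a)
  rw [← P.e2.sum_repr a]
  simp only [map_sum, Algebra.smul_def, map_mul, P.he2]
  exact Finset.sum_congr rfl fun i _ => by rw [key (algebraMap P.R2 P.A2) e1, key P.β2 e2']

/-- A finite free quotient whose pairs lift to `R'` is classified by a point of the locus. -/
theorem exists_point_locus {R3 C : Type u} [CommRing R3] [CommRing C] [Algebra R3 C]
    (γ : Γ(U0.left, ⊤) →+* C) (bC : Module.Basis (Fin d) R3 C) (hb : ∀ i, bC i = γ (b i))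
    (r' : Spec (CommRingCat.of (C ⊗[R3] C)) ⟶ R'.toScheme)
    (h1 : r' ≫ R'.ι ≫ (rel1 hp).left =
      Spec.map (CommRingCat.ofHom (Algebra.TensorProduct.includeLeftRingHom : C →+* C ⊗[R3] C)) ≫ toU γ)
    (h2 : r' ≫ R'.ι ≫ (rel2 hp).left =
      Spec.map (CommRingCat.ofHom (Algebra.TensorProduct.includeRight : C →ₐ[R3] C ⊗[R3] C).toRingHom) ≫ toU γ) :
    ∃ (o : Spec (CommRingCat.of R3) ⟶ P.locus.toScheme)
      (l : Spec (CommRingCat.of C) ⟶ (P.π2 ⁻¹ᵁ P.locus).toScheme),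
      IsPullback l (Spec.map (CommRingCat.ofHom (algebraMap R3 C))) P.π0 o ∧ l ≫ P.u0 = toU γ := by
  obtain ⟨g, hg⟩ := Spec.map_surjective (r' ≫ P.k)
  let B := Γ(U0.left, ⊤)
  have e1 : Spec.map (CommRingCat.ofHom (g.hom.comp (P.δ.comp Algebra.TensorProduct.includeLeftRingHom))) =
      Spec.map (CommRingCat.ofHom ((Algebra.TensorProduct.includeLeftRingHom : C →+* C ⊗[R3] C).comp γ)) := by
    rw [CommRingCat.ofHom_comp, Spec.map_comp, show CommRingCat.ofHom g.hom = g from rfl, hg, Category.assoc,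
      P.hk1, reassoc_of% h1, CommRingCat.ofHom_comp, Spec.map_comp]
    simp [toU]
  have e2' : Spec.map (CommRingCat.ofHom (g.hom.comp (P.δ.comp (Algebra.TensorProduct.includeRight :
      B →ₐ[ℤ] B ⊗[ℤ] B).toRingHom))) = Spec.map (CommRingCat.ofHom
        ((Algebra.TensorProduct.includeRight : C →ₐ[R3] C ⊗[R3] C).toRingHom.comp γ)) := by
    rw [CommRingCat.ofHom_comp, Spec.map_comp, show CommRingCat.ofHom g.hom = g from rfl, hg, Category.assoc,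
      P.hk2, reassoc_of% h2, CommRingCat.ofHom_comp, Spec.map_comp]
    simp [toU]
  have hg' : g.hom.comp P.δ = pairB γ := RingHom.ext fun z => by
    induction z with
    | zero => simp
    | tmul u v =>
      have a1 : g.hom (P.δ (u ⊗ₜ 1)) = γ u ⊗ₜ (1 : C) :=
        DFunLike.congr_fun (congrArg CommRingCat.Hom.hom (Spec.map_injective e1)) u
      have a2 : g.hom (P.δ ((1 : B) ⊗ₜ v)) = (1 : C) ⊗ₜ γ v :=
        DFunLike.congr_fun (congrArg CommRingCat.Hom.hom (Spec.map_injective e2')) v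
      show g.hom (P.δ (u ⊗ₜ v)) = pairB γ (u ⊗ₜ v)
      rw [show (u ⊗ₜ[ℤ] v) = (u ⊗ₜ[ℤ] (1 : B)) * ((1 : B) ⊗ₜ v) by simp, map_mul, map_mul, a1, a2, map_mul,
        pairB_tmul, pairB_tmul, map_one]
    | add u v hu hv => simp only [map_add, hu, hv]
  obtain ⟨θ, ⟨Φ, hΦθ, hΦβ, hΦg⟩, -⟩ := P.univ R3 C γ bC hb g.hom hg'
  have sqP := isPullback_spec_of_basis θ Φ hΦθ P.e2 bC fun i => by
    rw [P.he2, ← RingHom.comp_apply, hΦβ, hb]
  have sqW := isPullback_spec_of_basis θ (pairHom θ Φ hΦθ) (RingHom.ext fun r => by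
      show pairHom θ Φ hΦθ (algebraMap P.R2 P.A2 r ⊗ₜ 1) = _
      rw [pairHom_tmul, map_one, show Φ (algebraMap P.R2 P.A2 r) = algebraMap R3 C (θ r) from DFunLike.congr_fun hΦθ r]
      rfl) (P.e2.tensorProduct P.e2) (bC.tensorProduct bC) fun i => by
    simp only [Module.Basis.tensorProduct_apply']
    rw [pairHom_tmul, P.he2, P.he2, hb, hb, ← hΦβ]
    rfl
  have hpe : Spec.map (CommRingCat.ofHom (pairHom θ Φ hΦθ)) ≫ P.η = r' ≫ P.k := by
    rw [← hg, η, ← Spec.map_comp]; exact congrArg Spec.map (CommRingCat.hom_ext hΦg)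
  let o0 : Spec (CommRingCat.of R3) ⟶ Spec (CommRingCat.of P.R2) := Spec.map (CommRingCat.ofHom θ)
  have hoΩ : Set.range o0 ⊆ (P.locus : Set _) := by
    rintro _ ⟨s, rfl⟩ ⟨w, hw, hws⟩
    obtain ⟨w', hw', -⟩ := exists_point sqW w s hws
    apply hw
    rw [← hw', ← Scheme.Hom.comp_apply, hpe]
    exact ⟨r' w', rfl⟩
  let o1 := IsOpenImmersion.lift P.locus.ι o0 (by rw [Scheme.Opens.range_ι]; exact hoΩ)
  have ho1 : o1 ≫ P.locus.ι = o0 := IsOpenImmersion.lift_fac _ _ _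
  have hwl : Spec.map (CommRingCat.ofHom Φ) ≫ P.π2 =
      Spec.map (CommRingCat.ofHom (algebraMap R3 C)) ≫ o1 ≫ P.locus.ι := by rw [ho1]; exact sqP.w
  let l1 := IsOpenImmersion.lift (P.π2 ⁻¹ᵁ P.locus).ι (Spec.map (CommRingCat.ofHom Φ)) (by
    rw [Scheme.Opens.range_ι]
    rintro _ ⟨z, rfl⟩
    show P.π2 _ ∈ P.locus
    rw [← Scheme.Hom.comp_apply, hwl, Scheme.Hom.comp_apply, Scheme.Hom.comp_apply]
    exact (o1 _).2)
  have hl1 : l1 ≫ (P.π2 ⁻¹ᵁ P.locus).ι = Spec.map (CommRingCat.ofHom Φ) := IsOpenImmersion.lift_fac _ _ _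
  refine ⟨o1, l1, IsPullback.of_right ?_ ?_ (isPullback_morphismRestrict P.π2 P.locus).flip, ?_⟩
  · rw [hl1, ho1]; exact sqP
  · rw [← cancel_mono P.locus.ι]
    simp only [π0, Category.assoc, morphismRestrict_ι, reassoc_of% hl1]
    exact hwl
  · rw [u0, reassoc_of% hl1, toU, ← Category.assoc, ← Spec.map_comp, ← CommRingCat.ofHom_comp, hΦβ]
    rfl

/-- A point of the locus is determined by its piece. -/
theorem point_unique {R3 : Type u} [CommRing R3] (o₁ o₂ : Spec (CommRingCat.of R3) ⟶ P.locus.toScheme)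
    {Q : Scheme.{u}} (p : Q ⟶ Spec (CommRingCat.of R3)) (l₁ l₂ : Q ⟶ (P.π2 ⁻¹ᵁ P.locus).toScheme)
    (h₁ : IsPullback l₁ p P.π0 o₁) (h₂ : IsPullback l₂ p P.π0 o₂) (hv : l₁ ≫ P.u0 = l₂ ≫ P.u0) : o₁ = o₂ := by
  obtain ⟨θ₁, hθ₁⟩ := Spec.map_surjective (o₁ ≫ P.locus.ι)
  obtain ⟨θ₂, hθ₂⟩ := Spec.map_surjective (o₂ ≫ P.locus.ι)
  suffices θ₁ = θ₂ by rw [← cancel_mono P.locus.ι, ← hθ₁, this, hθ₂]
  let := θ₁.hom.toAlgebra
  let C := R3 ⊗[P.R2] P.A2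
  let Φ₁ := (Algebra.TensorProduct.includeRight : P.A2 →ₐ[P.R2] C).toRingHom
  have hc1 : Φ₁.comp (algebraMap P.R2 P.A2) = (algebraMap R3 C).comp θ₁.hom := RingHom.ext fun r => by
    show (1 : R3) ⊗ₜ algebraMap P.R2 P.A2 r = θ₁.hom r ⊗ₜ (1 : P.A2)
    rw [Algebra.algebraMap_eq_smul_one, TensorProduct.tmul_smul, TensorProduct.smul_tmul', Algebra.smul_def, mul_one]
    rfl
  have sqC := isPullback_spec_of_basis θ₁.hom Φ₁ hc1 P.e2 (Algebra.TensorProduct.basis R3 P.e2) fun i => by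
    simp [Φ₁]
  have hb1 := h₁.paste_horiz (isPullback_morphismRestrict P.π2 P.locus).flip
  rw [← hθ₁] at hb1
  obtain ⟨j, hj1, hjp⟩ : ∃ j : Spec (CommRingCat.of C) ⟶ Q,
      j ≫ l₁ ≫ (P.π2 ⁻¹ᵁ P.locus).ι = Spec.map (CommRingCat.ofHom Φ₁) ∧
      j ≫ p = Spec.map (CommRingCat.ofHom (algebraMap R3 C)) :=
    ⟨(sqC.isoIsPullback _ _ hb1).hom, IsPullback.isoIsPullback_hom_fst _ _ sqC hb1,
      IsPullback.isoIsPullback_hom_snd _ _ sqC hb1⟩
  obtain ⟨Φ₂, hΦ₂⟩ := Spec.map_surjective (j ≫ l₂ ≫ (P.π2 ⁻¹ᵁ P.locus).ι)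
  let γ := Φ₁.comp P.β2
  have hc2 : Φ₂.hom.comp (algebraMap P.R2 P.A2) = (algebraMap R3 C).comp θ₂.hom := by
    have e : CommRingCat.ofHom (algebraMap P.R2 P.A2) ≫ Φ₂ = θ₂ ≫ CommRingCat.ofHom (algebraMap R3 C) := by
      refine Spec.map_injective ?_
      rw [Spec.map_comp, Spec.map_comp, hΦ₂, hθ₂, ← hjp]
      simp only [Category.assoc]
      exact congrArg (j ≫ ·) (h₂.paste_horiz (isPullback_morphismRestrict P.π2 P.locus).flip).w
    exact congrArg CommRingCat.Hom.hom e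
  have hγ2 : Φ₂.hom.comp P.β2 = γ := by
    have e : CommRingCat.ofHom P.β2 ≫ Φ₂ = CommRingCat.ofHom P.β2 ≫ CommRingCat.ofHom Φ₁ := by
      refine Spec.map_injective ?_
      rw [Spec.map_comp, Spec.map_comp, hΦ₂, ← hj1, ← cancel_mono U0.left.isoSpec.inv]
      simp only [Category.assoc]
      exact congrArg (j ≫ ·) hv.symm
    exact congrArg CommRingCat.Hom.hom e
  have getlift : ∀ (o : Spec (CommRingCat.of R3) ⟶ P.locus.toScheme) (θ : P.R2 →+* R3) (Φ : P.A2 →+* C)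
      (h : Φ.comp (algebraMap P.R2 P.A2) = (algebraMap R3 C).comp θ),
      Spec.map (CommRingCat.ofHom θ) = o ≫ P.locus.ι → Φ.comp P.β2 = γ →
      ∃ r : Spec (CommRingCat.of (C ⊗[R3] C)) ⟶ R'.toScheme,
        r ≫ P.k = Spec.map (CommRingCat.ofHom ((pairHom θ Φ h).comp P.Φ2)) ∧
        r ≫ R'.ι ≫ (rel1 hp).left = Spec.map (CommRingCat.ofHom
          (Algebra.TensorProduct.includeLeftRingHom : C →+* C ⊗[R3] C)) ≫ toU γ ∧
        r ≫ R'.ι ≫ (rel2 hp).left = Spec.map (CommRingCat.ofHom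
          (Algebra.TensorProduct.includeRight : C →ₐ[R3] C ⊗[R3] C).toRingHom) ≫ toU γ := by
    intro o θ Φ h hθ hγ
    obtain ⟨r, h1, h2, h3⟩ := P.liftR (Spec.map (CommRingCat.ofHom (pairHom θ Φ h))) (fun s => by
      have e : Spec.map (CommRingCat.ofHom (pairHom θ Φ h)) ≫ P.πW =
          Spec.map (CommRingCat.ofHom (algebraMap R3 (C ⊗[R3] C))) ≫ Spec.map (CommRingCat.ofHom θ) := by
        rw [πW, ← Spec.map_comp, ← Spec.map_comp]
        congr 1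
        refine CommRingCat.hom_ext (RingHom.ext fun r => ?_)
        show pairHom θ Φ h (algebraMap P.R2 P.A2 r ⊗ₜ 1) = algebraMap R3 C (θ r) ⊗ₜ 1
        rw [pairHom_tmul, map_one, show Φ (algebraMap P.R2 P.A2 r) = _ from DFunLike.congr_fun h r]
        rfl
      rw [e, hθ, Scheme.Hom.comp_apply, Scheme.Hom.comp_apply]
      exact (o _).2)
    refine ⟨r, h1.trans (Spec.map_comp _ _).symm, h2.trans ?_, h3.trans ?_⟩
    · rw [toU, toU, ← Category.assoc, ← Category.assoc, ← Category.assoc]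
      congr 1
      rw [← Spec.map_comp, ← Spec.map_comp, ← Spec.map_comp]
      congr 1
      refine CommRingCat.hom_ext (RingHom.ext fun z => ?_)
      show pairHom θ Φ h (P.β2 z ⊗ₜ 1) = γ z ⊗ₜ 1
      rw [pairHom_tmul, map_one, ← hγ]; rfl
    · rw [toU, toU, ← Category.assoc, ← Category.assoc, ← Category.assoc]
      congr 1
      rw [← Spec.map_comp, ← Spec.map_comp, ← Spec.map_comp]
      congr 1
      refine CommRingCat.hom_ext (RingHom.ext fun z => ?_)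
      show pairHom θ Φ h ((1 : P.A2) ⊗ₜ P.β2 z) = (1 : C) ⊗ₜ γ z
      rw [pairHom_tmul, map_one, ← hγ]; rfl
  obtain ⟨r₁, hr₁, hr₁1, hr₁2⟩ := getlift o₁ θ₁.hom Φ₁ hc1 hθ₁ rfl
  obtain ⟨r₂, hr₂, hr₂1, hr₂2⟩ := getlift o₂ θ₂.hom Φ₂.hom hc2 hθ₂ hγ2
  have hr : r₁ = r₂ := (cancel_mono R'.ι).1 (rel_hom_ext_left hp
    (by rw [Category.assoc, Category.assoc, hr₁1, hr₂1]) (by rw [Category.assoc, Category.assoc, hr₁2, hr₂2]))
  have hgg : (pairHom θ₂.hom Φ₂.hom hc2).comp P.Φ2 = (pairHom θ₁.hom Φ₁ hc1).comp P.Φ2 := by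
    have e : CommRingCat.ofHom ((pairHom θ₂.hom Φ₂.hom hc2).comp P.Φ2) =
        CommRingCat.ofHom ((pairHom θ₁.hom Φ₁ hc1).comp P.Φ2) :=
      Spec.map_injective (by rw [← hr₁, ← hr₂, hr])
    exact congrArg CommRingCat.Hom.hom e
  obtain ⟨θ, -, hθu⟩ := P.univ R3 C γ (Algebra.TensorProduct.basis R3 P.e2)
    (fun i => by rw [Algebra.TensorProduct.basis_apply, P.he2]; rfl) ((pairHom θ₁.hom Φ₁ hc1).comp P.Φ2) (by
      rw [RingHom.comp_assoc, P.hΦ2]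
      exact RingHom.ext fun x => pairHom_comp_pairB θ₁.hom Φ₁ hc1 P.β2 x)
  exact CommRingCat.hom_ext ((hθu θ₁.hom ⟨Φ₁, hc1, rfl, rfl⟩).trans (hθu θ₂.hom ⟨Φ₂.hom, hc2, hγ2, hgg⟩).symm)

end PieceData

end Groth.L24.Boot
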