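import Groth.Agent.L24.Boot.PieceGeneral
import Groth.Agent.L24.Boot.PieceRing

/-!
The scheme classifying open finite free pieces of a flat quasi-finite presentation.
-/

set_option autoImplicit false
set_option backward.isDefEq.respectTransparency false
set_option backward.isDefEq.respectTransparency.types false

universe u

open CategoryTheory CategoryTheory.Limits AlgebraicGeometry Opposite AlgSp TensorProduct

noncomputable section

namespace Groth.L24.Boot

variable {S : Scheme.{u}} {F : Sp S} {U0 : Over S} {p0 : (yon S).obj U0 ⟶ F} (hp : RepWith LqfFlat p0)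
  [IsAffine U0.left]

/-- The universal open finite free piece with basis `b` whose pairs land in `R'`. -/
structure Piece (d : ℕ) (b : Fin d → Γ(U0.left, ⊤)) (R' : (rel hp).left.Opens) where
  O : Over S
  Z : Over S
  π : Z ⟶ O
  v : Z ⟶ U0
  ξ : (yon S).obj O ⟶ F
  w : (yon S).map π ≫ ξ = (yon S).map v ≫ p0
  finite : IsFinite π.left
  openImm : ∀ {T P : Over S} (o : T ⟶ O) (l : P ⟶ Z) (p : P ⟶ T), IsPullback l.left p.left π.left o.left →
    ∀ z : P ⟶ hp.1.pullback ((yon S).map o ≫ ξ), (yon S).map z ≫ hp.1.fst _ = (yon S).map (l ≫ v) →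
      z ≫ hp.1.snd _ = p → IsOpenImmersion z.left
  exists_hom : ∀ (R3 C : Type u) [CommRing R3] [CommRing C] [Algebra R3 C] (T : Over S)
    (iT : Spec (CommRingCat.of R3) ≅ T.left) (γ : Γ(U0.left, ⊤) →+* C) (bC : Module.Basis (Fin d) R3 C),
    (∀ i, bC i = γ (b i)) → ∀ (ξ' : (yon S).obj T ⟶ F) (P : Over S) (iP : Spec (CommRingCat.of C) ≅ P.left)
      (p : P ⟶ T) (uP : P ⟶ U0), iP.hom ≫ p.left = Spec.map (CommRingCat.ofHom (algebraMap R3 C)) ≫ iT.hom →
      iP.hom ≫ uP.left = toU γ → (yon S).map p ≫ ξ' = (yon S).map uP ≫ p0 →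
      (∀ z : P ⟶ hp.1.pullback ξ', (yon S).map z ≫ hp.1.fst ξ' = (yon S).map uP → z ≫ hp.1.snd ξ' = p →
        IsOpenImmersion z.left) →
      (∀ (W : Over S) (x y : W ⟶ P) (r : W ⟶ rel hp), x ≫ p = y ≫ p → r ≫ rel1 hp = x ≫ uP →
        r ≫ rel2 hp = y ≫ uP → Set.range r.left ⊆ R') →
      ∃ (o : T ⟶ O) (l : P ⟶ Z),
        IsPullback l.left p.left π.left o.left ∧ l ≫ v = uP ∧ (yon S).map o ≫ ξ = ξ'
  uniq : ∀ (T : Over S) [IsAffine T.left] (o₁ o₂ : T ⟶ O) (P : Over S) (p : P ⟶ T) (l₁ l₂ : P ⟶ Z),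
    IsPullback l₁.left p.left π.left o₁.left → IsPullback l₂.left p.left π.left o₂.left →
    l₁ ≫ v = l₂ ≫ v → o₁ = o₂
  pairs : ∀ {W : Over S} (x y : W ⟶ Z) (r : W ⟶ rel hp), x ≫ π = y ≫ π → r ≫ rel1 hp = x ≫ v →
    r ≫ rel2 hp = y ≫ v → Set.range r.left ⊆ R'
  basis : ∀ (R3 : Type u) [CommRing R3] (T : Over S) (iT : Spec (CommRingCat.of R3) ≅ T.left) (o : T ⟶ O),
    ∃ (C : Type u) (_ : CommRing C) (_ : Algebra R3 C) (bC : Module.Basis (Fin d) R3 C)
      (γ : Γ(U0.left, ⊤) →+* C) (P : Over S) (iP : Spec (CommRingCat.of C) ≅ P.left) (p : P ⟶ T) (l : P ⟶ Z),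
      IsPullback l.left p.left π.left o.left ∧
      iP.hom ≫ p.left = Spec.map (CommRingCat.ofHom (algebraMap R3 C)) ≫ iT.hom ∧
      iP.hom ≫ (l ≫ v).left = toU γ ∧ ∀ i, bC i = γ (b i)

theorem Piece.openImm' {d : ℕ} {b : Fin d → Γ(U0.left, ⊤)} {R' : (rel hp).left.Opens} (pc : Piece hp d b R')
    {T P ZT : Over S} (ξ' : (yon S).obj T ⟶ F) (fst : (yon S).obj ZT ⟶ (yon S).obj U0) (snd : ZT ⟶ T)
    (sqZ : IsPullback fst ((yon S).map snd) p0 ξ') (o : T ⟶ pc.O) (ho : (yon S).map o ≫ pc.ξ = ξ')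
    (l : P ⟶ pc.Z) (p : P ⟶ T) (sq : IsPullback l.left p.left pc.π.left o.left) (z : P ⟶ ZT)
    (hz1 : (yon S).map z ≫ fst = (yon S).map (l ≫ pc.v)) (hz2 : z ≫ snd = p) :
    IsOpenImmersion z.left := by
  subst ho
  let e := sqZ.isoIsPullback _ _ (hp.1.isPullback ((yon S).map o ≫ pc.ξ))
  obtain ⟨e', he'⟩ := (yon S).map_surjective e.hom
  have : IsIso e' := by
    have : IsIso ((yon S).map e') := by rw [he']; infer_instance
    exact isIso_of_fully_faithful (yon S) e'
  have h := pc.openImm o l p sq (z ≫ e')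
    (by rw [Functor.map_comp, he', Category.assoc, IsPullback.isoIsPullback_hom_fst, hz1])
    ((yon S).map_injective (by
      rw [Functor.map_comp, Functor.map_comp, he', Category.assoc, IsPullback.isoIsPullback_hom_snd,
        ← Functor.map_comp, hz2]))
  exact (MorphismProperty.cancel_right_of_respectsIso @IsOpenImmersion z.left e'.left).1 h

set_option maxHeartbeats 400000 in
theorem exists_piece {d : ℕ} [NeZero d] (b : Fin d → Γ(U0.left, ⊤)) (R' : (rel hp).left.Opens)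
    (hR' : IsCompact (R' : Set (rel hp).left)) : Nonempty (Piece hp d b R') := by
  obtain ⟨P⟩ := exists_pieceData hp b R' hR'
  obtain ⟨hf1, hf2, hf3, hf4⟩ := P.π0_props
  obtain ⟨Ω, Z, π, v, ξ, iΩ, iZ, hπ, hv, hw⟩ := exists_descend hp P.π0 P.u0 fun x y hxy => (P.pairs x y hxy).imp fun _ h => ⟨h.1, h.2.1⟩
  have sqI : IsPullback iZ.hom π.left P.π0 iΩ.hom := IsPullback.of_horiz_isIso ⟨hπ.symm⟩
  have : IsFinite π.left := MorphismProperty.of_isPullback sqI hf4
  have : Flat π.left := MorphismProperty.of_isPullback sqI hf1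
  have : LocallyOfFinitePresentation π.left := MorphismProperty.of_isPullback sqI hf3
  obtain ⟨O, hopen, hcrit⟩ := exists_shrink hp π v ξ hw fun x y h1 h2 => by
    rw [← cancel_mono iZ.hom]
    refine P.mono_π0_u0 _ _ ?_ ?_
    · rw [Category.assoc, Category.assoc, ← hπ, reassoc_of% h1]
    · rw [Category.assoc, Category.assoc, ← hv, h2]
  let OO := Groth.L23.openOver Ω O
  let ιO := Groth.L23.openOverι Ω O
  let ZO := Groth.L23.openOver Z (π.left ⁻¹ᵁ O)
  let ιZ := Groth.L23.openOverι Z (π.left ⁻¹ᵁ O)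
  let πO : ZO ⟶ OO := Over.homMk (π.left ∣_ O) (by
    show (π.left ∣_ O) ≫ O.ι ≫ Ω.hom = (π.left ⁻¹ᵁ O).ι ≫ Z.hom
    rw [morphismRestrict_ι_assoc, Over.w π])
  have sqO : IsPullback ιZ.left πO.left π.left ιO.left := (isPullback_morphismRestrict π.left O).flip
  have hπO : πO ≫ ιO = ιZ ≫ π := Over.OverMorphism.ext (morphismRestrict_ι _ _)
  have hwO : (yon S).map πO ≫ (yon S).map ιO ≫ ξ = (yon S).map (ιZ ≫ v) ≫ p0 := by
    rw [← Functor.map_comp_assoc, hπO, Functor.map_comp_assoc, hw, Functor.map_comp_assoc]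
  refine ⟨⟨OO, ZO, πO, ιZ ≫ v, (yon S).map ιO ≫ ξ, hwO,
    MorphismProperty.of_isPullback sqO ‹IsFinite π.left›, ?_, ?_, ?_, ?_, ?_⟩⟩
  · intro T Q o l p sq z hz1 hz2
    have e : (yon S).map o ≫ (yon S).map ιO ≫ ξ = (yon S).map (o ≫ ιO) ≫ ξ := by
      rw [Functor.map_comp, Category.assoc]
    revert z hz1 hz2
    rw [e]
    intro z hz1 hz2
    refine hopen (o ≫ ιO) (l ≫ ιZ) p (sq.paste_horiz sqO) ?_ z (by rw [hz1, Category.assoc]) hz2
    rintro _ ⟨s, rfl⟩
    exact (o.left s).2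
  · intro R3 C _ _ _ T iT γ bC hb ξ' Q iP p uP hp1 hp2 hwP hzopen hR
    let c1 := Spec.map (CommRingCat.ofHom (Algebra.TensorProduct.includeLeftRingHom : C →+* C ⊗[R3] C))
    let c2 := Spec.map (CommRingCat.ofHom (Algebra.TensorProduct.includeRight : C →ₐ[R3] C ⊗[R3] C).toRingHom)
    have hc : c1 ≫ Spec.map (CommRingCat.ofHom (algebraMap R3 C)) = c2 ≫ Spec.map (CommRingCat.ofHom (algebraMap R3 C)) := by
      rw [← Spec.map_comp, ← Spec.map_comp]
      congr 1
      refine CommRingCat.hom_ext (RingHom.ext fun r => ?_)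
      show algebraMap R3 C r ⊗ₜ[R3] (1 : C) = (1 : C) ⊗ₜ algebraMap R3 C r
      rw [Algebra.algebraMap_eq_smul_one, TensorProduct.tmul_smul, TensorProduct.smul_tmul']
    let W : Over S := Over.mk (c1 ≫ iP.hom ≫ Q.hom)
    let x : W ⟶ Q := Over.homMk (c1 ≫ iP.hom) (Category.assoc _ _ _)
    let y : W ⟶ Q := Over.homMk (c2 ≫ iP.hom) (by
      show (c2 ≫ iP.hom) ≫ Q.hom = c1 ≫ iP.hom ≫ Q.hom
      rw [← Over.w p, Category.assoc, reassoc_of% hp1, reassoc_of% hc])
    have hxy : x ≫ p = y ≫ p := Over.OverMorphism.ext (by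
      show (c1 ≫ iP.hom) ≫ p.left = (c2 ≫ iP.hom) ≫ p.left
      rw [Category.assoc, Category.assoc, hp1, reassoc_of% hc])
    obtain ⟨r, hr⟩ := (yon S).map_surjective ((rel_isPullback hp).lift ((yon S).map (x ≫ uP)) ((yon S).map (y ≫ uP)) (by
      simp only [Functor.map_comp, Category.assoc, ← hwP]
      rw [← Functor.map_comp_assoc, hxy, Functor.map_comp_assoc]))
    have hr1 : r ≫ rel1 hp = x ≫ uP := (yon S).map_injective (by rw [Functor.map_comp, hr, IsPullback.lift_fst])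
    have hr2 : r ≫ rel2 hp = y ≫ uP := (yon S).map_injective (by rw [Functor.map_comp, hr, IsPullback.lift_snd])
    let r' := IsOpenImmersion.lift R'.ι r.left (by rw [Scheme.Opens.range_ι]; exact hR W x y r hxy hr1 hr2)
    have hr' : r' ≫ R'.ι = r.left := IsOpenImmersion.lift_fac _ _ _
    obtain ⟨o₀, l₀, sq₀, hl₀⟩ := P.exists_point_locus γ bC hb r'
      (by
        rw [reassoc_of% hr', ← Over.comp_left, hr1, Over.comp_left, ← hp2]
        exact Category.assoc _ _ _)
      (by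
        rw [reassoc_of% hr', ← Over.comp_left, hr2, Over.comp_left, ← hp2]
        exact Category.assoc _ _ _)
    let ψ := Spec.map (CommRingCat.ofHom (algebraMap R3 C))
    obtain ⟨hψ1, hψ2, hψ3, hψ4⟩ := flat_surjective_spec_of_basis bC
    have hψp : p.left = iP.inv ≫ ψ ≫ iT.hom := by rw [← hp1, Iso.inv_hom_id_assoc]
    have hcomm : (iP.inv ≫ l₀ ≫ iZ.inv) ≫ π.left = p.left ≫ iT.inv ≫ o₀ ≫ iΩ.inv := by
      rw [← cancel_mono iΩ.hom]
      simp only [Category.assoc, hπ, Iso.inv_hom_id_assoc, Iso.inv_hom_id, Category.comp_id, hψp, sq₀.w,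
        Iso.hom_inv_id_assoc, ψ]
    have hlu : (iP.inv ≫ l₀ ≫ iZ.inv) ≫ v.left = uP.left := by
      rw [hv]
      simp only [Category.assoc, Iso.inv_hom_id_assoc, hl₀, ← hp2]
    have hsT : (iT.inv ≫ o₀ ≫ iΩ.inv) ≫ Ω.hom = T.hom := by
      have : Flat p.left := by
        rw [hψp]; exact (MorphismProperty.cancel_left_of_respectsIso @Flat _ _).2
          ((MorphismProperty.cancel_right_of_respectsIso @Flat _ _).2 hψ1)
      have : Surjective p.left := by
        rw [hψp]; exact (MorphismProperty.cancel_left_of_respectsIso @Surjective _ _).2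
          ((MorphismProperty.cancel_right_of_respectsIso @Surjective _ _).2 hψ2)
      have : QuasiCompact p.left := by
        rw [hψp]; infer_instance
      have : Epi p.left := Flat.epi_of_flat_of_surjective p.left
      rw [← cancel_epi p.left, ← Category.assoc, ← hcomm, Category.assoc, Over.w π, ← Over.w v,
        ← Category.assoc, hlu, Over.w uP, Over.w p]
    let o₁ : T ⟶ Ω := Over.homMk (iT.inv ≫ o₀ ≫ iΩ.inv) hsT
    let l₁ : Q ⟶ Z := Over.homMk (iP.inv ≫ l₀ ≫ iZ.inv) (by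
      show (iP.inv ≫ l₀ ≫ iZ.inv) ≫ Z.hom = Q.hom
      rw [← Over.w v, ← Category.assoc, hlu, Over.w uP])
    have hl₁v : l₁ ≫ v = uP := Over.OverMorphism.ext hlu
    have hl₁p : l₁ ≫ π = p ≫ o₁ := Over.OverMorphism.ext hcomm
    have sq₁ : IsPullback l₁.left p.left π.left o₁.left := by
      refine sq₀.of_iso iP iZ.symm iT iΩ.symm ?_ hp1.symm ?_ ?_
      · simp [l₁]
      · rw [Iso.symm_hom, Iso.symm_hom, Iso.eq_inv_comp, ← Category.assoc, ← hπ, Category.assoc, Iso.hom_inv_id, Category.comp_id]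
      · simp [o₁]
    have : Flat p.left := MorphismProperty.of_isPullback sq₁ ‹Flat π.left›
    have : LocallyOfFinitePresentation p.left :=
      MorphismProperty.of_isPullback sq₁ ‹LocallyOfFinitePresentation π.left›
    have : Surjective p.left := by
      rw [hψp]; exact (MorphismProperty.cancel_left_of_respectsIso @Surjective _ _).2
        ((MorphismProperty.cancel_right_of_respectsIso @Surjective _ _).2 hψ2)
    have hξ' : (yon S).map o₁ ≫ ξ = ξ' := hom_ext_fppf p (by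
      rw [← Functor.map_comp_assoc, ← hl₁p, Functor.map_comp_assoc, hw, ← Functor.map_comp_assoc, hl₁v, hwP])
    subst hξ'
    have hrange := hcrit o₁ l₁ p sq₁ fun z' h1 h2 => hzopen z' (by rw [h1, hl₁v]) h2
    let o₂ := IsOpenImmersion.lift O.ι o₁.left (by rw [Scheme.Opens.range_ι]; exact hrange)
    have ho₂ : o₂ ≫ O.ι = o₁.left := IsOpenImmersion.lift_fac _ _ _
    let o : T ⟶ OO := Over.homMk o₂ (by
      show o₂ ≫ O.ι ≫ Ω.hom = T.hom
      rw [reassoc_of% ho₂, Over.w o₁])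
    have hoι : o ≫ ιO = o₁ := Over.OverMorphism.ext ho₂
    have hlπ : ∀ q, π.left (l₁.left q) ∈ O := fun q => by
      rw [← Scheme.Hom.comp_apply, ← Over.comp_left, hl₁p, Over.comp_left, Scheme.Hom.comp_apply]
      exact hrange ⟨_, rfl⟩
    let l₂ := IsOpenImmersion.lift (π.left ⁻¹ᵁ O).ι l₁.left (by
      rw [Scheme.Opens.range_ι]; rintro _ ⟨q, rfl⟩; exact hlπ q)
    have hl₂ : l₂ ≫ (π.left ⁻¹ᵁ O).ι = l₁.left := IsOpenImmersion.lift_fac _ _ _
    let l : Q ⟶ ZO := Over.homMk l₂ (by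
      show l₂ ≫ (π.left ⁻¹ᵁ O).ι ≫ Z.hom = Q.hom
      rw [reassoc_of% hl₂, Over.w l₁])
    have hlι : l ≫ ιZ = l₁ := Over.OverMorphism.ext hl₂
    refine ⟨o, l, IsPullback.of_right ?_ ?_ sqO, by rw [reassoc_of% hlι, hl₁v],
      by rw [← Functor.map_comp_assoc, hoι]⟩
    · rw [← Over.comp_left, ← Over.comp_left, hlι, hoι]; exact sq₁
    · have e : l ≫ πO ≫ ιO = p ≫ o ≫ ιO := by rw [hπO, reassoc_of% hlι, hoι, hl₁p]
      rw [← cancel_mono O.ι, Category.assoc, Category.assoc]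
      exact congrArg CommaMorphism.left e
  · intro T _ o₁ o₂ Q p l₁ l₂ h₁ h₂ hlv
    have sqT : IsPullback (𝟙 Q.left) (p.left ≫ T.left.isoSpec.hom) p.left T.left.isoSpec.inv := by
      refine IsPullback.of_horiz_isIso ⟨?_⟩
      rw [Category.id_comp, Category.assoc, Iso.hom_inv_id, Category.comp_id]
    have sqA : ∀ (o : T ⟶ OO) (l : Q ⟶ ZO), IsPullback l.left p.left πO.left o.left →
        IsPullback (𝟙 Q.left ≫ l.left ≫ ιZ.left ≫ iZ.hom) (p.left ≫ T.left.isoSpec.hom) P.π0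
          (T.left.isoSpec.inv ≫ o.left ≫ ιO.left ≫ iΩ.hom) := fun o l h =>
      sqT.paste_horiz (h.paste_horiz (sqO.paste_horiz sqI))
    have := P.point_unique (R3 := Γ(T.left, ⊤)) _ _ _ _ _ (sqA o₁ l₁ h₁) (sqA o₂ l₂ h₂) (by
      simp only [Category.id_comp, Category.assoc, ← hv]
      exact congrArg CommaMorphism.left hlv)
    refine Over.OverMorphism.ext ((cancel_mono (ιO.left ≫ iΩ.hom)).1 ((cancel_epi T.left.isoSpec.inv).1 this))
  · intro W x y r hxy hr1 hr2
    have hxy' : (x.left ≫ ιZ.left ≫ iZ.hom) ≫ P.π0 = (y.left ≫ ιZ.left ≫ iZ.hom) ≫ P.π0 := by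
      simp only [Category.assoc, ← hπ]
      have e : x ≫ ιZ ≫ π = y ≫ ιZ ≫ π := by rw [← hπO, reassoc_of% hxy]
      exact congrArg (fun f => CommaMorphism.left f ≫ iΩ.hom) e |> fun h => by simpa using h
    obtain ⟨r₀, h1, h2, h3⟩ := P.pairs _ _ hxy'
    have : r.left = r₀ := rel_hom_ext_left hp
      (by rw [h1, ← Over.comp_left, hr1]; simp [hv])
      (by rw [h2, ← Over.comp_left, hr2]; simp [hv])
    rw [this]; exact h3
  · intro R3 _ T iT o
    obtain ⟨θ, hθ⟩ := Spec.map_surjective (iT.hom ≫ o.left ≫ ιO.left ≫ iΩ.hom ≫ P.locus.ι)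
    let := θ.hom.toAlgebra
    refine ⟨R3 ⊗[P.R2] P.A2, inferInstance, inferInstance, Algebra.TensorProduct.basis R3 P.e2,
      (Algebra.TensorProduct.includeRight : P.A2 →ₐ[P.R2] R3 ⊗[P.R2] P.A2).toRingHom.comp P.β2, ?_⟩
    let C := R3 ⊗[P.R2] P.A2
    let PP := Limits.pullback πO o
    have sqP : IsPullback (pullback.fst πO o).left (pullback.snd πO o).left πO.left o.left :=
      (IsPullback.of_hasPullback πO o).map (Over.forget S)
    have sqs : IsPullback (Spec.map (CommRingCat.ofHom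
        (Algebra.TensorProduct.includeRight : P.A2 →ₐ[P.R2] C).toRingHom))
        (Spec.map (CommRingCat.ofHom (algebraMap R3 C))) P.π2 (Spec.map θ) :=
      isPullback_spec_of_basis θ.hom (Algebra.TensorProduct.includeRight : P.A2 →ₐ[P.R2] C).toRingHom
        (RingHom.ext fun a => by
          show (1 : R3) ⊗ₜ[P.R2] algebraMap P.R2 P.A2 a = θ.hom a ⊗ₜ[P.R2] (1 : P.A2)
          rw [Algebra.algebraMap_eq_smul_one, TensorProduct.tmul_smul, TensorProduct.smul_tmul',
            Algebra.smul_def, mul_one]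
          rfl) P.e2 (Algebra.TensorProduct.basis R3 P.e2)
        (fun i => (Algebra.TensorProduct.basis_apply P.e2 i).symm)
    have sqbig : IsPullback ((pullback.fst πO o).left ≫ ιZ.left ≫ iZ.hom ≫ (P.π2 ⁻¹ᵁ P.locus).ι)
        ((pullback.snd πO o).left ≫ iT.inv) P.π2 (Spec.map θ) := by
      have h := sqP.paste_horiz (sqO.paste_horiz (sqI.paste_horiz
        (isPullback_morphismRestrict P.π2 P.locus).flip))
      refine h.of_iso (Iso.refl _) (Iso.refl _) iT.symm (Iso.refl _) (by simp) (by simp) (by simp) ?_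
      simp [hθ]
    let iP := sqs.isoIsPullback _ _ sqbig
    refine ⟨PP, iP, pullback.snd πO o, pullback.fst πO o, sqP, ?_, ?_, fun i => ?_⟩
    · rw [← cancel_mono iT.inv, Category.assoc, Category.assoc, Iso.hom_inv_id, Category.comp_id]
      exact sqs.isoIsPullback_hom_snd _ _ sqbig
    · have e := sqs.isoIsPullback_hom_fst _ _ sqbig
      show iP.hom ≫ (pullback.fst πO o).left ≫ ιZ.left ≫ v.left = _
      rw [hv, PieceData.u0, toU]
      rw [reassoc_of% e]
      rw [toU, CommRingCat.ofHom_comp, Spec.map_comp, Category.assoc]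
    · rw [Algebra.TensorProduct.basis_apply, P.he2]
      rfl

end Groth.L24.Boot
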