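import Groth.Agent.L24.Boot.PairTarget

/-!
Descending a finite cover to a map to the sheaf, and the locus where it is open in the fibre product.
-/

set_option autoImplicit false
set_option backward.isDefEq.respectTransparency false
set_option backward.isDefEq.respectTransparency.types false

universe u

open CategoryTheory CategoryTheory.Limits AlgebraicGeometry Opposite AlgSp

noncomputable section

namespace Groth.L24.Boot

variable {S : Scheme.{u}} {F : Sp S} {U0 : Over S} {p0 : (yon S).obj U0 ⟶ F} (hp : RepWith LqfFlat p0)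

/-- A finite cover whose pairs map to the relation descends to a point of the sheaf. -/
theorem exists_descend {Ω₀ Z₀ : Scheme.{u}} (π₀ : Z₀ ⟶ Ω₀) [Flat π₀] [Surjective π₀]
    [LocallyOfFinitePresentation π₀] [QuasiCompact π₀] (u₀ : Z₀ ⟶ U0.left)
    (pairs : ∀ {X : Scheme.{u}} (x y : X ⟶ Z₀), x ≫ π₀ = y ≫ π₀ →
      ∃ r : X ⟶ (rel hp).left, r ≫ (rel1 hp).left = x ≫ u₀ ∧ r ≫ (rel2 hp).left = y ≫ u₀) :
    ∃ (Ω Z : Over S) (π : Z ⟶ Ω) (v : Z ⟶ U0) (ξ : (yon S).obj Ω ⟶ F) (iΩ : Ω.left ≅ Ω₀) (iZ : Z.left ≅ Z₀),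
      π.left ≫ iΩ.hom = iZ.hom ≫ π₀ ∧ v.left = iZ.hom ≫ u₀ ∧
      (yon S).map π ≫ ξ = (yon S).map v ≫ p0 := by
  let s : Ω₀ ⟶ S := EffectiveEpi.desc π₀ (u₀ ≫ U0.hom) fun x y hxy => by
    obtain ⟨r, h1, h2⟩ := pairs x y hxy
    rw [← reassoc_of% h1, ← reassoc_of% h2, Over.w (rel1 hp), Over.w (rel2 hp)]
  have hs : π₀ ≫ s = u₀ ≫ U0.hom := EffectiveEpi.fac _ _ _
  let Z : Over S := Over.mk (u₀ ≫ U0.hom)
  let π : Z ⟶ Over.mk s := Over.homMk π₀ hs
  let v : Z ⟶ U0 := Over.homMk u₀ rfl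
  have : Flat π.left := ‹Flat π₀›
  have : Surjective π.left := ‹Surjective π₀›
  have : LocallyOfFinitePresentation π.left := ‹LocallyOfFinitePresentation π₀›
  obtain ⟨ξ, hξ, -⟩ := existsUnique_descend π ((yon S).map v ≫ p0) fun W x y hxy => by
    obtain ⟨r, h1, h2⟩ := pairs x.left y.left (congrArg CommaMorphism.left hxy)
    let rO : W ⟶ rel hp := Over.homMk r (by
      rw [← Over.w (rel1 hp), reassoc_of% h1]
      exact Over.w (x ≫ v))
    have e1 : rO ≫ rel1 hp = x ≫ v := Over.OverMorphism.ext h1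
    have e2 : rO ≫ rel2 hp = y ≫ v := Over.OverMorphism.ext h2
    rw [← Functor.map_comp_assoc, ← Functor.map_comp_assoc, ← e1, ← e2, Functor.map_comp_assoc,
      Functor.map_comp_assoc, (rel_isPullback hp).w]
  exact ⟨Over.mk s, Z, π, v, ξ, Iso.refl _, Iso.refl _, (Category.comp_id _).trans (Category.id_comp _).symm,
    (Category.id_comp _).symm, hξ⟩

/-- The comparison with the fibre product is compatible with base change. -/
theorem exists_zmap {Ω Z T P : Over S} {π : Z ⟶ Ω} {v : Z ⟶ U0} {ξ : (yon S).obj Ω ⟶ F}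
    {z : Z ⟶ hp.1.pullback ξ} (hz1 : (yon S).map z ≫ hp.1.fst ξ = (yon S).map v) (hz2 : z ≫ hp.1.snd ξ = π)
    {o : T ⟶ Ω} {ξ' : (yon S).obj T ⟶ F} (hξ : (yon S).map o ≫ ξ = ξ')
    {l : P ⟶ Z} {p : P ⟶ T} (sq : IsPullback l.left p.left π.left o.left)
    {zP : P ⟶ hp.1.pullback ξ'} (hzP1 : (yon S).map zP ≫ hp.1.fst ξ' = (yon S).map (l ≫ v))
    (hzP2 : zP ≫ hp.1.snd ξ' = p) :
    ∃ h' : hp.1.pullback ξ' ⟶ hp.1.pullback ξ, IsPullback h'.left (hp.1.snd ξ').left (hp.1.snd ξ).left o.left ∧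
      IsPullback l.left zP.left z.left h'.left := by
  obtain ⟨h', hh'⟩ := (yon S).map_surjective ((hp.1.isPullback ξ).lift (hp.1.fst ξ')
    ((yon S).map (hp.1.snd ξ' ≫ o)) (by rw [(hp.1.isPullback ξ').w, Functor.map_comp, Category.assoc, hξ]))
  have hh1 : (yon S).map h' ≫ hp.1.fst ξ = hp.1.fst ξ' := by rw [hh', IsPullback.lift_fst]
  have hh2 : h' ≫ hp.1.snd ξ = hp.1.snd ξ' ≫ o :=
    (yon S).map_injective (by rw [Functor.map_comp, hh', IsPullback.lift_snd])
  have sqh : IsPullback h'.left (hp.1.snd ξ').left (hp.1.snd ξ).left o.left := by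
    refine (IsPullback.of_map (yon S) hh2 ?_).map (Over.forget S)
    refine IsPullback.of_right ?_ (by rw [← Functor.map_comp, ← Functor.map_comp, hh2]) (hp.1.isPullback ξ)
    rw [hh1, hξ]; exact hp.1.isPullback ξ'
  refine ⟨h', sqh, ?_⟩
  have w1 : (zP ≫ h') ≫ hp.1.snd ξ = (l ≫ z) ≫ hp.1.snd ξ := by
    rw [Category.assoc, Category.assoc, hh2, ← Category.assoc, hzP2, hz2]
    exact Over.OverMorphism.ext sq.w.symm
  have hzh : zP ≫ h' = l ≫ z := (yon S).map_injective ((hp.1.isPullback ξ).hom_ext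
    (by rw [Functor.map_comp, Category.assoc, hh1, hzP1, Functor.map_comp, Functor.map_comp, Category.assoc, hz1])
    (by rw [← Functor.map_comp, ← Functor.map_comp, w1]))
  refine IsPullback.of_bot ?_ (congrArg CommaMorphism.left hzh).symm sqh
  rw [← Over.comp_left, ← Over.comp_left, hzP2, hz2]
  exact sq

/-- The open over which a finite flat cover is open in the fibre product. -/
theorem exists_shrink {Ω Z : Over S} (π : Z ⟶ Ω) (v : Z ⟶ U0) (ξ : (yon S).obj Ω ⟶ F)
    (w : (yon S).map π ≫ ξ = (yon S).map v ≫ p0) [IsFinite π.left] [Flat π.left]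
    [LocallyOfFinitePresentation π.left]
    (hmono : ∀ {X : Scheme.{u}} (x y : X ⟶ Z.left), x ≫ π.left = y ≫ π.left → x ≫ v.left = y ≫ v.left → x = y) :
    ∃ O : Ω.left.Opens,
      (∀ {T P : Over S} (o : T ⟶ Ω) (l : P ⟶ Z) (p : P ⟶ T), IsPullback l.left p.left π.left o.left →
        Set.range o.left ⊆ O → ∀ z' : P ⟶ hp.1.pullback ((yon S).map o ≫ ξ),
          (yon S).map z' ≫ hp.1.fst _ = (yon S).map (l ≫ v) → z' ≫ hp.1.snd _ = p → IsOpenImmersion z'.left) ∧
      ∀ {T P : Over S} (o : T ⟶ Ω) (l : P ⟶ Z) (p : P ⟶ T), IsPullback l.left p.left π.left o.left →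
        (∀ z' : P ⟶ hp.1.pullback ((yon S).map o ≫ ξ),
          (yon S).map z' ≫ hp.1.fst _ = (yon S).map (l ≫ v) → z' ≫ hp.1.snd _ = p → IsOpenImmersion z'.left) →
        Set.range o.left ⊆ O := by
  obtain ⟨z, hz⟩ := (yon S).map_surjective ((hp.1.isPullback ξ).lift ((yon S).map v) ((yon S).map π) w.symm)
  have hz1 : (yon S).map z ≫ hp.1.fst ξ = (yon S).map v := by rw [hz, IsPullback.lift_fst]
  have hz2 : z ≫ hp.1.snd ξ = π := (yon S).map_injective (by rw [Functor.map_comp, hz, IsPullback.lift_snd])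
  have hz2' : z.left ≫ (hp.1.snd ξ).left = π.left := congrArg CommaMorphism.left hz2
  obtain ⟨⟨⟨hs1, hs2⟩, hs3⟩, hs4⟩ := Groth.L23.repWith_snd hp ξ
  have : IsFinite z.left := by
    have : IsFinite (z.left ≫ (hp.1.snd ξ).left) := by rw [hz2']; infer_instance
    exact IsFinite.of_comp _ (hp.1.snd ξ).left
  have : LocallyOfFinitePresentation z.left := by
    have : LocallyOfFinitePresentation (z.left ≫ (hp.1.snd ξ).left) := by rw [hz2']; infer_instance
    exact Groth.L20.locallyOfFinitePresentation_of_comp _ (hp.1.snd ξ).left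
  obtain ⟨a₁, ha₁⟩ := (yon S).map_surjective (hp.1.fst ξ)
  have hz1' : z.left ≫ a₁.left = v.left := congrArg CommaMorphism.left
    ((yon S).map_injective (by rw [Functor.map_comp, ha₁, hz1]) : z ≫ a₁ = v)
  have hzm : Mono z.left := ⟨fun x y hxy => hmono x y
    (by rw [← hz2', reassoc_of% hxy]) (by rw [← hz1', reassoc_of% hxy])⟩
  let N : Set Ω.left := π.left '' {x | ¬ (z.left.stalkMap x).hom.Flat}
  have hN : IsClosed N := π.left.isClosedMap _ (Groth.L20.isOpen_flat_stalkMap z.left).isClosed_compl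
  refine ⟨⟨Nᶜ, hN.isOpen_compl⟩, fun {T P} o l p sq hr z' h1 h2 => ?_, fun {T P} o l p sq hopen => ?_⟩
  · obtain ⟨h', sqh, sqz⟩ := exists_zmap hp hz1 hz2 rfl sq h1 h2
    have : Mono z'.left := MorphismProperty.of_isPullback (P := MorphismProperty.monomorphisms Scheme) sqz hzm
    have : LocallyOfFinitePresentation z'.left :=
      MorphismProperty.of_isPullback sqz (inferInstance : LocallyOfFinitePresentation z.left)
    have : Flat z'.left := (Flat.iff_flat_stalkMap _).2 fun x => (fq_baseChange sqz (z := x) ⟨by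
      by_contra hx
      refine hr ⟨p.left x, rfl⟩ ⟨l.left x, hx, ?_⟩
      rw [← Scheme.Hom.comp_apply, sq.w]; rfl, z.left.quasiFiniteAt _⟩).1
    exact IsOpenImmersion.of_flat_of_mono _
  · obtain ⟨zP, hzP⟩ := (yon S).map_surjective ((hp.1.isPullback ((yon S).map o ≫ ξ)).lift ((yon S).map (l ≫ v))
      ((yon S).map p) (by
        rw [Functor.map_comp, Category.assoc, ← w, ← Functor.map_comp_assoc, ← Functor.map_comp_assoc,
          show l ≫ π = p ≫ o from Over.OverMorphism.ext sq.w]))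
    have h1 : (yon S).map zP ≫ hp.1.fst _ = (yon S).map (l ≫ v) := by rw [hzP, IsPullback.lift_fst]
    have h2 : zP ≫ hp.1.snd _ = p := (yon S).map_injective (by rw [Functor.map_comp, hzP, IsPullback.lift_snd])
    have := hopen zP h1 h2
    obtain ⟨h', sqh, sqz⟩ := exists_zmap hp hz1 hz2 rfl sq h1 h2
    rintro _ ⟨s, rfl⟩ ⟨x, hx, hxs⟩
    obtain ⟨x', hx', -⟩ := exists_point sq x s hxs
    have : Flat (z.left ≫ (hp.1.snd ξ).left) := by rw [hz2']; infer_instance
    have : LocallyOfFinitePresentation (z.left ≫ (hp.1.snd ξ).left) := by rw [hz2']; infer_instance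
    have := fq_descend sqz sqh (z := x') (fq_of_flat_lqf zP.left x')
    rw [hx'] at this
    exact hx this.1

end Groth.L24.Boot
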