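import Mathlib.RingTheory.TensorProduct.Free
import Mathlib.RingTheory.TensorProduct.Maps
import Mathlib.RingTheory.MvPolynomial.Basic
import Mathlib.LinearAlgebra.TensorProduct.Tower
import Mathlib.RingTheory.Ideal.Quotient.Operations
import Mathlib.LinearAlgebra.Isomorphisms

/-!
Universal rings: finite free quotients with a prescribed basis, and Weil restriction along finite free algebras.
-/

set_option autoImplicit false
set_option backward.isDefEq.respectTransparency false
set_option backward.isDefEq.respectTransparency.types false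

universe u

open TensorProduct

noncomputable section

namespace Groth.L24.Boot

section Quot

variable {B : Type u} [CommRing B] {d : ℕ} (b : Fin d → B)

/-- The relations on the coordinates of a quotient with basis `b`. -/
def quotRel : Set (MvPolynomial (B × Fin d) ℤ) :=
  {z | (∃ x y i, z = .X (x + y, i) - .X (x, i) - .X (y, i)) ∨
    (∃ j i, z = .X (b j, i) - if j = i then 1 else 0) ∨
    ∃ x y i, z = .X (x * y, i) - ∑ k, .X (y, k) * .X (x * b k, i)}

/-- The ring classifying quotients with basis `b`. -/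
def QuotRing : Type u := MvPolynomial (B × Fin d) ℤ ⧸ Ideal.span (quotRel b)

instance : CommRing (QuotRing b) :=
  inferInstanceAs (CommRing (MvPolynomial (B × Fin d) ℤ ⧸ Ideal.span (quotRel b)))

/-- The projection to the classifying ring. -/
def quotMk : MvPolynomial (B × Fin d) ℤ →+* QuotRing b := Ideal.Quotient.mk (Ideal.span (quotRel b))

/-- The universal coordinates. -/
def qc (x : B) (i : Fin d) : QuotRing b := quotMk b (.X (x, i))

theorem qc_rel {z : MvPolynomial (B × Fin d) ℤ} (hz : z ∈ quotRel b) : quotMk b z = 0 :=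
  Ideal.Quotient.eq_zero_iff_mem.2 (Ideal.subset_span hz)

/-- Ring maps out of the classifying ring. -/
def quotLift {R : Type u} [CommRing R] (f : MvPolynomial (B × Fin d) ℤ →+* R)
    (hf : ∀ z ∈ Ideal.span (quotRel b), f z = 0) : QuotRing b →+* R :=
  Ideal.Quotient.lift _ f hf

theorem quotLift_mk {R : Type u} [CommRing R] (f : MvPolynomial (B × Fin d) ℤ →+* R)
    (hf : ∀ z ∈ Ideal.span (quotRel b), f z = 0) (z : MvPolynomial (B × Fin d) ℤ) :
    quotLift b f hf (quotMk b z) = f z := rfl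

theorem quot_ringHom_ext {R : Type u} [CommRing R] {f g : QuotRing b →+* R}
    (h : ∀ x i, f (qc b x i) = g (qc b x i)) : f = g := by
  have : f.comp (quotMk b) = g.comp (quotMk b) := MvPolynomial.ringHom_ext (fun n => by simp) fun z => h z.1 z.2
  refine RingHom.ext fun q => ?_
  obtain ⟨z, hz⟩ := Ideal.Quotient.mk_surjective (I := Ideal.span (quotRel b)) q
  rw [show q = quotMk b z from hz.symm]
  exact DFunLike.congr_fun this z

theorem qc_add (x y : B) (i : Fin d) : qc b (x + y) i = qc b x i + qc b y i := by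
  have := qc_rel b (Or.inl ⟨x, y, i, rfl⟩)
  rw [map_sub, map_sub, sub_sub, sub_eq_zero] at this
  exact this

theorem qc_basis (j i : Fin d) : qc b (b j) i = if j = i then 1 else 0 := by
  have := qc_rel b (Or.inr (Or.inl ⟨j, i, rfl⟩))
  rw [map_sub, sub_eq_zero] at this
  refine this.trans ?_
  split <;> simp

theorem qc_mul (x y : B) (i : Fin d) : qc b (x * y) i = ∑ k, qc b y k * qc b (x * b k) i := by
  have := qc_rel b (Or.inr (Or.inr ⟨x, y, i, rfl⟩))
  rw [map_sub, sub_eq_zero, map_sum] at this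
  refine this.trans ?_
  simp [qc]

/-- The coordinate map. -/
def quotPhi : QuotRing b ⊗[ℤ] B →ₗ[QuotRing b] (Fin d → QuotRing b) :=
  LinearMap.liftBaseChange (QuotRing b)
    (AddMonoidHom.mk' (fun x i => qc b x i) (fun x y => funext (qc_add b x y))).toIntLinearMap

theorem quotPhi_tmul (q : QuotRing b) (x : B) (i : Fin d) : quotPhi b (q ⊗ₜ x) i = q * qc b x i := by
  simp [quotPhi]

theorem quotPhi_mul (x : B) (z : QuotRing b ⊗[ℤ] B) (i : Fin d) :
    quotPhi b ((1 ⊗ₜ x) * z) i = ∑ k, quotPhi b z k * qc b (x * b k) i := by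
  induction z with
  | zero => simp
  | tmul q y =>
    rw [Algebra.TensorProduct.tmul_mul_tmul, one_mul, quotPhi_tmul, qc_mul, Finset.mul_sum]
    exact Finset.sum_congr rfl fun k _ => by rw [quotPhi_tmul, mul_assoc]
  | add a c ha hc =>
    simp only [mul_add, map_add, Pi.add_apply, ha, hc, add_mul, Finset.sum_add_distrib]

/-- The universal relations form an ideal. -/
def quotKer : Ideal (QuotRing b ⊗[ℤ] B) where
  carrier := {z | quotPhi b z = 0}
  add_mem' := fun {a c} ha hc => by
    show quotPhi b (a + c) = 0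
    rw [map_add, ha, hc, add_zero]
  zero_mem' := map_zero _
  smul_mem' := fun r z hz => by
    show quotPhi b (r * z) = 0
    induction r with
    | zero => simp
    | tmul q x =>
      have e : (q ⊗ₜ[ℤ] x : QuotRing b ⊗[ℤ] B) * z = q • ((1 ⊗ₜ x) * z) := by
        rw [← smul_mul_assoc, TensorProduct.smul_tmul', smul_eq_mul, mul_one]
      rw [e, map_smul]
      ext i
      rw [Pi.smul_apply, quotPhi_mul]
      simp [show quotPhi b z = 0 from hz]
    | add a c ha hc => rw [add_mul, map_add, ha, hc, add_zero]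

/-- The universal quotient. -/
abbrev QuotAlg : Type u := (QuotRing b ⊗[ℤ] B) ⧸ quotKer b

/-- The map to the universal quotient. -/
def quotMap : B →+* QuotAlg b :=
  (Ideal.Quotient.mk _).comp (Algebra.TensorProduct.includeRight : B →ₐ[ℤ] QuotRing b ⊗[ℤ] B).toRingHom

/-- The universal quotient is free. -/
def quotEquiv : QuotAlg b ≃ₗ[QuotRing b] (Fin d → QuotRing b) :=
  (Submodule.quotEquivOfEq ((quotKer b).restrictScalars (QuotRing b)) (LinearMap.ker (quotPhi b)) rfl).trans
    ((quotPhi b).quotKerEquivOfSurjective fun v => ⟨∑ j, v j ⊗ₜ b j, by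
      ext i
      simp [map_sum, quotPhi_tmul, qc_basis, Finset.sum_apply]⟩)

/-- The universal basis. -/
def quotBasis : Module.Basis (Fin d) (QuotRing b) (QuotAlg b) := .ofEquivFun (quotEquiv b)

theorem quotEquiv_mk (z : QuotRing b ⊗[ℤ] B) :
    quotEquiv b (Ideal.Quotient.mk _ z) = quotPhi b z := rfl

theorem quotBasis_apply (j : Fin d) : quotBasis b j = quotMap b (b j) := by
  apply (quotEquiv b).injective
  ext i
  rw [quotMap, RingHom.comp_apply, quotEquiv_mk]
  simp [quotBasis, quotPhi_tmul, qc_basis, Pi.single_apply, eq_comm]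

/-- The universal property of the universal quotient. -/
theorem existsUnique_quotHom {R C : Type u} [CommRing R] [CommRing C] [Algebra R C] (γ : B →+* C)
    (bC : Module.Basis (Fin d) R C) (hb : ∀ i, bC i = γ (b i)) :
    ∃! χ : QuotRing b →+* R, ∃ Φ : QuotAlg b →+* C,
      Φ.comp (algebraMap (QuotRing b) (QuotAlg b)) = (algebraMap R C).comp χ ∧ Φ.comp (quotMap b) = γ := by
  have hγ : ∀ x, γ x = ∑ k, bC.repr (γ x) k • γ (b k) := fun x => by
    conv_lhs => rw [← bC.sum_repr (γ x)]
    simp only [hb]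
  let χ₀ : MvPolynomial (B × Fin d) ℤ →+* R := MvPolynomial.eval₂Hom (Int.castRingHom R) fun z => bC.repr (γ z.1) z.2
  have hχ : ∀ z ∈ Ideal.span (quotRel b), χ₀ z = 0 := fun z hz => by
    refine (Ideal.span_le (I := RingHom.ker χ₀)).2 ?_ hz
    have hX : ∀ z, χ₀ (MvPolynomial.X z) = bC.repr (γ z.1) z.2 := fun z => MvPolynomial.eval₂Hom_X' _ _ z
    rintro w (⟨x, y, i, rfl⟩ | ⟨j, i, rfl⟩ | ⟨x, y, i, rfl⟩) <;>
      simp only [SetLike.mem_coe, RingHom.mem_ker, map_sub, map_sum, map_mul, hX, sub_eq_zero]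
    · rw [map_add, map_add, Finsupp.add_apply, add_sub_cancel_left]
    · rw [← hb, Module.Basis.repr_self, Finsupp.single_apply]
      split <;> simp
    ·
      have e : γ x * γ y = ∑ k, bC.repr (γ y) k • (γ x * γ (b k)) := by
        conv_lhs => rw [hγ y, Finset.mul_sum]
        exact Finset.sum_congr rfl fun k _ => mul_smul_comm _ _ _
      rw [e, map_sum, Finsupp.coe_finsetSum, Finset.sum_apply]
      simp
  let χ : QuotRing b →+* R := quotLift b χ₀ hχ
  have hχc : ∀ x i, χ (qc b x i) = bC.repr (γ x) i := fun x i => by simp [χ, qc, χ₀, quotLift_mk]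
  let Φ₀ : QuotRing b ⊗[ℤ] B →+* C := (Algebra.TensorProduct.lift ((algebraMap R C).comp χ).toIntAlgHom
    γ.toIntAlgHom fun _ _ => Commute.all _ _).toRingHom
  have hΦ : ∀ z, Φ₀ z = ∑ i, χ (quotPhi b z i) • bC i := fun z => by
    induction z with
    | zero => simp
    | tmul q x =>
      simp only [quotPhi_tmul, map_mul, hχc, mul_smul, ← Finset.smul_sum, bC.sum_repr]
      simp [Φ₀, Algebra.smul_def]
    | add a c ha hc => simp [map_add, ha, hc, add_smul, Finset.sum_add_distrib]
  refine ⟨χ, ⟨Ideal.Quotient.lift (quotKer b) Φ₀ fun z hz => by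
    rw [hΦ, show quotPhi b z = 0 from hz]; simp, RingHom.ext fun q => ?_, RingHom.ext fun x => ?_⟩, ?_⟩
  · show Φ₀ (q ⊗ₜ 1) = _
    simp [Φ₀]
  · show Φ₀ (1 ⊗ₜ x) = _
    simp [Φ₀]
  rintro χ' ⟨Φ, h1, h2⟩
  refine quot_ringHom_ext b fun x i => ?_
  rw [hχc]
  have e : quotMap b x = ∑ k, (algebraMap (QuotRing b) (QuotAlg b) : QuotRing b →+* QuotAlg b) (qc b x k) * quotMap b (b k) := by
    conv_lhs => rw [← (quotBasis b).sum_repr (quotMap b x)]
    refine Finset.sum_congr rfl fun k _ => ?_
    refine (Algebra.smul_def (R := QuotRing b) (A := QuotAlg b) _ _).trans ?_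
    rw [quotBasis_apply]
    congr 2
    show quotEquiv b (quotMap b x) k = _
    rw [quotMap, RingHom.comp_apply, quotEquiv_mk]
    simp [quotPhi_tmul]
  have := congrArg Φ e
  simp only [map_sum, map_mul, ← RingHom.comp_apply, h1, h2] at this
  rw [this]
  simp only [RingHom.comp_apply, ← Algebra.smul_def, ← hb, map_sum, map_smul, Module.Basis.repr_self,
    Finsupp.coe_finsetSum, Finset.sum_apply, Finsupp.smul_apply, smul_eq_mul, Finsupp.single_apply, mul_ite,
    mul_one, mul_zero, Finset.sum_ite_eq', Finset.mem_univ, if_true]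

/-- Finite free quotients with basis `b` have a universal one. -/
theorem exists_quotChart : ∃ (Q : Type u) (_ : CommRing Q) (A : Type u) (_ : CommRing A) (_ : Algebra Q A)
    (β : B →+* A) (e : Module.Basis (Fin d) Q A), (∀ i, e i = β (b i)) ∧
      ∀ (R C : Type u) [CommRing R] [CommRing C] [Algebra R C] (γ : B →+* C) (bC : Module.Basis (Fin d) R C),
        (∀ i, bC i = γ (b i)) →
        ∃! χ : Q →+* R, ∃ Φ : A →+* C, Φ.comp (algebraMap Q A) = (algebraMap R C).comp χ ∧ Φ.comp β = γ :=
  ⟨QuotRing b, inferInstance, QuotAlg b, inferInstance, inferInstance, quotMap b, quotBasis b, quotBasis_apply b,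
    fun _ _ _ _ _ γ bC hb => existsUnique_quotHom b γ bC hb⟩

end Quot

section Weil

/-- Weil restriction along a finite free algebra is representable. -/
theorem exists_weilRing {R W : Type u} [CommRing R] [CommRing W] [Algebra R W] {ι : Type} [Fintype ι]
    (w : Module.Basis ι R W) {B2 E : Type u} [CommRing B2] [CommRing E] [Algebra B2 E] (h : B2 →+* W) :
    ∃ (R2 : Type u) (_ : CommRing R2) (_ : Algebra R R2) (Φ : E →+* R2 ⊗[R] W),
      Φ.comp (algebraMap B2 E) = (Algebra.TensorProduct.includeRight : W →ₐ[R] R2 ⊗[R] W).toRingHom.comp h ∧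
      ∀ (R3 : Type u) [CommRing R3] [Algebra R R3] (g : E →+* R3 ⊗[R] W),
        g.comp (algebraMap B2 E) = (Algebra.TensorProduct.includeRight : W →ₐ[R] R3 ⊗[R] W).toRingHom.comp h →
        ∃! χ : R2 →ₐ[R] R3, (Algebra.TensorProduct.map χ (AlgHom.id R W)).toRingHom.comp Φ = g := by
  classical
  let P := MvPolynomial (E × ι) R
  let wP := Algebra.TensorProduct.basis P w
  let ψ : E → P ⊗[R] W := fun x => ∑ i, (MvPolynomial.X (x, i) : P) ⊗ₜ w i
  let rels : Set (P ⊗[R] W) := {z | (∃ x y, z = ψ (x + y) - ψ x - ψ y) ∨ (∃ x y, z = ψ (x * y) - ψ x * ψ y) ∨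
    ∃ c, z = ψ (algebraMap B2 E c) - 1 ⊗ₜ h c}
  let I : Ideal P := Ideal.span {p | ∃ z ∈ rels, ∃ i, p = wP.repr z i}
  let R2 := P ⧸ I
  let π : P ⊗[R] W →ₐ[R] R2 ⊗[R] W := Algebra.TensorProduct.map (Ideal.Quotient.mkₐ R I) (AlgHom.id R W)
  have hrepr : ∀ {A : Type u} [CommRing A] [Algebra R A] (f : P →ₐ[R] A) (z : P ⊗[R] W),
      Algebra.TensorProduct.map f (AlgHom.id R W) z = ∑ i, f (wP.repr z i) ⊗ₜ w i := fun f z => by
    conv_lhs => rw [← wP.sum_repr z]
    simp [wP, TensorProduct.smul_tmul']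
  have hπ : ∀ z ∈ rels, π z = 0 := fun z hz => by
    show Algebra.TensorProduct.map (Ideal.Quotient.mkₐ R I) (AlgHom.id R W) z = 0
    rw [hrepr]
    refine Finset.sum_eq_zero fun i _ => ?_
    have h0 : Ideal.Quotient.mk I (wP.repr z i) = 0 :=
      Ideal.Quotient.eq_zero_iff_mem.2 (show wP.repr z i ∈ I from Ideal.subset_span ⟨z, hz, i, rfl⟩)
    exact (congrArg (· ⊗ₜ[R] w i) h0).trans (TensorProduct.zero_tmul _ _)
  have hadd : ∀ x y, π (ψ (x + y)) = π (ψ x) + π (ψ y) := fun x y => by
    have := hπ _ (Or.inl ⟨x, y, rfl⟩)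
    rwa [map_sub, map_sub, sub_sub, sub_eq_zero] at this
  have hmul : ∀ x y, π (ψ (x * y)) = π (ψ x) * π (ψ y) := fun x y => by
    have := hπ _ (Or.inr (Or.inl ⟨x, y, rfl⟩))
    rwa [map_sub, map_mul, sub_eq_zero] at this
  have halg : ∀ c, π (ψ (algebraMap B2 E c)) = 1 ⊗ₜ h c := fun c => by
    have := hπ _ (Or.inr (Or.inr ⟨c, rfl⟩))
    rw [map_sub, sub_eq_zero] at this
    simpa [π] using this
  let Φ : E →+* R2 ⊗[R] W :=
    { toFun := fun x => π (ψ x)
      map_one' := by
        have := halg 1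
        rw [map_one, map_one] at this
        exact this
      map_mul' := hmul
      map_zero' := by
        have := hadd 0 0
        rw [add_zero] at this
        exact left_eq_add.1 this
      map_add' := hadd }
  refine ⟨R2, inferInstance, inferInstance, Φ, RingHom.ext halg, fun R3 _ _ g hg => ?_⟩
  let w3 := Algebra.TensorProduct.basis R3 w
  let χ₀ : P →ₐ[R] R3 := MvPolynomial.aeval fun z => w3.repr (g z.1) z.2
  let m := Algebra.TensorProduct.map χ₀ (AlgHom.id R W)
  have hψ : ∀ x, m (ψ x) = g x := fun x => by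
    conv_rhs => rw [← w3.sum_repr (g x)]
    have hX : ∀ j, χ₀ (MvPolynomial.X (x, j)) = w3.repr (g x) j := fun j => MvPolynomial.aeval_X _ _
    simp only [m, ψ, map_sum, Algebra.TensorProduct.map_tmul, AlgHom.coe_id, id_eq, hX]
    simp [w3, TensorProduct.smul_tmul']
  have hI : ∀ p ∈ I, χ₀ p = 0 := fun p hp => by
    refine (Ideal.span_le (I := RingHom.ker χ₀)).2 ?_ hp
    rintro _ ⟨z, hz, i, rfl⟩
    have h0 : m z = 0 := by
      rcases hz with ⟨x, y, rfl⟩ | ⟨x, y, rfl⟩ | ⟨c, rfl⟩
      · simp [map_sub, hψ]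
      · simp [map_sub, map_mul, hψ]
      · rw [map_sub, hψ, sub_eq_zero]
        simpa [m] using DFunLike.congr_fun hg c
    show χ₀ (wP.repr z i) = 0
    have := congrArg (fun v => w3.repr v i) ((hrepr χ₀ z).symm.trans h0)
    simpa [w3, map_sum, Finsupp.single_apply] using this
  let χ : R2 →ₐ[R] R3 := Ideal.Quotient.liftₐ I χ₀ hI
  have hmπ : ∀ (χ' : R2 →ₐ[R] R3) (x : E), Algebra.TensorProduct.map χ' (AlgHom.id R W) (π (ψ x)) =
      ∑ i, χ' (Ideal.Quotient.mk I (.X (x, i))) ⊗ₜ w i := fun χ' x => by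
    simp only [π, ψ, map_sum, Algebra.TensorProduct.map_tmul, AlgHom.coe_id, id_eq]
    rfl
  refine ⟨χ, RingHom.ext fun x => ?_, fun χ' hχ' => ?_⟩
  · show Algebra.TensorProduct.map χ (AlgHom.id R W) (π (ψ x)) = g x
    rw [hmπ, ← hψ x]
    simp only [m, ψ, map_sum, Algebra.TensorProduct.map_tmul, AlgHom.coe_id, id_eq]
    rfl
  · refine Ideal.Quotient.algHom_ext R (MvPolynomial.algHom_ext fun z => ?_)
    obtain ⟨x, i⟩ := z
    have := DFunLike.congr_fun hχ' x
    change Algebra.TensorProduct.map χ' (AlgHom.id R W) (π (ψ x)) = g x at this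
    rw [hmπ] at this
    have := congrArg (fun v => w3.repr v i) this
    simp only [map_sum, w3, Algebra.TensorProduct.basis_repr_tmul, Finsupp.coe_finsetSum, Finset.sum_apply,
      Finsupp.smul_apply, Finsupp.mapRange_apply, Module.Basis.repr_self, Finsupp.single_apply] at this
    show χ' (Ideal.Quotient.mk I (.X (x, i))) = χ₀ (.X (x, i))
    rw [show χ₀ (.X (x, i)) = w3.repr (g x) i from MvPolynomial.aeval_X _ _]
    simpa [w3] using this

end Weil

end Groth.L24.Boot
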