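import Groth.Agent.L24.Boot.QuotRep
import Groth.Agent.L24.Boot.LqfEtale

/-!
Charts of disjoint unions; disjoint unions of etale equivalence relations.
-/

set_option autoImplicit false
set_option backward.isDefEq.respectTransparency false
set_option backward.isDefEq.respectTransparency.types false

universe u

open CategoryTheory CategoryTheory.Limits AlgebraicGeometry Opposite AlgSp

noncomputable section

namespace Groth.L24.Boot

variable {S : Scheme.{u}} {I : Type u} {X : I → Over S}

theorem SigmaData.hom_ext (D : SigmaData X) {T : Over S} {f g : D.V ⟶ T} (h : ∀ i, D.inj i ≫ f = D.inj i ≫ g) :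
    f = g :=
  Groth.L23.hom_ext_cover' D.inj D.cover h

/-- A map to a disjoint union decomposes its source. -/
def SigmaData.restrict (D : SigmaData X) {W : Over S} (f : W ⟶ D.V) :
    SigmaData fun i => Groth.L23.openOver W (f.left ⁻¹ᵁ (D.inj i).left.opensRange) where
  V := W
  inj i := Groth.L23.openOverι W (f.left ⁻¹ᵁ (D.inj i).left.opensRange)
  isOpen i := inferInstance
  cover t := by
    obtain ⟨i, u, hu⟩ := D.cover (f.left t)
    exact ⟨i, ⟨t, u, hu⟩, rfl⟩
  disj i j x y h := by
    obtain ⟨u, hu⟩ := x.2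
    obtain ⟨v, hv⟩ := y.2
    exact D.disj i j u v (hu.trans ((congrArg f.left h).trans hv.symm))
  desc T g := by
    obtain ⟨l, hl, -⟩ := Groth.L23.existsUnique_glue (F := (yon S).obj T)
      (fun i => Groth.L23.openOverι W (f.left ⁻¹ᵁ (D.inj i).left.opensRange)) (fun t => by
        obtain ⟨i, u, hu⟩ := D.cover (f.left t)
        exact ⟨i, ⟨t, u, hu⟩, rfl⟩) (fun i => (yon S).map (g i)) fun Z i j a b h => by
      by_cases hZ : IsEmpty ↥Z.left
      · exact hom_ext_of_isEmpty hZ
      · obtain ⟨t⟩ := not_isEmpty_iff.1 hZ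
        obtain ⟨u, hu⟩ := (a.left t).2
        obtain ⟨v, hv⟩ := (b.left t).2
        have e : ((Groth.L23.openOverι W (f.left ⁻¹ᵁ (D.inj i).left.opensRange)).left (a.left t)) =
            (Groth.L23.openOverι W (f.left ⁻¹ᵁ (D.inj j).left.opensRange)).left (b.left t) :=
          congrArg (fun k : Z ⟶ W => k.left t) h
        obtain rfl := D.disj i j u v (hu.trans ((congrArg f.left e).trans hv.symm))
        have := Over.mono_of_mono_left (Groth.L23.openOverι W (f.left ⁻¹ᵁ (D.inj i).left.opensRange))
        rw [(cancel_mono (Groth.L23.openOverι W (f.left ⁻¹ᵁ (D.inj i).left.opensRange))).1 h]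
    obtain ⟨l, rfl⟩ := (yon S).map_surjective l
    exact ⟨l, fun i => (yon S).map_injective (by rw [Functor.map_comp, hl])⟩
  etale_of {T} g h := by
    let 𝒰 : Scheme.OpenCover.{u} W.left := Scheme.Cover.mkOfCovers I (fun i => _)
      (fun i => (Groth.L23.openOverι W (f.left ⁻¹ᵁ (D.inj i).left.opensRange)).left) (fun t => by
        obtain ⟨i, u, hu⟩ := D.cover (f.left t)
        exact ⟨i, ⟨t, u, hu⟩, rfl⟩) (fun i => inferInstance)
    exact IsZariskiLocalAtSource.of_openCover (P := @Etale) 𝒰 fun i => h i

theorem SigmaData.exists_restrict_lift (D : SigmaData X) {W : Over S} (f : W ⟶ D.V) (i : I) :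
    ∃ l : Groth.L23.openOver W (f.left ⁻¹ᵁ (D.inj i).left.opensRange) ⟶ X i,
      l ≫ D.inj i = (D.restrict f).inj i ≫ f :=
  exists_lift_open _ _ (by rintro _ ⟨s, rfl⟩; exact s.2)

/-- A map out of a point of a member into another member is in the same member. -/
theorem SigmaData.eq_of_comp_eq (D : SigmaData X) {W : Over S} {i j : I} (a : W ⟶ X i) (b : W ⟶ X j)
    (h : a ≫ D.inj i = b ≫ D.inj j) (hW : ¬ IsEmpty ↥W.left) : i = j := by
  obtain ⟨t⟩ := not_isEmpty_iff.1 hW
  exact D.disj i j (a.left t) (b.left t) (congrArg (fun k : W ⟶ D.V => k.left t) h)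

section Charts

variable {F : Sp S}

set_option maxHeartbeats 400000 in
/-- Charts of the members give charts of their disjoint union. -/
theorem hasCharts_sigma {P : MorphismProperty Scheme.{u}} [IsZariskiLocalAtSource P] (D : SigmaData X)
    (η : (yon S).obj D.V ⟶ F) (h : ∀ i, HasCharts P ((yon S).map (D.inj i) ≫ η))
    (hs : ∀ {T : Over S} (ξ : (yon S).obj T ⟶ F) (c : ∀ i, Chart ((yon S).map (D.inj i) ≫ η) ξ) (t : ↥T.left),
      ∃ i, t ∈ Set.range (c i).a.left) : HasCharts (P ⊓ @Surjective) η := by
  intro T ξ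
  choose c hc using fun i => h i ξ
  obtain ⟨DA⟩ := exists_sigma fun i => (c i).A
  obtain ⟨a, ha⟩ := DA.desc T fun i => (c i).a
  obtain ⟨α, hα⟩ := DA.desc D.V fun i => (c i).α ≫ D.inj i
  have hw : (yon S).map a ≫ ξ = (yon S).map α ≫ η := Groth.L23.hom_ext_cover DA.inj DA.cover fun i => by
    rw [← Functor.map_comp_assoc, ha, ← Functor.map_comp_assoc, hα, Functor.map_comp_assoc]
    exact (c i).w
  let a₃ : (yon S).obj DA.V ⟶ pullback ξ η := pullback.lift ((yon S).map a) ((yon S).map α) hw
  have main : RepWith (@Etale ⊓ @Surjective) a₃ := Groth.L23.repWith_of_exists fun W g => by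
    obtain ⟨τ, hτ⟩ := (yon S).map_surjective (g ≫ pullback.fst ξ η)
    obtain ⟨o, ho⟩ := (yon S).map_surjective (g ≫ pullback.snd ξ η)
    have hoτ : (yon S).map o ≫ η = (yon S).map τ ≫ ξ := by
      rw [ho, hτ, Category.assoc, Category.assoc, pullback.condition]
    let DW := D.restrict o
    choose oi hoi using D.exists_restrict_lift o
    let gi : ∀ i, (yon S).obj (Groth.L23.openOver W (o.left ⁻¹ᵁ (D.inj i).left.opensRange)) ⟶
        pullback ξ ((yon S).map (D.inj i) ≫ η) := fun i =>
      pullback.lift ((yon S).map (DW.inj i ≫ τ)) ((yon S).map (oi i)) (by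
        rw [← Functor.map_comp_assoc, hoi, Functor.map_comp_assoc, Functor.map_comp_assoc, hoτ])
    have he := fun i => (c i).etale.1
    have sqi := fun i => (he i).isPullback (gi i)
    choose fi hfi using fun i => (yon S).map_surjective ((he i).fst (gi i))
    let ei := fun i => (he i).snd (gi i)
    have sqi1 : ∀ i, fi i ≫ (c i).a = ei i ≫ DW.inj i ≫ τ := fun i => (yon S).map_injective (by
      have := (sqi i).w =≫ pullback.fst _ _
      simp [gi, ei, ← hfi] at this ⊢
      exact this)
    have sqi2 : ∀ i, fi i ≫ (c i).α = ei i ≫ oi i := fun i => (yon S).map_injective (by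
      have := (sqi i).w =≫ pullback.snd _ _
      simp [gi, ei, ← hfi] at this ⊢
      exact this)
    obtain ⟨DM⟩ := exists_sigma fun i => (he i).pullback (gi i)
    obtain ⟨e, hee⟩ := DM.desc W fun i => ei i ≫ DW.inj i
    obtain ⟨f, hf⟩ := DM.desc DA.V fun i => fi i ≫ DA.inj i
    have e1 : f ≫ a = e ≫ τ := DM.hom_ext fun i => by
      rw [reassoc_of% hf i, ha, reassoc_of% hee i, sqi1]
    have e2 : f ≫ α = e ≫ o := DM.hom_ext fun i => by
      rw [reassoc_of% hf i, hα, reassoc_of% hee i, reassoc_of% sqi2 i, hoi]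
    refine ⟨DM.V, (yon S).map f, e, isPullback_of_yon ?_ (fun Z x y h1 h2 => ?_) fun Z x y hxy => ?_, ?_, ?_⟩
    · apply pullback.hom_ext
      · rw [Category.assoc, Category.assoc, pullback.lift_fst, ← hτ, ← Functor.map_comp, ← Functor.map_comp, e1]
      · rw [Category.assoc, Category.assoc, pullback.lift_snd, ← ho, ← Functor.map_comp, ← Functor.map_comp, e2]
    · obtain ⟨x, rfl⟩ := (yon S).map_surjective x
      obtain ⟨y, rfl⟩ := (yon S).map_surjective y
      rw [← Functor.map_comp, ← Functor.map_comp] at h1 h2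
      replace h1 := (yon S).map_injective h1
      replace h2 := (yon S).map_injective h2
      congr 1
      refine (DM.restrict x).hom_ext fun i => ?_
      obtain ⟨xi, hxi⟩ := DM.exists_restrict_lift x i
      obtain ⟨yi, hyi⟩ : ∃ yi, yi ≫ DM.inj i = (DM.restrict x).inj i ≫ y := exists_lift_open _ _ (by
        rintro _ ⟨s, rfl⟩
        obtain ⟨j, v, hv⟩ := DM.cover (y.left ((DM.restrict x).inj i |>.left s))
        obtain ⟨u, hu⟩ := s.2
        have q1 : f.left (x.left ((DM.restrict x).inj i |>.left s)) = f.left (y.left ((DM.restrict x).inj i |>.left s)) :=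
          congrArg (fun k : Z ⟶ DA.V => k.left ((DM.restrict x).inj i |>.left s)) h1
        have q2 : ∀ k (z : ↥((he k).pullback (gi k)).left), f.left ((DM.inj k).left z) = (DA.inj k).left ((fi k).left z) :=
          fun k z => congrArg (fun m : _ ⟶ DA.V => m.left z) (hf k)
        have : x.left ((DM.restrict x).inj i |>.left s) = (DM.inj i).left u := hu.symm
        rw [this, ← hv, q2, q2] at q1
        obtain rfl := DA.disj _ _ _ _ q1
        exact ⟨v, hv⟩)
      have := mono_inj DA i
      have := mono_inj D i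
      have := Over.mono_of_mono_left (DW.inj i)
      have hxy' : xi = yi := (yon S).map_injective ((sqi i).hom_ext (by
        rw [← hfi, ← Functor.map_comp, ← Functor.map_comp]
        congr 1
        rw [← cancel_mono (DA.inj i), Category.assoc, Category.assoc, ← hf, reassoc_of% hxi, reassoc_of% hyi, h1])
        (by
        rw [← Functor.map_comp, ← Functor.map_comp]
        congr 1
        rw [← cancel_mono (DW.inj i), Category.assoc, Category.assoc, ← hee, reassoc_of% hxi, reassoc_of% hyi, h2]))
      rw [← hxi, ← hyi, hxy']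
    · obtain ⟨x, rfl⟩ := (yon S).map_surjective x
      obtain ⟨y, rfl⟩ := (yon S).map_surjective y
      have r1 := hxy =≫ pullback.fst ξ η
      have r2 := hxy =≫ pullback.snd ξ η
      rw [Category.assoc, Category.assoc, pullback.lift_fst, ← hτ, ← Functor.map_comp, ← Functor.map_comp] at r1
      rw [Category.assoc, Category.assoc, pullback.lift_snd, ← ho, ← Functor.map_comp, ← Functor.map_comp] at r2
      replace r1 := (yon S).map_injective r1
      replace r2 := (yon S).map_injective r2
      choose xi hxi using DA.exists_restrict_lift x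
      have hy : ∀ i, ∃ yi, yi ≫ DW.inj i = (DA.restrict x).inj i ≫ y := fun i => exists_lift_open _ _ (by
        rintro _ ⟨s, rfl⟩
        have q : α.left (x.left ((DA.restrict x).inj i |>.left s)) = o.left (y.left ((DA.restrict x).inj i |>.left s)) :=
          congrArg (fun k : Z ⟶ D.V => k.left ((DA.restrict x).inj i |>.left s)) r2
        refine ⟨⟨y.left ((DA.restrict x).inj i |>.left s), (c i).α.left ((xi i).left s), ?_⟩, rfl⟩
        rw [← q, ← Scheme.Hom.comp_apply, ← Scheme.Hom.comp_apply, ← Over.comp_left, ← Over.comp_left]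
        have : (c i).α ≫ D.inj i = DA.inj i ≫ α := (hα i).symm
        show ((xi i ≫ (c i).α ≫ D.inj i).left) s = _
        rw [this, reassoc_of% hxi i]
        rfl)
      choose yi hyi using hy
      have hlift : ∀ i, ∃ zi, (yon S).map zi ≫ (he i).fst (gi i) = (yon S).map (xi i) ∧
          zi ≫ ei i = yi i := fun i => by
        have := mono_inj D i
        obtain ⟨zi, h1', h2'⟩ := (sqi i).exists_lift ((yon S).map (xi i)) ((yon S).map (yi i)) (by
          apply pullback.hom_ext
          · simp only [gi, Category.assoc, pullback.lift_fst, ← Functor.map_comp]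
            congr 1
            rw [← ha, reassoc_of% hxi i, reassoc_of% hyi i, r1]
          · simp only [gi, Category.assoc, pullback.lift_snd, ← Functor.map_comp]
            congr 1
            rw [← cancel_mono (D.inj i), Category.assoc, Category.assoc, hoi, ← hα, reassoc_of% hxi i,
              reassoc_of% hyi i, r2])
        obtain ⟨zi, rfl⟩ := (yon S).map_surjective zi
        exact ⟨zi, h1', (yon S).map_injective (by rw [Functor.map_comp]; exact h2')⟩
      choose zi hz1 hz2 using hlift
      obtain ⟨z, hz⟩ := (DA.restrict x).desc DM.V fun i => zi i ≫ DM.inj i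
      refine ⟨(yon S).map z, ?_, ?_⟩
      · rw [← Functor.map_comp]
        congr 1
        refine (DA.restrict x).hom_ext fun i => ?_
        rw [reassoc_of% hz i, hf, ← hxi, ← Category.assoc]
        congr 1
        exact (yon S).map_injective (by rw [Functor.map_comp, hfi, hz1])
      · rw [← Functor.map_comp]
        congr 1
        refine (DA.restrict x).hom_ext fun i => ?_
        rw [reassoc_of% hz i, hee, reassoc_of% hz2 i, hyi]
    · refine DM.etale_of e fun i => ?_
      rw [hee]
      have : Etale (ei i).left := Groth.L23.repWith_snd (c i).etale (gi i)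
      exact MorphismProperty.comp_mem @Etale _ _ this
        (inferInstanceAs (Etale (o.left ⁻¹ᵁ (D.inj i).left.opensRange).ι))
    · refine ⟨fun w => ?_⟩
      obtain ⟨i, u, hu⟩ := D.cover (o.left w)
      have : Surjective (ei i).left := (c i).surj.2 (gi i) _ _ (sqi i)
      obtain ⟨m, hm⟩ := (ei i).left.surjective ⟨w, u, hu⟩
      refine ⟨(DM.inj i).left m, ?_⟩
      rw [← Scheme.Hom.comp_apply, ← Over.comp_left, hee, Over.comp_left, Scheme.Hom.comp_apply, hm]
      rfl
  refine ⟨⟨DA.V, a, α, hw, (Groth.L23.repWith_inf_iff.1 main).1, (Groth.L23.repWith_inf_iff.1 main).2⟩,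
    of_openCover DA a fun i => by rw [ha]; exact hc i, ⟨fun t => ?_⟩⟩
  obtain ⟨i, m, hm⟩ := hs ξ c t
  exact ⟨(DA.inj i).left m, by rw [← Scheme.Hom.comp_apply, ← Over.comp_left, ha]; exact hm⟩

end Charts

end Groth.L24.Boot
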