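import Groth.Agent.L24.Boot.AffMap
import Groth.Agent.L24.Boot.Coords
import Mathlib.AlgebraicGeometry.Morphisms.Smooth
import Mathlib.AlgebraicGeometry.Morphisms.FormallyUnramified

/-!
Coordinates on an affine open of the target making a smooth unramified relation etale over affine space.
-/

set_option autoImplicit false
set_option backward.isDefEq.respectTransparency false
set_option backward.isDefEq.respectTransparency.types false

universe u

open CategoryTheory CategoryTheory.Limits AlgebraicGeometry TensorProduct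

noncomputable section

namespace Groth.L24.Boot

section Algebra

variable {A B C : Type u} [CommRing A] [CommRing B] [CommRing C] [Algebra A C]

/-- The map `A ⊗ B → C`. -/
def pairMap (β : B →+* C) : A ⊗[ℤ] B →ₐ[A] C :=
  Algebra.TensorProduct.lift (Algebra.ofId A C) β.toIntAlgHom (fun _ _ => Commute.all _ _)

theorem span_eq_top_of_formallyUnramified (β : B →+* C)
    (h : (pairMap (A := A) β).toRingHom.FormallyUnramified) :
    Submodule.span C (Set.range (KaehlerDifferential.D A C ∘ β)) = ⊤ := by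
  let : Algebra (A ⊗[ℤ] B) C := (pairMap (A := A) β).toRingHom.toAlgebra
  have : IsScalarTower A (A ⊗[ℤ] B) C := IsScalarTower.of_algebraMap_eq' (pairMap (A := A) β).comp_algebraMap.symm
  have : Algebra.FormallyUnramified (A ⊗[ℤ] B) C := h
  rw [eq_top_iff]
  rintro z -
  obtain ⟨w, rfl⟩ := (KaehlerDifferential.exact_mapBaseChange_map A (A ⊗[ℤ] B) C z).1 (Subsingleton.elim _ _)
  let N := Submodule.span C (Set.range (KaehlerDifferential.D A C ∘ β))
  have hD : ∀ x : A ⊗[ℤ] B, KaehlerDifferential.D A C (algebraMap (A ⊗[ℤ] B) C x) ∈ N := fun x => by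
    induction x with
    | zero => simp
    | tmul a b =>
      show KaehlerDifferential.D A C (pairMap β (a ⊗ₜ b)) ∈ N
      rw [pairMap, Algebra.TensorProduct.lift_tmul]
      show KaehlerDifferential.D A C (algebraMap A C a * β b) ∈ N
      rw [Derivation.leibniz, Derivation.map_algebraMap, smul_zero, add_zero]
      exact N.smul_mem _ (Submodule.subset_span ⟨b, rfl⟩)
    | add a b ha hb => rw [map_add, map_add]; exact N.add_mem ha hb
  induction w with
  | zero => simp
  | tmul c m =>
    rw [KaehlerDifferential.mapBaseChange_tmul]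
    refine N.smul_mem c ?_
    have hm : m ∈ Submodule.span (A ⊗[ℤ] B) (Set.range (KaehlerDifferential.D A (A ⊗[ℤ] B))) := by
      rw [KaehlerDifferential.span_range_derivation]; trivial
    induction hm using Submodule.span_induction with
    | mem y hy => obtain ⟨x, rfl⟩ := hy; rw [KaehlerDifferential.map_D]; exact hD x
    | zero => simp
    | add _ _ _ _ ha hb => rw [map_add]; exact N.add_mem ha hb
    | smul r y _ hy => rw [map_smul]; exact (N.restrictScalars (A ⊗[ℤ] B)).smul_mem r hy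
  | add a b ha hb =>
    rw [map_add]
    exact N.add_mem ha hb

end Algebra

theorem toSpecMvPolyIntEquiv_specMap {σ : Type u} {R : CommRingCat.{u}}
    (h : CommRingCat.of (MvPolynomial σ (ULift.{u} ℤ)) ⟶ R) (i : σ) :
    AffineSpace.toSpecMvPolyIntEquiv σ (Spec.map h) i = (Scheme.ΓSpecIso R).inv (h (.X i)) := by
  rw [AffineSpace.toSpecMvPolyIntEquiv_apply, ← CommRingCat.comp_apply, ← CommRingCat.comp_apply,
    Scheme.ΓSpecIso_inv_naturality]

theorem exists_affine_mem {U : Scheme.{u}} (x : U) (O : U.Opens) (hx : x ∈ O) :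
    ∃ V : U.Opens, IsAffineOpen V ∧ x ∈ V ∧ V ≤ O := by
  obtain ⟨_, ⟨V, hV, rfl⟩, hxV, hVO⟩ :=
    U.isBasis_affineOpens.exists_subset_of_mem_open (show x ∈ (O : Set U) from hx) O.2
  exact ⟨V, hV, hxV, hVO⟩

/-- Near a point, coordinates on the target make the source etale over affine space. -/
theorem exists_coordChart {R U : Scheme.{u}} (s t : R ⟶ U) [Smooth s] [Smooth t]
    (hfu : FormallyUnramified
      (pullback.lift s t (terminal.hom_ext _ _) : R ⟶ pullback (terminal.from U) (terminal.from U)))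
    (r : R) :
    ∃ (V : U.Opens) (κ : Type u) (_ : Finite κ) (G : V.toScheme ⟶ AffZ κ) (U0 : U.Opens),
      U0 ≤ V ∧ t r ∈ U0 ∧ ∀ u ∈ U0, ∃ r', t r' = u ∧ Good G s t r' := by
  obtain ⟨V, hV, hrV, -⟩ := exists_affine_mem (t r) ⊤ trivial
  obtain ⟨U1, hU1, hrU1, -⟩ := exists_affine_mem (s r) ⊤ trivial
  obtain ⟨W, hW, hrW, hWUV⟩ := exists_affine_mem r (s ⁻¹ᵁ U1 ⊓ t ⁻¹ᵁ V) ⟨hrU1, hrV⟩
  have hWs : W ≤ s ⁻¹ᵁ U1 := hWUV.trans inf_le_left
  have hWt : W ≤ t ⁻¹ᵁ V := hWUV.trans inf_le_right
  have hsm : (s.appLE U1 W hWs).hom.Smooth :=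
    HasRingHomProperty.appLE @Smooth s inferInstance ⟨U1, hU1⟩ ⟨W, hW⟩ hWs
  algebraize [(s.appLE U1 W hWs).hom]
  let β := (t.appLE V W hWt).hom
  -- the differentials of the second projection span
  have hfu' : (pairMap (A := Γ(U, U1)) β).toRingHom.FormallyUnramified := by
    let φ := CommRingCat.ofHom (pairMap (A := Γ(U, U1)) β).toRingHom
    let J : Spec (CommRingCat.of (Γ(U, U1) ⊗[ℤ] Γ(U, V))) ⟶ pullback (terminal.from U) (terminal.from U) :=
      pullback.lift
        (Spec.map (CommRingCat.ofHom (Algebra.TensorProduct.includeLeftRingHom)) ≫ hU1.fromSpec)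
        (Spec.map (CommRingCat.ofHom (Algebra.TensorProduct.includeRight :
          Γ(U, V) →ₐ[ℤ] Γ(U, U1) ⊗[ℤ] Γ(U, V)).toRingHom) ≫ hV.fromSpec) (terminal.hom_ext _ _)
    have e : Spec.map φ ≫ J = hW.fromSpec ≫ pullback.lift s t (terminal.hom_ext _ _) := by
      apply pullback.hom_ext
      · simp only [J, Category.assoc, pullback.lift_fst]
        rw [← Category.assoc, ← Spec.map_comp, ← IsAffineOpen.SpecMap_appLE_fromSpec s hU1 hW hWs]
        congr 2
        ext a
        show pairMap β (a ⊗ₜ 1) = _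
        simp [pairMap, RingHom.algebraMap_toAlgebra]
      · simp only [J, Category.assoc, pullback.lift_snd]
        rw [← Category.assoc, ← Spec.map_comp, ← IsAffineOpen.SpecMap_appLE_fromSpec t hV hW hWt]
        congr 2
        ext b
        show pairMap β ((1 : Γ(U, U1)) ⊗ₜ b) = _
        simp [pairMap, β]
    have : FormallyUnramified (hW.fromSpec ≫ pullback.lift s t (terminal.hom_ext _ _)) :=
      MorphismProperty.comp_mem _ _ _ (inferInstance : FormallyUnramified hW.fromSpec) hfu
    rw [← e] at this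
    have : FormallyUnramified (Spec.map φ) := FormallyUnramified.of_comp (Spec.map φ) J
    exact HasRingHomProperty.Spec_iff.1 this
  have hspan := span_eq_top_of_formallyUnramified β hfu'
  obtain ⟨g, hg, κ, hκ, b, hb⟩ := exists_coords (A := Γ(U, U1)) β hspan (hW.primeIdealOf ⟨r, hrW⟩).asIdeal
  let G : V.toScheme ⟶ AffZ κ :=
    (AffineSpace.toSpecMvPolyIntEquiv κ).symm fun i => V.topIso.inv (b i)
  let C' := Localization.Away g
  let loc := Spec.map (CommRingCat.ofHom (algebraMap Γ(R, W) C'))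
  let j0 : Spec (CommRingCat.of C') ⟶ R := loc ≫ hW.fromSpec
  let j : Spec (CommRingCat.of C') ⟶ (t ⁻¹ᵁ V).toScheme :=
    IsOpenImmersion.lift (t ⁻¹ᵁ V).ι j0 (by
      rw [Scheme.Opens.range_ι]
      rintro _ ⟨w, rfl⟩
      exact hWt (hW.range_fromSpec.subset ⟨loc w, rfl⟩))
  have hj : j ≫ (t ⁻¹ᵁ V).ι = j0 := IsOpenImmersion.lift_fac _ _ _
  have : IsOpenImmersion j0 := inferInstance
  have : IsOpenImmersion j := by
    have : IsOpenImmersion (j ≫ (t ⁻¹ᵁ V).ι) := by rw [hj]; infer_instance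
    exact IsOpenImmersion.of_comp j (t ⁻¹ᵁ V).ι
  let ae := (MvPolynomial.aeval (fun i => algebraMap Γ(R, W) C' (β (b i))) :
        MvPolynomial κ Γ(U, U1) →ₐ[Γ(U, U1)] C').toRingHom
  have : IsOpenImmersion (AffineSpace.map κ hU1.fromSpec) := isOpenImmersion_affMap _
  have he : j ≫ psi G s t = Spec.map (CommRingCat.ofHom ae) ≫ (AffineSpace.SpecIso κ Γ(U, U1)).inv ≫
      AffineSpace.map κ hU1.fromSpec := by
    apply aff_hom_ext
    · simp only [psi, Category.assoc, affLift_over, reassoc_of% hj, AffineSpace.map_over]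
      rw [AffineSpace.SpecIso_inv_over_assoc, ← Spec.map_comp_assoc, ← CommRingCat.ofHom_comp]
      simp only [j0, loc, Category.assoc]
      rw [← IsAffineOpen.SpecMap_appLE_fromSpec s hU1 hW hWs, ← Category.assoc, ← Spec.map_comp]
      congr 2
      ext a
      show algebraMap Γ(R, W) C' (algebraMap Γ(U, U1) Γ(R, W) a) = ae (MvPolynomial.C a)
      simp [ae, ← IsScalarTower.algebraMap_apply]
    · simp only [psi, Category.assoc, affLift_toSpec, AffineSpace.map_toSpecMvPoly]
      apply (AffineSpace.toSpecMvPolyIntEquiv κ).injective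
      ext i
      have e1 : j ≫ (t ∣_ V) = Spec.map (t.appLE V W hWt ≫ CommRingCat.ofHom (algebraMap Γ(R, W) C')) ≫
          hV.isoSpec.inv := by
        rw [← cancel_mono V.ι]
        simp only [Category.assoc, morphismRestrict_ι, reassoc_of% hj, j0, loc, Spec.map_comp,
          IsAffineOpen.isoSpec_inv_ι]
        exact congrArg (loc ≫ ·) (IsAffineOpen.SpecMap_appLE_fromSpec t hV hW hWt).symm
      rw [← Category.assoc, e1, AffineSpace.toSpecMvPolyIntEquiv_comp,
        AffineSpace.toSpecMvPolyIntEquiv_comp, AffineSpace.toSpecMvPolyIntEquiv_comp]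
      change _ = (Spec.map _).appTop ((AffineSpace.SpecIso κ Γ(U, U1)).inv.appTop (AffineSpace.coord _ i))
      rw [AffineSpace.SpecIso_inv_appTop_coord]
      simp only [G, Equiv.apply_symm_apply]
      rw [Scheme.Hom.comp_appTop, CommRingCat.comp_apply, IsAffineOpen.isoSpec_inv_appTop,
        CommRingCat.comp_apply]
      rw [← CommRingCat.comp_apply V.topIso.inv, Iso.inv_hom_id, CommRingCat.id_apply,
        ← CommRingCat.comp_apply, ← Scheme.ΓSpecIso_inv_naturality, CommRingCat.comp_apply,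
        ← CommRingCat.comp_apply _ ((Spec.map _).appTop), ← Scheme.ΓSpecIso_inv_naturality,
        CommRingCat.comp_apply]
      exact congrArg (Scheme.ΓSpecIso (CommRingCat.of C')).inv
        (MvPolynomial.aeval_X (R := Γ(U, U1)) (fun i => algebraMap Γ(R, W) C' (β (b i))) i).symm
  have hje : Etale (j ≫ psi G s t) := by
    rw [he]
    have : Etale (Spec.map (CommRingCat.ofHom ae)) := HasRingHomProperty.Spec_iff.2 hb
    infer_instance
  obtain ⟨w, hw⟩ : hW.primeIdealOf ⟨r, hrW⟩ ∈ Set.range loc := by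
    show _ ∈ Set.range (PrimeSpectrum.comap (algebraMap Γ(R, W) C'))
    rw [PrimeSpectrum.localization_away_comap_range C' g]
    exact hg
  have hjr : ((t ⁻¹ᵁ V).ι) (j w) = r := by
    rw [← Scheme.Hom.comp_apply, hj, Scheme.Hom.comp_apply, hw]
    exact hW.fromSpec_primeIdealOf ⟨r, hrW⟩
  have hopen : IsOpen (t '' ((t ⁻¹ᵁ V).ι '' (etaleSet (psi G s t) : Set (t ⁻¹ᵁ V).toScheme))) :=
    t.isOpenMap _ ((t ⁻¹ᵁ V).ι.isOpenEmbedding.isOpenMap _ (etaleSet (psi G s t)).2)
  refine ⟨V, κ, hκ, G, ⟨_, hopen⟩, ?_, ?_, ?_⟩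
  · rintro _ ⟨_, ⟨z, -, rfl⟩, rfl⟩
    exact z.2
  · exact ⟨_, ⟨j w, mem_etaleSet_of_isOpenImmersion j w, rfl⟩, congrArg t hjr⟩
  · rintro _ ⟨_, ⟨z, hz, rfl⟩, rfl⟩
    exact ⟨_, rfl, z.2, hz⟩

end Groth.L24.Boot
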