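import Mathlib.RingTheory.Etale.QuasiFinite
import Mathlib.RingTheory.Etale.StandardEtale
import Mathlib.FieldTheory.PurelyInseparable.Basic
import Mathlib.FieldTheory.PrimitiveElement
import Mathlib.FieldTheory.IsAlgClosed.Basic
import Mathlib.Algebra.Polynomial.Lifts

/-!
Etale neighbourhoods splitting off a geometric point of a quasi-finite algebra.
-/

set_option autoImplicit false

universe u

open TensorProduct

noncomputable section

namespace Groth.L24.Boot

variable {R C : Type u} [CommRing R] [CommRing C] [Algebra R C]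

/-- An element generating the separable closure determines the maps to a field. -/
theorem exists_separable_generator (k M : Type u) [Field k] [Field M] [Algebra k M] [Module.Finite k M] :
    ∃ θ : M, IsSeparable k θ ∧ ∀ (K : Type u) [Field K] (f g : M →+* K),
      f.comp (algebraMap k M) = g.comp (algebraMap k M) → f θ = g θ → f = g := by
  obtain ⟨θ, hθ⟩ := Field.exists_primitive_element k (separableClosure k M)
  refine ⟨θ, mem_separableClosure_iff.1 θ.2, fun K _ f g hfg hθ' => ?_⟩
  refine IsPurelyInseparable.injective_comp_algebraMap (separableClosure k M) M K (RingHom.ext fun y => ?_)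
  let := (f.comp (algebraMap k M)).toAlgebra
  let A : M →ₐ[k] K := { f with commutes' := fun _ => rfl }
  let B : M →ₐ[k] K := { g with commutes' := fun x => (DFunLike.congr_fun hfg x).symm }
  let E := AlgHom.equalizer (A.comp (separableClosure k M).val) (B.comp (separableClosure k M).val)
  have hy : y ∈ IntermediateField.adjoin k {θ} := hθ ▸ IntermediateField.mem_top
  rw [← IntermediateField.mem_toSubalgebra,
    IntermediateField.adjoin_simple_toSubalgebra_of_isAlgebraic (Algebra.IsAlgebraic.isAlgebraic θ)] at hy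
  exact (Algebra.adjoin_le (S := E) (by rintro _ rfl; exact hθ')) hy

/-- After an etale extension a geometric point is determined by its prime. -/
theorem exists_etale_radicial [Algebra.QuasiFinite R C] {K : Type u} [Field K]
    (τ : R →+* K) (σ : C →+* K) (h : σ.comp (algebraMap R C) = τ) :
    ∃ (R1 : Type u) (_ : CommRing R1) (_ : Algebra R R1) (_ : Algebra.Etale R R1) (τ1 : R1 →+* K)
      (κ0 : R1 ⊗[R] C →+* K), τ1.comp (algebraMap R R1) = τ ∧
      (∀ x, κ0 (x ⊗ₜ 1) = τ1 x) ∧ (∀ c, κ0 (1 ⊗ₜ c) = σ c) ∧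
      ∀ κ : R1 ⊗[R] C →+* K, (∀ x, κ (x ⊗ₜ 1) = τ1 x) → RingHom.ker κ = RingHom.ker κ0 → κ = κ0 := by
  classical
  let p := RingHom.ker τ
  let q := RingHom.ker σ
  have : p.IsPrime := RingHom.ker_isPrime τ
  have : q.IsPrime := RingHom.ker_isPrime σ
  have hpq : p = q.comap (algebraMap R C) := by rw [RingHom.comap_ker, h]
  let k := p.ResidueField
  let M := q.ResidueField
  let ι : k →+* M := Ideal.ResidueField.map p q (algebraMap R C) hpq
  let := ι.toAlgebra
  have : IsScalarTower R k M := IsScalarTower.of_algebraMap_eq fun x => by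
    show _ = ι _
    rw [show ι (algebraMap R k x) = algebraMap C M (algebraMap R C x) from Ideal.ResidueField.map_algebraMap _ _ _ hpq x]
    exact IsScalarTower.algebraMap_apply R C M x
  have : Algebra.QuasiFinite k M := Algebra.QuasiFinite.of_restrictScalars R k M
  have : Module.Finite k M := Module.Finite.of_quasiFinite
  let σb : M →+* K := Ideal.ResidueField.lift q σ le_rfl fun x hx => isUnit_iff_ne_zero.2 hx
  have hσb : ∀ c, σb (algebraMap C M c) = σ c := fun c => Ideal.ResidueField.lift_algebraMap _ _ _ _ c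
  let := (σb.comp ι).toAlgebra
  obtain ⟨θ, hsep, hext⟩ := exists_separable_generator k M
  have hint : IsIntegral k θ := IsIntegral.of_finite k _
  let g₀ := minpoly k θ
  -- clear the denominators of the coefficients
  obtain ⟨⟨a', ha'⟩, hmul⟩ := IsLocalization.exist_integer_multiples_of_finset (nonZeroDivisors (R ⧸ p)) (g₀.support.image g₀.coeff)
  obtain ⟨a, rfl⟩ := Ideal.Quotient.mk_surjective a'
  have hap : a ∉ p := fun hm => nonZeroDivisors.ne_zero ha' (Ideal.Quotient.eq_zero_iff_mem.2 hm)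
  let Ra := Localization.Away a
  let χ : Ra →+* k := IsLocalization.Away.lift a (g := algebraMap R k)
    (isUnit_iff_ne_zero.2 fun h0 => hap (Ideal.algebraMap_residueField_eq_zero.1 h0))
  have hχ : ∀ x, χ (algebraMap R Ra x) = algebraMap R k x := fun x => IsLocalization.Away.lift_eq _ _ x
  have hlift : g₀ ∈ Polynomial.lifts χ := by
    rw [Polynomial.lifts_iff_coeff_lifts]
    intro n
    by_cases hn : g₀.coeff n = 0
    · exact ⟨0, by rw [map_zero, hn]⟩
    obtain ⟨r', hr'⟩ := hmul _ (Finset.mem_image_of_mem _ (Polynomial.mem_support_iff.2 hn))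
    obtain ⟨r, rfl⟩ := Ideal.Quotient.mk_surjective r'
    refine ⟨algebraMap R Ra r * IsLocalization.Away.invSelf a, ?_⟩
    have ha : algebraMap R k a ≠ 0 := fun h0 => hap (Ideal.algebraMap_residueField_eq_zero.1 h0)
    have hinv : χ (IsLocalization.Away.invSelf a) * algebraMap R k a = 1 := by
      rw [← hχ, ← map_mul, mul_comm, IsLocalization.Away.mul_invSelf, map_one]
    have hr : algebraMap R k r = algebraMap R k a * g₀.coeff n := by
      simp [Algebra.smul_def] at hr'
      exact hr'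
    rw [map_mul, hχ, hr, mul_comm (algebraMap R k a), mul_assoc, mul_comm (algebraMap R k a), hinv, mul_one]
  obtain ⟨g, hg, -, hgm⟩ := Polynomial.lifts_and_degree_eq_and_monic hlift (minpoly.monic hint)
  let P : StandardEtalePair Ra := ⟨g, hgm, g.derivative, 1, 0, 1, by simp⟩
  let := ((algebraMap k K).comp χ).toAlgebra
  have hev : ∀ f : Polynomial Ra, Polynomial.aeval (σb θ) f = σb (Polynomial.aeval θ (f.map χ)) := by
    intro f
    rw [Polynomial.aeval_def, Polynomial.aeval_def, Polynomial.hom_eval₂, Polynomial.eval₂_map]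
    rfl
  have hmap : P.HasMap (σb θ) := by
    refine ⟨?_, ?_⟩
    · show Polynomial.aeval _ g = 0
      rw [hev, hg, minpoly.aeval, map_zero]
    · show IsUnit (Polynomial.aeval _ g.derivative)
      rw [hev, ← Polynomial.derivative_map, hg, isUnit_iff_ne_zero, map_ne_zero]
      exact Polynomial.Separable.aeval_derivative_ne_zero hsep (minpoly.aeval _ _)
  let R1 := P.Ring
  let : Algebra R R1 := ((algebraMap Ra R1).comp (algebraMap R Ra)).toAlgebra
  have : IsScalarTower R Ra R1 := IsScalarTower.of_algebraMap_eq fun _ => rfl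
  have : Algebra.Etale R Ra := Algebra.Etale.of_isLocalizationAway a
  have : Algebra.Etale R R1 := Algebra.Etale.comp R Ra R1
  let τ1 : R1 →+* K := (P.lift _ hmap).toRingHom
  have hτ1 : τ1.comp (algebraMap R R1) = τ := by
    ext x
    show (P.lift _ hmap) (algebraMap Ra R1 (algebraMap R Ra x)) = τ x
    rw [AlgHom.commutes]
    show σb (ι (χ (algebraMap R Ra x))) = τ x
    rw [hχ, show ι (algebraMap R k x) = algebraMap C M (algebraMap R C x) from Ideal.ResidueField.map_algebraMap _ _ _ hpq x,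
      hσb, ← h]
    rfl
  let := τ.toAlgebra
  let τ1' : R1 →ₐ[R] K := { τ1 with commutes' := fun x => DFunLike.congr_fun hτ1 x }
  let σ' : C →ₐ[R] K := { σ with commutes' := fun x => DFunLike.congr_fun h x }
  let κ0 : R1 ⊗[R] C →+* K := (Algebra.TensorProduct.lift τ1' σ' fun _ _ => Commute.all _ _).toRingHom
  have h01 : ∀ x, κ0 (x ⊗ₜ 1) = τ1 x := fun x => by simp [κ0, τ1']
  have h02 : ∀ c, κ0 (1 ⊗ₜ c) = σ c := fun c => by simp [κ0, σ']
  refine ⟨R1, inferInstance, inferInstance, inferInstance, τ1, κ0, hτ1, h01, h02, fun κ hκ1 hκ2 => ?_⟩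
  let σ₂ : C →+* K := κ.comp (Algebra.TensorProduct.includeRight : C →ₐ[R] R1 ⊗[R] C).toRingHom
  have hker : RingHom.ker σ₂ = q := by
    rw [show RingHom.ker σ₂ = (RingHom.ker κ).comap _ from (RingHom.comap_ker _ _).symm, hκ2, RingHom.comap_ker]
    exact congrArg RingHom.ker (RingHom.ext h02)
  have hτ2 : σ₂.comp (algebraMap R C) = τ := RingHom.ext fun x => by
    show κ (1 ⊗ₜ algebraMap R C x) = τ x
    rw [Algebra.algebraMap_eq_smul_one, ← TensorProduct.smul_tmul, ← Algebra.algebraMap_eq_smul_one, hκ1]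
    exact DFunLike.congr_fun hτ1 x
  let σb₂ : M →+* K := Ideal.ResidueField.lift q σ₂ hker.ge fun x hx =>
    isUnit_iff_ne_zero.2 fun h0 => hx (hker.le h0)
  have hσb₂ : ∀ c, σb₂ (algebraMap C M c) = σ₂ c := fun c => Ideal.ResidueField.lift_algebraMap _ _ _ _ c
  have hk : σb₂.comp ι = σb.comp ι := by
    refine Ideal.ResidueField.ringHom_ext (RingHom.ext fun x => ?_)
    show σb₂ (ι (algebraMap R k x)) = σb (ι (algebraMap R k x))
    rw [show ι (algebraMap R k x) = algebraMap C M (algebraMap R C x) from Ideal.ResidueField.map_algebraMap _ _ _ hpq x,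
      hσb, hσb₂]
    exact (DFunLike.congr_fun hτ2 x).trans (DFunLike.congr_fun h x).symm
  have hσθ : σb₂ θ = σb θ := by
    obtain ⟨c₁', c₂', hc₂, hθ'⟩ := IsFractionRing.div_surjective (C ⧸ q) θ
    obtain ⟨c₁, rfl⟩ := Ideal.Quotient.mk_surjective c₁'
    obtain ⟨c₂, rfl⟩ := Ideal.Quotient.mk_surjective c₂'
    have hc₂q : c₂ ∉ q := fun hm => nonZeroDivisors.ne_zero hc₂ (Ideal.Quotient.eq_zero_iff_mem.2 hm)
    rw [Ideal.algebraMap_quotient_residueField_mk, Ideal.algebraMap_quotient_residueField_mk] at hθ'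
    rw [← hθ', map_div₀, map_div₀, hσb, hσb, hσb₂, hσb₂]
    have hθK : σ c₁ / σ c₂ = τ1 P.X := by
      show _ = (P.lift _ hmap) P.X
      rw [StandardEtalePair.lift_X, ← hθ', map_div₀, hσb, hσb]
    have hmem : (P.X : R1) ⊗ₜ[R] c₂ - 1 ⊗ₜ c₁ ∈ RingHom.ker κ0 := by
      rw [RingHom.mem_ker, map_sub, sub_eq_zero, h02,
        show ((P.X : R1) ⊗ₜ[R] c₂) = (P.X ⊗ₜ 1) * (1 ⊗ₜ c₂) by simp, map_mul, h01, h02, ← hθK,
        div_mul_cancel₀ _ hc₂q]
    rw [← hκ2, RingHom.mem_ker, map_sub, sub_eq_zero,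
      show ((P.X : R1) ⊗ₜ[R] c₂) = (P.X ⊗ₜ 1) * (1 ⊗ₜ c₂) by simp, map_mul, hκ1, ← hθK] at hmem
    have hne : σ₂ c₂ ≠ 0 := fun h0 => hc₂q (hker.le h0)
    rw [show σ₂ c₁ = σ c₁ / σ c₂ * σ₂ c₂ from hmem.symm, mul_div_cancel_right₀ _ hne]
  have hσ : σb₂ = σb := hext K σb₂ σb hk hσθ
  refine RingHom.ext fun z => ?_
  induction z with
  | zero => simp
  | tmul x c =>
    have e : (x ⊗ₜ[R] c : R1 ⊗[R] C) = (x ⊗ₜ 1) * (1 ⊗ₜ c) := by simp
    rw [e, map_mul, map_mul, hκ1, h01, h02]
    congr 1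
    show σ₂ c = σ c
    rw [← hσb₂, hσ, hσb]
  | add x y hx hy => rw [map_add, map_add, hx, hy]

/-- An etale neighbourhood splitting off a geometric point of a quasi-finite algebra of finite type. -/
theorem exists_etale_split [Algebra.FiniteType R C] [Algebra.QuasiFinite R C] {K : Type u} [Field K]
    (τ : R →+* K) (σ : C →+* K) (h : σ.comp (algebraMap R C) = τ) :
    ∃ (R' : Type u) (_ : CommRing R') (_ : Algebra R R') (_ : Algebra.Etale R R') (τ' : R' →+* K),
      τ'.comp (algebraMap R R') = τ ∧ ∃ e : R' ⊗[R] C, Module.Finite R' (Localization.Away e) ∧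
        ∀ κ : R' ⊗[R] C →+* K, (∀ x, κ (x ⊗ₜ 1) = τ' x) → (κ e ≠ 0 ↔ ∀ c, κ (1 ⊗ₜ c) = σ c) := by
  obtain ⟨R1, _, _, _, τ1, κ0, hτ1, h01, h02, huniq⟩ := exists_etale_radicial τ σ h
  let p := RingHom.ker τ1
  let q := RingHom.ker κ0
  have : p.IsPrime := RingHom.ker_isPrime τ1
  have : q.IsPrime := RingHom.ker_isPrime κ0
  have : q.LiesOver p := ⟨by
    rw [Ideal.under, RingHom.comap_ker]
    exact congrArg RingHom.ker (RingHom.ext fun x => (h01 x).symm)⟩
  have : Algebra.QuasiFiniteAt R1 q := inferInstanceAs (Algebra.QuasiFinite R1 (Localization.AtPrime q))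
  obtain ⟨R2, _, _, _, P, _, _, e2, -, P', _, _, hP'q, heP', hbij, hfin, huni⟩ :=
    Algebra.exists_etale_isIdempotentElem_forall_liesOver_eq p q
  let : Algebra R R2 := ((algebraMap R1 R2).comp (algebraMap R R1)).toAlgebra
  have : IsScalarTower R R1 R2 := IsScalarTower.of_algebraMap_eq fun _ => rfl
  have : Algebra.Etale R R2 := Algebra.Etale.comp R R1 R2
  let eqv := RingEquiv.ofBijective _ hbij
  let τb : p.ResidueField →+* K := Ideal.ResidueField.lift p τ1 le_rfl fun x hx => isUnit_iff_ne_zero.2 hx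
  let τ2 : R2 →+* K := (τb.comp eqv.symm.toRingHom).comp (algebraMap R2 P.ResidueField)
  have hτ2 : ∀ x, τ2 (algebraMap R1 R2 x) = τ1 x := fun x => by
    have : eqv.symm (algebraMap R2 P.ResidueField (algebraMap R1 R2 x)) = algebraMap R1 p.ResidueField x := by
      rw [RingEquiv.symm_apply_eq]
      show _ = Ideal.ResidueField.mapₐ p P (Algebra.ofId R1 R2) (P.over_def p) (algebraMap R1 p.ResidueField x)
      exact (Ideal.ResidueField.map_algebraMap p P _ _ x).symm
    show τb (eqv.symm _) = _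
    rw [this]
    exact Ideal.ResidueField.lift_algebraMap _ _ _ _ x
  have hkerτ2 : RingHom.ker τ2 = P := by
    rw [RingHom.ker_comp_of_injective _ (τb.comp eqv.symm.toRingHom).injective]
    exact P.ker_algebraMap_residueField
  let cn := Algebra.TensorProduct.cancelBaseChange R R1 R2 R2 C
  refine ⟨R2, inferInstance, inferInstance, inferInstance, τ2, RingHom.ext fun x => ?_, cn e2, ?_, fun κ hκ => ?_⟩
  · show τ2 (algebraMap R1 R2 (algebraMap R R1 x)) = τ x
    rw [hτ2, ← hτ1]
    rfl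
  · let f : Localization.Away e2 →ₐ[R2] Localization.Away (cn e2) :=
      Localization.awayMapₐ cn.toAlgHom e2
    refine Module.Finite.of_surjective f.toLinearMap ?_
    exact Localization.awayMap_surjective_iff.mpr fun x => ⟨cn.symm x, 0, by simp⟩
  let κ1 : R2 ⊗[R1] (R1 ⊗[R] C) →+* K := κ.comp cn.toAlgHom.toRingHom
  have hl : ∀ x, κ1 (x ⊗ₜ 1) = τ2 x := fun x => by
    simp [κ1, cn, Algebra.TensorProduct.one_def, hκ]
  have hr : ∀ x c, κ1 (1 ⊗ₜ (x ⊗ₜ c)) = τ1 x * κ (1 ⊗ₜ c) := fun x c => by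
    simp only [κ1, cn, RingHom.comp_apply, AlgHom.toRingHom_eq_coe, RingHom.coe_coe, AlgEquiv.toAlgHom_apply,
      Algebra.TensorProduct.cancelBaseChange_tmul]
    rw [← hτ2, ← hκ, ← map_mul, Algebra.TensorProduct.tmul_mul_tmul, mul_one, one_mul, Algebra.smul_def, mul_one]
  let κ1' : R1 ⊗[R] C →+* K :=
    κ1.comp (Algebra.TensorProduct.includeRight : (R1 ⊗[R] C) →ₐ[R1] R2 ⊗[R1] (R1 ⊗[R] C)).toRingHom
  have hκ1' : ∀ x, κ1' (x ⊗ₜ 1) = τ1 x := fun x => by
    show κ1 (1 ⊗ₜ (x ⊗ₜ 1)) = _
    rw [hr, hκ, map_one, mul_one]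
  have hP1 : (RingHom.ker κ1).LiesOver P := ⟨by
    rw [Ideal.under, RingHom.comap_ker, ← hkerτ2]
    exact congrArg RingHom.ker (RingHom.ext fun x => (hl x).symm)⟩
  have : (RingHom.ker κ1).IsPrime := RingHom.ker_isPrime κ1
  constructor
  · intro hne c
    have he : RingHom.ker κ1 = P' := huni _ inferInstance inferInstance fun hm => hne hm
    have : κ1' = κ0 := huniq κ1' hκ1' (by
      rw [show RingHom.ker κ1' = (RingHom.ker κ1).comap _ from (RingHom.comap_ker _ _).symm, he]
      exact hP'q)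
    rw [← h02, ← this]
    show _ = κ1 (1 ⊗ₜ (1 ⊗ₜ c))
    rw [hr, map_one, one_mul]
  · intro hc
    have : κ1' = κ0 := RingHom.ext fun z => by
      induction z with
      | zero => simp
      | tmul x c =>
        show κ1 (1 ⊗ₜ (x ⊗ₜ c)) = κ0 (x ⊗ₜ c)
        rw [hr, hc, ← h01, ← h02, ← map_mul, Algebra.TensorProduct.tmul_mul_tmul, mul_one, one_mul]
      | add a b ha hb => rw [map_add, map_add, ha, hb]
    have he : RingHom.ker κ1 = P' := Ideal.eq_of_comap_eq_comap_of_bijective_residueFieldMap hbij _ _ (by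
      rw [RingHom.comap_ker, hP'q]
      exact congrArg RingHom.ker this)
    exact fun h0 => heP' (he ▸ (show κ1 e2 = 0 from h0))

end Groth.L24.Boot
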